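import Groth.Agent.AlgSpLib.FibreProduct
import Groth.Agent.SourceDescent.Basic

/-!
Properties of morphisms of algebraic spaces checked on etale charts.
-/

set_option autoImplicit false
set_option backward.isDefEq.respectTransparency.types false

universe u

open CategoryTheory CategoryTheory.Limits AlgebraicGeometry Opposite AlgSp

namespace Groth.Agent.AlgSpLib

variable {S : Scheme.{u}}

/-- Unramified morphisms are locally quasi-finite. -/
theorem locallyQuasiFinite_of_formallyUnramified {X Y : Scheme.{u}} (f : X ⟶ Y) [LocallyOfFiniteType f]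
    [FormallyUnramified f] : LocallyQuasiFinite f := by
  rw [HasRingHomProperty.iff_appLE (P := @LocallyQuasiFinite)]
  intro U V e
  have h₁ : (f.appLE U V e).hom.FiniteType := HasRingHomProperty.appLE (P := @LocallyOfFiniteType) f ‹_› U V e
  have h₂ : (f.appLE U V e).hom.FormallyUnramified :=
    HasRingHomProperty.appLE (P := @FormallyUnramified) f ‹_› U V e
  algebraize [(f.appLE U V e).hom]
  exact { finite_fiber := fun P _ => Algebra.FormallyUnramified.finite_of_free P.ResidueField _ }

/-- Cancellation for morphisms locally of finite presentation. -/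
theorem locallyOfFinitePresentation_of_comp {X Y Z : Scheme.{u}} (f : X ⟶ Y) (g : Y ⟶ Z)
    (h : LocallyOfFinitePresentation (f ≫ g)) (hg : LocallyOfFiniteType g) : LocallyOfFinitePresentation f := by
  wlog hZ : IsAffine Z generalizing X Y Z
  · rw [IsZariskiLocalAtTarget.iff_of_iSup_eq_top (P := @LocallyOfFinitePresentation) _
      (g.iSup_preimage_eq_top (iSup_affineOpens_eq_top Z))]
    intro U
    have H := IsZariskiLocalAtTarget.restrict (P := @LocallyOfFinitePresentation) h U.1
    rw [morphismRestrict_comp] at H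
    exact this _ (g ∣_ U.1) H (IsZariskiLocalAtTarget.restrict (P := @LocallyOfFiniteType) hg U.1) inferInstance
  wlog hY : IsAffine Y generalizing X Y
  · rw [IsZariskiLocalAtTarget.iff_of_iSup_eq_top (P := @LocallyOfFinitePresentation) _ (iSup_affineOpens_eq_top Y)]
    intro U
    have H := HasRingHomProperty.comp_of_isOpenImmersion @LocallyOfFinitePresentation (f ⁻¹ᵁ U.1).ι (f ≫ g) h
    rw [← morphismRestrict_ι_assoc] at H
    exact this _ (U.1.ι ≫ g) H (HasRingHomProperty.comp_of_isOpenImmersion @LocallyOfFiniteType U.1.ι g hg) inferInstance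
  wlog hX : IsAffine X generalizing X
  · rw [IsZariskiLocalAtSource.iff_of_iSup_eq_top (P := @LocallyOfFinitePresentation) _ (iSup_affineOpens_eq_top X)]
    intro U
    have H := HasRingHomProperty.comp_of_isOpenImmersion @LocallyOfFinitePresentation U.1.ι (f ≫ g) h
    rw [← Category.assoc] at H
    exact this _ H inferInstance
  rw [HasRingHomProperty.iff_of_isAffine (P := @LocallyOfFinitePresentation)] at h ⊢
  rw [HasRingHomProperty.iff_of_isAffine (P := @LocallyOfFiniteType)] at hg
  exact RingHom.FinitePresentation.of_comp_finiteType _ h hg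

/-- Properties of morphisms of schemes that are etale local on the source and target. -/
class EtLocal (P : MorphismProperty Scheme.{u}) : Prop extends P.IsStableUnderBaseChange,
    P.IsStableUnderComposition where
  of_etale : ∀ ⦃A B : Scheme.{u}⦄ (k : A ⟶ B), Etale k → P k
  desc : ∀ ⦃A B C : Scheme.{u}⦄ (k : A ⟶ B) (m : B ⟶ C), Etale k → Surjective k → P (k ≫ m) → P m

instance : EtLocal.{u} @Etale where
  of_etale _ _ _ h := h
  desc _ _ _ k m hk hs h := @SourceDescent.etale_of_comp _ _ _ k m hk hs h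

instance : EtLocal.{u} @Smooth where
  of_etale _ _ k h := by have : Etale k := h; infer_instance
  desc _ _ _ k m hk hs h := by
    have : Etale k := hk
    exact @SourceDescent.smooth_of_comp _ _ _ k m inferInstance hs h

instance : EtLocal.{u} @Flat where
  of_etale _ _ k h := by have : Etale k := h; infer_instance
  desc _ _ _ k m hk hs h := by
    have : Etale k := hk
    exact @SourceDescent.flat_of_comp _ _ _ k m inferInstance hs h

instance : EtLocal.{u} @LocallyOfFiniteType where
  of_etale _ _ k h := by have : Etale k := h; infer_instance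
  desc _ _ _ k m hk hs h := by
    have : Etale k := hk
    exact @SourceDescent.locallyOfFiniteType_of_comp _ _ _ k m inferInstance hs h

instance : EtLocal.{u} @LocallyOfFinitePresentation where
  of_etale _ _ k h := by have : Etale k := h; infer_instance
  desc _ _ _ k m hk hs h := by
    have : Etale k := hk
    exact @SourceDescent.locallyOfFinitePresentation_of_comp _ _ _ k m inferInstance hs h

instance : EtLocal.{u} (@LocallyQuasiFinite ⊓ @LocallyOfFiniteType) where
  of_etale _ _ k h := by have : Etale k := h; exact ⟨locallyQuasiFinite_of_formallyUnramified k, inferInstanceAs (LocallyOfFiniteType k)⟩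
  desc _ _ _ k m hk hs h := by
    have : Etale k := hk
    exact ⟨@SourceDescent.locallyQuasiFinite_of_comp _ _ _ k m inferInstance hs h.1,
      @SourceDescent.locallyOfFiniteType_of_comp _ _ _ k m inferInstance hs h.2⟩

instance : EtLocal.{u} (@LocallyOfFiniteType ⊓ @FormallyUnramified) where
  of_etale _ _ k h := by have : Etale k := h; exact ⟨inferInstanceAs (LocallyOfFiniteType k), inferInstanceAs (FormallyUnramified k)⟩
  desc _ _ _ k m hk hs h := by
    have : Etale k := hk
    exact ⟨@SourceDescent.locallyOfFiniteType_of_comp _ _ _ k m inferInstance hs h.1,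
      @SourceDescent.formallyUnramified_of_comp _ _ _ k m hk hs h.2⟩

theorem etLocal_of_seven {P : MorphismProperty Scheme.{u}}
    (hP : P = @LocallyOfFiniteType ∨ P = @LocallyOfFinitePresentation ∨ P = @Flat ∨ P = @Smooth ∨ P = @Etale ∨
      (∀ ⦃A B : Scheme.{u}⦄ (g : A ⟶ B), P g ↔ (LocallyQuasiFinite g ∧ LocallyOfFiniteType g)) ∨
      (∀ ⦃A B : Scheme.{u}⦄ (g : A ⟶ B), P g ↔ (LocallyOfFiniteType g ∧ FormallyUnramified g))) :
    EtLocal P := by
  obtain rfl | rfl | rfl | rfl | rfl | h | h := hP
  iterate 5 infer_instance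
  · obtain rfl : P = (@LocallyQuasiFinite ⊓ @LocallyOfFiniteType : MorphismProperty Scheme.{u}) := by
      funext A B g; exact propext (h g)
    infer_instance
  · obtain rfl : P = (@LocallyOfFiniteType ⊓ @FormallyUnramified : MorphismProperty Scheme.{u}) := by
      funext A B g; exact propext (h g)
    infer_instance

variable {P : MorphismProperty Scheme.{u}}

theorem EtLocal.comp_etale [EtLocal P] {A B C : Scheme.{u}} (k : A ⟶ B) (m : B ⟶ C) (hk : Etale k) (hm : P m) :
    P (k ≫ m) :=
  P.comp_mem _ _ (EtLocal.of_etale _ hk) hm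

theorem EtLocal.cancel [EtLocal P] {A B C : Scheme.{u}} (k : A ⟶ B) (m : B ⟶ C) (hm : Etale m)
    (h : P (k ≫ m)) : P k :=
  SourceDescent.of_comp_etale (fun _ _ j hj => EtLocal.of_etale j hj) k m h

/-- One chart with surjective source is enough. -/
theorem locP_of_chart [EtLocal P] {F G : Sp S} {f : F ⟶ G} {U V : Over S} {a : (yon S).obj U ⟶ F}
    {b : (yon S).obj V ⟶ G} {h : U ⟶ V} (ha : RepWith @Etale a) (has : RepWith @Surjective a)
    (hb : RepWith @Etale b) (comm : a ≫ f = (yon S).map h ≫ b) (hh : P h.left) : LocP P f := by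
  intro U' V' a' b' h' ha' hb' w'
  obtain ⟨W₁, p, p', sq⟩ := exists_isPullback ha.1 a'
  have hp : Etale p.left := prop_snd sq.flip ha'
  have hp' : Etale p'.left := prop_snd sq ha
  have hps' : Surjective p'.left := prop_snd sq has
  obtain ⟨W₂, r, r', sq₂⟩ := exists_isPullback hb.1 b'
  have hr : Etale r.left := prop_snd sq₂.flip hb'
  have hr' : Etale r'.left := prop_snd sq₂ hb
  have e : (yon S).map (p ≫ h) ≫ b = (yon S).map (p' ≫ h') ≫ b' := by
    simp only [Functor.map_comp, Category.assoc, ← comm, ← w']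
    simp only [← Category.assoc, sq.w]
  obtain ⟨l, hl, hl'⟩ := exists_lift sq₂ ((yon S).map (p ≫ h)) (p' ≫ h') e
  have hl₂ : l ≫ r = p ≫ h := (yon S).map_injective (by rw [Functor.map_comp]; exact hl)
  have h1 : P (l.left ≫ r.left) := by
    rw [← Over.comp_left, hl₂, Over.comp_left]; exact EtLocal.comp_etale _ _ hp hh
  have h2 : P (p'.left ≫ h'.left) := by
    rw [← Over.comp_left, ← hl', Over.comp_left]
    exact P.comp_mem _ _ (EtLocal.cancel _ _ hr h1) (EtLocal.of_etale _ hr')
  exact EtLocal.desc _ _ hp' hps' h2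

/-- A surjective chart diagram over a given chart of the target. -/
theorem exists_chart {F G : Sp S} (hF : IsAlgSpace F) (hG : IsAlgSpace G) (f : F ⟶ G) :
    ∃ (U V : Over S) (a : (yon S).obj U ⟶ F) (b : (yon S).obj V ⟶ G) (h : U ⟶ V),
      RepWith @Etale a ∧ RepWith @Surjective a ∧ RepWith @Etale b ∧ RepWith @Surjective b ∧
      a ≫ f = (yon S).map h ≫ b := by
  obtain ⟨V, b, hb, hbs⟩ := hG.atlas
  obtain ⟨U, a, h, ha, has, w⟩ := exists_chart_lift hF hG f b hb hbs
  exact ⟨U, V, a, b, h, ha, has, hb, hbs, w⟩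

theorem locP_comp [EtLocal P] {F G H : Sp S} (hF : IsAlgSpace F) (hG : IsAlgSpace G) (hH : IsAlgSpace H)
    {f : F ⟶ G} {g : G ⟶ H} (hf : LocP P f) (hg : LocP P g) : LocP P (f ≫ g) := by
  obtain ⟨V, W, b, c, k, hb, hbs, hc, -, wk⟩ := exists_chart hG hH g
  obtain ⟨U, a, h, ha, has, wh⟩ := exists_chart_lift hF hG f b hb hbs
  refine locP_of_chart (U := U) (V := W) (a := a) (b := c) (h := h ≫ k) ha has hc ?_ ?_
  · rw [reassoc_of% wh, wk, Functor.map_comp, Category.assoc]
  · exact P.comp_mem _ _ (hf a b h ha hb wh) (hg b c k hb hc wk)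

theorem locP_baseChange [EtLocal P] {X Y Y' X' : Sp S} (hX : IsAlgSpace X) (hY : IsAlgSpace Y)
    (hY' : IsAlgSpace Y') {f : X ⟶ Y} {g : Y' ⟶ Y} {fst : X' ⟶ X} {f' : X' ⟶ Y'}
    (sq : IsPullback fst f' f g) (hf : LocP P f) : LocP P f' := by
  obtain ⟨U, V, a, b, h, ha, has, hb, -, w⟩ := exists_chart hX hY f
  obtain ⟨V', b', hb', hb's⟩ := hY'.atlas
  obtain ⟨R, r, r', sqR⟩ := exists_isPullback hb.1 (b' ≫ g)
  obtain ⟨W, p, q, sqW⟩ := exists_isPullback (hY.representable_from_yon (a ≫ f)) (b' ≫ g)
  obtain ⟨l, hl, hl'⟩ := exists_lift sqR ((yon S).map (p ≫ h)) q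
    (by rw [Functor.map_comp, Category.assoc, ← w, sqW.w])
  have sqH : IsPullback ((yon S).map p) ((yon S).map l) ((yon S).map h) ((yon S).map r) := by
    refine IsPullback.of_bot ?_ (by rw [hl, Functor.map_comp]) sqR
    rw [← Functor.map_comp, hl', ← w]
    exact sqW
  have hr' : Etale r'.left := prop_snd sqR hb
  have hl₃ : P l.left := P.of_isPullback (left_isPullback (isPullback_of_yon sqH))
    (hf a b h ha hb w)
  refine locP_of_chart (exists_chart_of_isPullback sq sqW ha hb') (exists_chart_of_isPullback sq sqW has hb's)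
    hb' (h := q) (by rw [sq.lift_snd]) ?_
  rw [← hl', Over.comp_left]
  exact P.comp_mem _ _ hl₃ (EtLocal.of_etale _ hr')

theorem locP_iff_repWith [EtLocal P] {F G : Sp S} (hG : IsAlgSpace G) {f : F ⟶ G} (hf : Representable f) :
    LocP P f ↔ RepWith P f := by
  refine ⟨fun h => repWith_of_rep hf fun T X g fst snd sq => ?_,
    fun h => locP_of_repWith h fun A B C k m hk hm => EtLocal.comp_etale k m hk hm⟩
  obtain ⟨V, b, hb, hbs⟩ := hG.atlas
  obtain ⟨Y, snd_b, fst_b, sqb⟩ := hf b
  have hY : P snd_b.left :=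
    h fst_b b snd_b (repWith_baseChange sqb.flip hb) hb sqb.w
  obtain ⟨T', p, q, sqT⟩ := exists_isPullback hb.1 g
  have hq : Etale q.left := prop_snd sqT hb
  have hqs : Surjective q.left := prop_snd sqT hbs
  obtain ⟨X', snd', fst', sq'⟩ := hf ((yon S).map q ≫ g)
  obtain ⟨k, hk, hk'⟩ := exists_lift sq fst' (snd' ≫ q) (by rw [sq'.w, Functor.map_comp, Category.assoc])
  have sqk : IsPullback ((yon S).map k) ((yon S).map snd') ((yon S).map snd) ((yon S).map q) := by
    refine IsPullback.of_right ?_ (by rw [← Functor.map_comp, hk', Functor.map_comp]) sq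
    rw [hk]
    exact sq'
  have sqT' : (yon S).map q ≫ g = (yon S).map p ≫ b := sqT.w.symm
  obtain ⟨j, hj, hj'⟩ := exists_lift sqb fst' (snd' ≫ p)
    (by rw [sq'.w, sqT', Functor.map_comp, Category.assoc])
  have sqj : IsPullback ((yon S).map j) ((yon S).map snd') ((yon S).map snd_b) ((yon S).map p) := by
    refine IsPullback.of_right ?_ (by rw [← Functor.map_comp, hj', Functor.map_comp]) sqb
    rw [hj, ← sqT']
    exact sq'
  have hsnd' : P snd'.left := P.of_isPullback (left_isPullback (isPullback_of_yon sqj)) hY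
  have sqk' := left_isPullback (isPullback_of_yon sqk)
  have hke : Etale k.left := MorphismProperty.of_isPullback (P := @Etale) sqk'.flip hq
  have hks : Surjective k.left := MorphismProperty.of_isPullback (P := @Surjective) sqk'.flip hqs
  refine EtLocal.desc k.left snd.left hke hks ?_
  rw [← Over.comp_left, hk', Over.comp_left]
  exact P.comp_mem _ _ hsnd' (EtLocal.of_etale _ hq)

theorem locP_yon_map_iff [EtLocal P] {U V : Over S} (g : U ⟶ V) : LocP P ((yon S).map g) ↔ P g.left :=
  (locP_iff_repWith (IsAlgSpace.yon_obj V) (representable_yon_map g)).trans (repWith_yon_map_iff P g)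

/-- Target descent along an etale surjective chart. -/
theorem locP_of_target_chart [EtLocal P] {F G Q : Sp S} (hF : IsAlgSpace F) (hG : IsAlgSpace G) {f : F ⟶ G}
    {V : Over S} {b : (yon S).obj V ⟶ G} (hb : RepWith @Etale b) (hbs : RepWith @Surjective b)
    {fst : Q ⟶ F} {snd : Q ⟶ (yon S).obj V} (sq : IsPullback fst snd f b) (h : LocP P snd) : LocP P f := by
  obtain ⟨U, a, α, ha, has, w⟩ := exists_chart_lift hF hG f b hb hbs
  refine locP_of_chart ha has hb w ?_
  obtain ⟨W, q, hq, hqs⟩ := (isAlgSpace_of_isPullback sq hF (IsAlgSpace.yon_obj V) hG).atlas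
  let s := sq.lift a ((yon S).map α) w
  obtain ⟨Z, z₁, z₂, sqZ⟩ := exists_isPullback hq.1 s
  have h₁ : Etale z₂.left := prop_snd sqZ hq
  have h₂ : Surjective z₂.left := prop_snd sqZ hqs
  have hqf : RepWith @Etale (q ≫ fst) := repWith_comp hq (repWith_baseChange sq.flip hb)
  have hz₁ : Etale z₁.left := etale_of_comp_chart (repWith_yon_comp z₂ h₁ ha) hqf z₁ (by
    rw [← Category.assoc, sqZ.w, Category.assoc, sq.lift_fst])
  obtain ⟨β, hβ⟩ := (yon S).map_surjective (q ≫ snd)
  have hPβ : P β.left := h q (𝟙 _) β hq (repWith_id _ V) (by rw [Category.comp_id, hβ])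
  have e : z₁ ≫ β = z₂ ≫ α := (yon S).map_injective (by
    rw [Functor.map_comp, Functor.map_comp, hβ, ← Category.assoc, sqZ.w, Category.assoc, sq.lift_snd])
  refine EtLocal.desc z₂.left α.left h₁ h₂ ?_
  rw [← Over.comp_left, ← e, Over.comp_left]
  exact EtLocal.comp_etale _ _ hz₁ hPβ

/-- Source descent along an etale surjective chart. -/
theorem locP_of_source_chart [EtLocal P] {F G : Sp S} (hG : IsAlgSpace G) {f : F ⟶ G} {U : Over S}
    {a : (yon S).obj U ⟶ F} (ha : RepWith @Etale a) (has : RepWith @Surjective a)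
    (h : LocP P (a ≫ f)) : LocP P f := by
  obtain ⟨U', V, a', b, α, ha', has', hb, -, w⟩ := exists_chart (IsAlgSpace.yon_obj U) hG (a ≫ f)
  refine locP_of_chart (repWith_comp ha' ha) (repWith_comp has' has) hb ?_ (h a' b α ha' hb w)
  rw [Category.assoc]
  exact w

/-- Left cancellation from the corresponding property of schemes. -/
theorem locP_of_comp {Q R : MorphismProperty Scheme.{u}} [EtLocal P] {F G H : Sp S} (hF : IsAlgSpace F)
    (hG : IsAlgSpace G) (hH : IsAlgSpace H) {f : F ⟶ G} {g : G ⟶ H} (hfg : LocP Q (f ≫ g)) (hg : LocP R g)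
    (hcancel : ∀ ⦃A B C : Scheme.{u}⦄ (k : A ⟶ B) (m : B ⟶ C), Q (k ≫ m) → R m → P k) : LocP P f := by
  obtain ⟨V, W, b, c, k, hb, hbs, hc, -, wk⟩ := exists_chart hG hH g
  obtain ⟨U, a, h, ha, has, wh⟩ := exists_chart_lift hF hG f b hb hbs
  refine locP_of_chart ha has hb wh (hcancel _ _ ?_ (hg b c k hb hc wk))
  rw [← Over.comp_left]
  exact hfg a c (h ≫ k) ha hc (by rw [reassoc_of% wh, wk, Functor.map_comp, Category.assoc])

theorem locP_top {F G : Sp S} (f : F ⟶ G) : LocP (⊤ : MorphismProperty Scheme.{u}) f :=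
  fun _ _ _ _ _ _ _ _ => trivial

/-- Etale morphisms in the two senses. -/
theorem isEtaleMor_iff_locP {F G : Sp S} (hG : IsAlgSpace G) {f : F ⟶ G} : IsEtaleMor f ↔ LocP @Etale f := by
  constructor
  · intro h U V a b j ha hb w
    exact etale_of_comp_chart (h a ha) hb j w.symm
  · intro h U φ hφ
    refine (locP_iff_repWith hG (hG.representable_from_yon _)).1 fun U' V a b j ha hb w => ?_
    exact h (a ≫ φ) b j (repWith_comp ha hφ) hb (by rw [Category.assoc]; exact w)

/-- Descent along a surjection of the source. -/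
theorem locP_of_comp_surjective {Q : MorphismProperty Scheme.{u}} [EtLocal P] {X Y Z : Sp S}
    (hX : IsAlgSpace X) (hY : IsAlgSpace Y) (hZ : IsAlgSpace Z) {f : X ⟶ Y} {g : Y ⟶ Z}
    (hs : Function.Surjective (Points.map f)) (hf : LocP Q f) (h : LocP P (f ≫ g))
    (hdesc : ∀ ⦃A B C : Scheme.{u}⦄ (k : A ⟶ B) (m : B ⟶ C), Q k → Surjective k → P (k ≫ m) → P m) :
    LocP P g := by
  obtain ⟨V, W, b, c, k, hb, hbs, hc, -, wk⟩ := exists_chart hY hZ g
  let sq := IsPullback.of_hasPullback f b
  obtain ⟨U, a, ha, has⟩ := (isAlgSpace_of_isPullback sq hX (IsAlgSpace.yon_obj V) hY).atlas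
  obtain ⟨j, hj⟩ := (yon S).map_surjective (a ≫ pullback.snd f b)
  have hj' : (a ≫ pullback.fst f b) ≫ f = (yon S).map j ≫ b := by
    rw [hj, Category.assoc, Category.assoc, sq.w]
  have ha' : RepWith @Etale (a ≫ pullback.fst f b) :=
    repWith_comp ha (repWith_baseChange sq.flip hb)
  have hjs : Surjective j.left := ⟨fun v => by
    obtain ⟨x, hx⟩ := surjective_snd sq hs (Points.ofPt (𝟙 _) v)
    obtain ⟨t, rfl⟩ := surjective_ofPt has x
    refine ⟨t, (Points.schemeEquiv V).injective ?_⟩
    change Points.ofPt (𝟙 _) (j.left t) = Points.ofPt (𝟙 _) v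
    rw [← ofPt_comp, Category.comp_id, hj, ← hx, Points.map_ofPt]⟩
  refine locP_of_chart hb hbs hc wk (hdesc j.left k.left (hf _ b j ha' hb hj') hjs ?_)
  rw [← Over.comp_left]
  exact h _ c (j ≫ k) ha' hc (by rw [← Category.assoc, hj', Category.assoc, wk, Functor.map_comp, Category.assoc])

end Groth.Agent.AlgSpLib
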