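import Groth.Agent.AlgSpLib.RepGlue
import Groth.Agent.S9347

/-!
Descent of immersions: quasi-compact ones along fpqc coverings, all of them along fppf coverings.
-/

set_option autoImplicit false
set_option backward.isDefEq.respectTransparency.types false

universe u

open CategoryTheory CategoryTheory.Limits AlgebraicGeometry Opposite AlgSp Topology

namespace Groth.Agent.AlgSpLib

variable {S : Scheme.{u}}

/-- Preimages under flat maps commute with closures of images of quasi-compact morphisms. -/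
theorem preimage_closure_range {U Z V : Scheme.{u}} (p : U ⟶ Z) [QuasiCompact p] (e : V ⟶ Z) [Flat e] :
    e ⁻¹' closure (Set.range p) = closure (e ⁻¹' Set.range p) := by
  refine (Set.Subset.antisymm (fun v hv => ?_) (e.continuous.closure_preimage_subset _))
  obtain ⟨x, hx⟩ := S9347.exists_specializes_of_mem_closure_range p _ hv
  obtain ⟨v', hv', e'⟩ := Flat.generalizingMap e hx
  exact hv'.mem_closed isClosed_closure (subset_closure ⟨x, e'.symm⟩)

/-- Base change of a sheaf over a scheme to an open containing its image is the identity. -/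
theorem isIso_fst_of_range_subset {T : Over S} {X : Sp S} (π : X ⟶ (yon S).obj T) (O : T.left.Opens)
    (hr : ∀ (W : Over S) (j : W ⟶ T) (w : (yon S).obj W ⟶ X), w ≫ π = (yon S).map j →
      Set.range j.left ⊆ O) : IsIso (pullback.fst π ((yon S).map (openOverι T O))) := by
  have : Mono ((Over.forget S).map (openOverι T O)) := show Mono O.ι from inferInstance
  have : Mono (openOverι T O) := (Over.forget S).mono_of_mono_map this
  have : Mono ((yon S).map (openOverι T O)) := ⟨fun a b h => hom_ext_yon fun W w => by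
    obtain ⟨u', hu⟩ := (yon S).map_surjective (w ≫ a)
    obtain ⟨v', hv⟩ := (yon S).map_surjective (w ≫ b)
    have huv : u' = v' := (cancel_mono (openOverι T O)).1 ((yon S).map_injective
      (by rw [Functor.map_comp, Functor.map_comp, hu, hv, Category.assoc, Category.assoc, h]))
    rw [← hu, ← hv, huv]⟩
  refine isIso_of_mono_of_lifts _ fun W w => ?_
  obtain ⟨j, hj⟩ := (yon S).map_surjective (w ≫ π)
  have hW : Set.range j.left ⊆ Set.range O.ι := by
    rw [Scheme.Opens.range_ι]
    exact hr W j w hj.symm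
  refine ⟨pullback.lift w ((yon S).map (Over.homMk (IsOpenImmersion.lift O.ι j.left hW)
    (by simp only [Over.mk_hom, IsOpenImmersion.lift_fac_assoc, Over.w]) : W ⟶ openOver T O)) ?_,
    pullback.lift_fst _ _ _⟩
  rw [← hj, ← Functor.map_comp]
  congr 1
  ext1
  exact (IsOpenImmersion.lift_fac _ _ _).symm

/-- An immersion descends when the closure of the image pulls back to the closure. -/
theorem exists_isImmersion_of_fpqc {Z V : Over S} (hZ : IsAffine Z.left) (hV : IsAffine V.left) (e : V ⟶ Z)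
    [Flat e.left] [Surjective e.left] {X : Sp S} (hX : IsAlgSpace X) (π : X ⟶ (yon S).obj Z) {W : Over S}
    (w : W ⟶ V) [IsImmersion w.left] (fst : (yon S).obj W ⟶ X)
    (sq : IsPullback fst ((yon S).map w) π ((yon S).map e))
    (hcl : QuasiCompact w.left ∨ IsOpenMap e.left) :
    ∃ (X₀ : Over S) (i : X₀ ⟶ Z) (a : (yon S).obj X₀ ≅ X), a.hom ≫ π = (yon S).map i ∧ IsImmersion i.left := by
  have hs : Function.Surjective (Points.map ((yon S).map e)) := fun x => by
    obtain ⟨t, rfl⟩ := exists_ofScheme x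
    obtain ⟨v, hv⟩ := e.left.surjective t
    exact ⟨Points.ofPt (𝟙 _) v, by rw [Points.map_ofPt, Category.id_comp, ← hv, ← ofPt_comp, Category.comp_id]⟩
  -- the image
  obtain ⟨U, a, ha, has, hUc⟩ : ∃ (U : Over S) (a : (yon S).obj U ⟶ X), RepWith @Etale a ∧ RepWith @Surjective a ∧
      (QuasiCompact w.left → IsAffine U.left) := by
    by_cases hq : QuasiCompact w.left
    · have : CompactSpace ↥W.left := QuasiCompact.compactSpace_of_compactSpace w.left
      have : CompactSpace (Points ((yon S).obj W)) :=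
        (surjective_ofPt (repWith_id @Surjective W)).compactSpace (Points.continuous_ofPt _)
      have : CompactSpace (Points X) :=
        (surjective_snd sq.flip hs).compactSpace (Points.continuous_map _)
      obtain ⟨U, a, hU, ha, has⟩ := exists_affine_chart_of_compactSpace hX
      exact ⟨U, a, ha, has, fun _ => hU⟩
    · obtain ⟨U, a, ha, has⟩ := hX.atlas
      exact ⟨U, a, ha, has, fun h => absurd h hq⟩
  obtain ⟨p, hp⟩ := (yon S).map_surjective (a ≫ π)
  obtain ⟨UV, u₁, u₂, sU⟩ : ∃ (UV : Over S) (u₁ : UV ⟶ U) (u₂ : UV ⟶ V), IsPullback u₁ u₂ p e :=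
    ⟨_, _, _, IsPullback.of_hasPullback p e⟩
  have sU' : IsPullback ((yon S).map u₁) ((yon S).map u₂) (a ≫ π) ((yon S).map e) := hp ▸ yon_isPullback sU
  let aV : (yon S).obj UV ⟶ (yon S).obj W :=
    sq.lift ((yon S).map u₁ ≫ a) ((yon S).map u₂) (by rw [Category.assoc]; exact sU'.w)
  have sa : IsPullback ((yon S).map u₁) aV a fst :=
    IsPullback.of_bot (by rw [sq.lift_snd]; exact sU') (sq.lift_fst _ _ _).symm sq
  obtain ⟨α, hα⟩ := (yon S).map_surjective aV
  have hαs : Surjective α.left :=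
    (repWith_yon_map_iff @Surjective α).1 (hα ▸ repWith_baseChange sa has)
  have hαw : α ≫ w = u₂ := (yon S).map_injective (by rw [Functor.map_comp, hα, sq.lift_snd])
  let E := Set.range p.left
  have hE : e.left ⁻¹' E = Set.range w.left := by
    ext v
    constructor
    · rintro ⟨t, ht⟩
      obtain ⟨s, -, hs₂⟩ := Scheme.exists_preimage_of_isPullback (left_isPullback sU) t v ht
      exact ⟨α.left s, by rw [← Scheme.Hom.comp_apply, ← Over.comp_left, hαw]; exact hs₂⟩
    · rintro ⟨x, rfl⟩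
      obtain ⟨s, rfl⟩ := α.left.surjective x
      refine ⟨u₁.left s, ?_⟩
      rw [← Scheme.Hom.comp_apply, ← Over.comp_left, sU.w, Over.comp_left, Scheme.Hom.comp_apply, ← hαw,
        Over.comp_left, Scheme.Hom.comp_apply]
  have hcl' : e.left ⁻¹' closure E = closure (Set.range w.left) := by
    rw [← hE]
    rcases hcl with hq | ho
    · have : IsAffine U.left := hUc hq
      exact preimage_closure_range p.left e.left
    · exact ho.preimage_closure_eq_closure_preimage e.left.continuous E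
  have hK : IsClosed (closure E \ E) := by
    rw [← (Flat.isQuotientMap_of_surjective e.left).isClosed_preimage, Set.preimage_diff, hcl', hE]
    have := w.left.isLocallyClosed_range.isOpen_coborder
    rw [coborder, isOpen_compl_iff] at this
    exact this
  let O : Z.left.Opens := ⟨(closure E \ E)ᶜ, hK.isOpen_compl⟩
  have hEO : E ⊆ O := fun x hx h => h.2 hx
  -- everything lands in `O`
  let o := openOverι Z O
  have hfst : IsIso (pullback.fst π ((yon S).map o)) := isIso_fst_of_range_subset π O fun T j x hx => by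
    rintro _ ⟨t, rfl⟩
    obtain ⟨s, hs⟩ := surjective_ofPt has (Points.ofPt x t)
    refine hEO ⟨s, (Points.schemeEquiv Z).injective ?_⟩
    change Points.ofPt (𝟙 _) (p.left s) = Points.ofPt (𝟙 _) (j.left t)
    rw [← ofPt_comp, ← ofPt_comp, Category.comp_id, Category.comp_id, hp, ← hx, ← Points.map_ofPt,
      ← Points.map_ofPt, hs]
  -- closed immersion into `O`
  obtain ⟨OV, o₁, o₂, sO⟩ : ∃ (OV : Over S) (o₁ : OV ⟶ V) (o₂ : OV ⟶ openOver Z O), IsPullback o₁ o₂ e o :=
    ⟨_, _, _, IsPullback.of_hasPullback e o⟩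
  have sOl := left_isPullback sO
  have ho₁ : IsOpenImmersion o₁.left :=
    MorphismProperty.of_isPullback (P := @IsOpenImmersion) sOl.flip (show IsOpenImmersion O.ι from inferInstance)
  have hro : Set.range o₁.left = e.left ⁻¹' O := by
    ext v
    constructor
    · rintro ⟨x, rfl⟩
      rw [Set.mem_preimage, ← Scheme.Hom.comp_apply, sOl.w, Scheme.Hom.comp_apply]
      exact (o₂.left x).2
    · intro hv
      obtain ⟨x, hx, -⟩ := Scheme.exists_preimage_of_isPullback sOl v ⟨e.left v, hv⟩ rfl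
      exact ⟨x, hx⟩
  have hwO : Set.range w.left ⊆ Set.range o₁.left := by
    rw [hro, ← hE]
    exact Set.preimage_mono hEO
  let w' : W ⟶ OV := Over.homMk (IsOpenImmersion.lift o₁.left w.left hwO) (by
    rw [← Over.w o₁, IsOpenImmersion.lift_fac_assoc, Over.w w])
  have hw' : w' ≫ o₁ = w := Over.OverMorphism.ext (IsOpenImmersion.lift_fac _ _ _)
  have hwc : IsClosedImmersion w'.left := by
    have : IsPreimmersion (w'.left ≫ o₁.left) := by
      rw [← Over.comp_left, hw']
      infer_instance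
    have : IsPreimmersion w'.left := .of_comp w'.left o₁.left
    refine .of_isPreimmersion _ ?_
    have : Set.range w'.left = o₁.left ⁻¹' closure (Set.range w.left) := by
      ext x
      constructor
      · rintro ⟨y, rfl⟩
        exact subset_closure ⟨y, by rw [← hw']; rfl⟩
      · intro hx
        have h₁ : e.left (o₁.left x) ∈ (O : Set ↥Z.left) := hro.le ⟨x, rfl⟩
        have h₂ : o₁.left x ∈ e.left ⁻¹' closure E := hcl'.ge hx
        have h₃ : o₁.left x ∈ e.left ⁻¹' E := by
          by_contra h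
          exact h₁ ⟨h₂, h⟩
        rw [hE] at h₃
        obtain ⟨y, hy⟩ := h₃
        exact ⟨y, o₁.left.isOpenEmbedding.injective (by rw [← Scheme.Hom.comp_apply, ← Over.comp_left, hw']; exact hy)⟩
    rw [this]
    exact isClosed_closure.preimage o₁.left.continuous
  let πO := pullback.snd π ((yon S).map o)
  have sXO := IsPullback.of_hasPullback π ((yon S).map o)
  have hXO := isAlgSpace_of_isPullback sXO hX (IsAlgSpace.yon_obj _) (IsAlgSpace.yon_obj _)
  let r : (yon S).obj W ⟶ pullback π ((yon S).map o) := sXO.lift fst ((yon S).map (w' ≫ o₂)) (by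
    rw [sq.w, ← Functor.map_comp, ← Functor.map_comp, Category.assoc, ← sO.w, ← Category.assoc, hw'])
  have sr : IsPullback r ((yon S).map w') πO ((yon S).map o₂) := by
    refine IsPullback.of_right ?_ (by rw [sXO.lift_snd, Functor.map_comp]) sXO
    rw [sXO.lift_fst, ← Functor.map_comp, ← sO.w, Functor.map_comp]
    have hsq : IsPullback fst ((yon S).map w' ≫ (yon S).map o₁) π ((yon S).map e) := by
      rw [← Functor.map_comp, hw']
      exact sq
    have : Mono ((Over.forget S).map o₁) := show Mono o₁.left from inferInstance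
    have : Mono o₁ := (Over.forget S).mono_of_mono_map this
    have s₁ : IsPullback (𝟙 W) w' w o₁ := IsPullback.of_isLimit' ⟨by simp [hw']⟩
      (PullbackCone.IsLimit.mk _ (fun s => s.fst) (fun s => Category.comp_id _)
        (fun s => by rw [← cancel_mono o₁, Category.assoc, hw']; exact s.condition)
        (fun s l h₁ _ => by rw [← h₁, Category.comp_id]))
    have := (yon_isPullback s₁).paste_horiz sq
    rwa [(yon S).map_id, Category.id_comp] at this
  have he₂ : IsAffineHom o₂.left ∧ Flat o₂.left ∧ Surjective o₂.left :=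
    ⟨MorphismProperty.of_isPullback sOl (inferInstanceAs (IsAffineHom e.left)),
      MorphismProperty.of_isPullback sOl ‹Flat e.left›, MorphismProperty.of_isPullback sOl ‹Surjective e.left›⟩
  have hci : RepWith @IsClosedImmersion πO :=
    (isLocalOnBase_isClosedImmersion _ _ (IsAlgSpace.yon_obj _) (fun _ => IsAlgSpace.yon_obj OV)
      (isFpqcCover_single o₂ he₂.1 he₂.2.1 he₂.2.2) πO hXO (fun _ => (yon S).obj W)
      (fun _ => (yon S).map w') (fun _ => r) (fun _ => IsAlgSpace.yon_obj W) (fun _ => sr)).2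
      fun _ => (repWith_yon_map_iff @IsClosedImmersion w').2 hwc
  obtain ⟨X₀, i₀, a₀, s₀⟩ := hci.1 (𝟙 _)
  have hi₀ : IsClosedImmersion i₀.left := hci.2 (𝟙 _) a₀ i₀ s₀
  have : IsIso a₀ := MorphismProperty.of_isPullback (P := MorphismProperty.isomorphisms (Sp S)) s₀.flip
    (inferInstanceAs (IsIso (𝟙 _)))
  refine ⟨X₀, i₀ ≫ o, asIso a₀ ≪≫ asIso (pullback.fst π ((yon S).map o)), ?_, ?_⟩
  · rw [Iso.trans_hom, asIso_hom, asIso_hom, Category.assoc, pullback.condition, ← Category.assoc, Functor.map_comp]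
    congr 1
    simpa using s₀.w
  · show IsImmersion (i₀.left ≫ O.ι)
    infer_instance

end Groth.Agent.AlgSpLib

namespace Groth.Agent.AlgSpLib

variable {S : Scheme.{u}}

/-- Pullbacks to the pieces of a finite disjoint union assemble. -/
theorem exists_scheme_sigma {P : MorphismProperty Scheme.{u}} [IsZariskiLocalAtTarget P] {m : ℕ}
    (W : Fin m → Over S) {Z : Over S} (e : sigmaOver W ⟶ Z) {X : Sp S} (b : X ⟶ (yon S).obj Z)
    (h : ∀ j, ∃ (V' : Over S) (v : V' ⟶ W j) (a : (yon S).obj V' ⟶ X),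
      IsPullback a ((yon S).map v) b ((yon S).map (sigmaOverι W j ≫ e)) ∧ P v.left) :
    ∃ (W'' : Over S) (w : W'' ⟶ sigmaOver W) (a : (yon S).obj W'' ⟶ X),
      IsPullback a ((yon S).map w) b ((yon S).map e) ∧ P w.left := by
  choose W' v a sa hv using h
  let W'' := sigmaOver W'
  let w : W'' ⟶ sigmaOver W := Over.homMk (Sigma.desc fun j => (v j).left ≫ (sigmaOverι W j).left)
    (Sigma.hom_ext _ _ fun j => by simp [W'', Over.w])
  have hw : ∀ j, sigmaOverι W' j ≫ w = v j ≫ sigmaOverι W j := fun j => by ext1; exact Sigma.ι_desc _ _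
  have sV := IsPullback.of_hasPullback b ((yon S).map e)
  have hsa : ∀ j, a j ≫ b = ((yon S).map (v j ≫ sigmaOverι W j)) ≫ (yon S).map e := fun j => by
    rw [(sa j).w, ← Functor.map_comp, ← Functor.map_comp, Category.assoc]
  let fj : ∀ j, (yon S).obj (W' j) ⟶ pullback b ((yon S).map e) := fun j =>
    sV.lift (a j) ((yon S).map (v j ≫ sigmaOverι W j)) (hsa j)
  have sj : ∀ j, IsPullback (fj j) ((yon S).map (v j)) (pullback.snd b ((yon S).map e))
      ((yon S).map (sigmaOverι W j)) := fun j => by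
    refine IsPullback.of_right ?_ (by rw [sV.lift_snd, Functor.map_comp]) sV
    rw [sV.lift_fst, ← Functor.map_comp]
    exact sa j
  obtain ⟨hd⟩ := (FinitaryPreExtensive.isUniversal_finiteCoproducts (isColimitSigmaOver W))
    (Cofan.mk _ fj) (Discrete.natTrans fun j => (yon S).map (v j.as)) (pullback.snd b ((yon S).map e))
    (NatTrans.ext (funext fun j => (sj j.as).w.symm)) (NatTrans.Equifibered.of_discrete _) (fun j => sj j.as)
  let θ : (yon S).obj W'' ≅ pullback b ((yon S).map e) := (isColimitSigmaOver W').coconePointUniqueUpToIso hd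
  have hθ : ∀ j, (yon S).map (sigmaOverι W' j) ≫ θ.hom = fj j := fun j =>
    (isColimitSigmaOver W').comp_coconePointUniqueUpToIso_hom hd ⟨j⟩
  have hθw : θ.hom ≫ pullback.snd b ((yon S).map e) = (yon S).map w :=
    Cofan.IsColimit.hom_ext (isColimitSigmaOver W') _ _ fun j => by
      show (yon S).map (sigmaOverι W' j) ≫ _ = (yon S).map (sigmaOverι W' j) ≫ _
      rw [← Category.assoc, hθ, sV.lift_snd, ← Functor.map_comp, hw]
  refine ⟨W'', w, θ.hom ≫ pullback.fst b ((yon S).map e),
    sV.of_iso θ.symm (Iso.refl _) (Iso.refl _) (Iso.refl _) (by simp) (by simp [← hθw]) (by simp) (by simp), ?_⟩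
  rw [IsZariskiLocalAtTarget.iff_of_openCover (P := P) (sigmaOpenCover fun j => (W j).left)]
  intro j
  have s : IsPullback (sigmaOverι W' j) (v j) w (sigmaOverι W j) := isPullback_of_yon (by
    rw [← hθw]
    exact (sj j).of_iso (Iso.refl _) θ.symm (Iso.refl _) (Iso.refl _) (by simp [← hθ j]) (by simp) (by simp) (by simp))
  have := hv j
  rwa [← (left_isPullback s).isoPullback_hom_snd, P.cancel_left_of_respectsIso] at this

/-- A descent criterion from representability over coverings of affines. -/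
theorem repWith_immersion_of_covers {P : MorphismProperty Scheme.{u}} [IsZariskiLocalAtTarget P]
    [P.IsStableUnderBaseChange] {X Y : Sp S} (f : X ⟶ Y) (hX : IsAlgSpace X) (hY : IsAlgSpace Y)
    (h : ∀ ⦃Z : Over S⦄, IsAffine Z.left → ∀ g : (yon S).obj Z ⟶ Y,
      ∃ (m : ℕ) (W : Fin m → Over S) (c : ∀ j, W j ⟶ Z), (∀ j, IsAffine (W j).left) ∧ (∀ j, Flat (c j).left) ∧
        (∀ z : ↥Z.left, ∃ j, z ∈ Set.range (c j).left) ∧
        (∀ j, ∃ (V' : Over S) (v : V' ⟶ W j) (a : (yon S).obj V' ⟶ X),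
          IsPullback a ((yon S).map v) f ((yon S).map (c j) ≫ g) ∧ P v.left) ∧
        ((∀ j, IsOpenMap (c j).left) ∨ ∀ ⦃A B : Scheme.{u}⦄ (k : A ⟶ B), P k → QuasiCompact k))
    (hP : ∀ ⦃A B : Scheme.{u}⦄ (k : A ⟶ B), P k → IsImmersion k)
    (hP' : ∀ ⦃A B C : Scheme.{u}⦄ (i : A ⟶ B) (e : C ⟶ B), Flat e → Surjective e → QuasiCompact e →
      IsImmersion i → P (pullback.snd i e) → P i) :
    RepWith P f := by
  refine repWith_of_affine_targets fun Z hZ g => ?_
  obtain ⟨m, W, c, hW, hf, hs, hl, hopen⟩ := h hZ g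
  let V := sigmaOver W
  have : ∀ j, IsAffine (W j).left := hW
  have hV : IsAffine V.left := inferInstanceAs (IsAffine (∐ fun j => (W j).left))
  let e : V ⟶ Z := Over.homMk (Sigma.desc fun j => (c j).left) (Sigma.hom_ext _ _ fun j => by simp [V])
  have he : ∀ j, sigmaOverι W j ≫ e = c j := fun j => by ext1; exact Sigma.ι_desc _ _
  have : Flat e.left := IsZariskiLocalAtSource.sigmaDesc (P := @Flat) hf
  have : Surjective e.left := ⟨fun z => by
    obtain ⟨j, w, hw⟩ := hs z
    exact ⟨(sigmaOverι W j).left w, by rw [← Scheme.Hom.comp_apply, ← Over.comp_left, he]; exact hw⟩⟩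
  have sT := IsPullback.of_hasPullback f g
  let b := pullback.snd f g
  obtain ⟨W'', w, a, sW, hw⟩ := exists_scheme_sigma (P := P) W e b fun j => by
    obtain ⟨V', v, a, s, hv⟩ := hl j
    refine ⟨V', v, sT.lift a ((yon S).map v ≫ (yon S).map (c j)) (by rw [s.w, Category.assoc]), ?_, hv⟩
    rw [he]
    refine IsPullback.of_right ?_ (sT.lift_snd _ _ _) sT
    rw [sT.lift_fst]
    exact s
  have : IsImmersion w.left := hP _ hw
  obtain ⟨X₀, i, a₀, ha₀, hi⟩ := exists_isImmersion_of_fpqc hZ hV e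
    (isAlgSpace_of_isPullback sT hX (IsAlgSpace.yon_obj Z) hY) b w a sW (by
      rcases hopen with ho | hq
      · refine Or.inr fun O hO => ?_
        have : e.left '' O = ⋃ j, (c j).left '' ((sigmaOverι W j).left ⁻¹' O) := by
          ext z
          simp only [Set.mem_iUnion]
          constructor
          · rintro ⟨v, hv, rfl⟩
            obtain ⟨j, y, rfl⟩ := (sigmaOpenCover fun j => (W j).left).exists_eq v
            exact ⟨j, y, hv, by rw [← he]; rfl⟩
          · rintro ⟨j, y, hy, rfl⟩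
            exact ⟨_, hy, by rw [← he]; rfl⟩
        rw [this]
        exact isOpen_iUnion fun j => ho j _ (hO.preimage (Scheme.Hom.continuous _))
      · exact Or.inl (hq _ hw))
  refine ⟨X₀, i, a₀.hom ≫ pullback.fst f g,
    sT.of_iso a₀.symm (Iso.refl _) (Iso.refl _) (Iso.refl _) (by simp) (by simp [← ha₀, b]) (by simp) (by simp), ?_⟩
  obtain ⟨r, hr⟩ := (yon S).map_surjective (a ≫ a₀.inv)
  have s : IsPullback r w i e := isPullback_of_yon (by
    rw [hr, ← ha₀]
    exact sW.of_iso (Iso.refl _) a₀.symm (Iso.refl _) (Iso.refl _) (by simp) (by simp) (by simp) (by simp))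
  rw [← (left_isPullback s).isoPullback_hom_snd, P.cancel_left_of_respectsIso] at hw
  have : IsAffine V.left := hV
  have : IsAffine Z.left := hZ
  exact hP' i.left e.left ‹_› ‹_› inferInstance hi hw

theorem exists_tests_fppf {ι : Type u} {Y : Sp S} {Yi : ι → Sp S} {g : ∀ i, Yi i ⟶ Y} (hY : IsAlgSpace Y)
    (hYi : ∀ i, IsAlgSpace (Yi i)) (hg : IsFppfCover Yi g) {Z : Over S} (hZ : IsAffine Z.left)
    (k : (yon S).obj Z ⟶ Y) :
    ∃ (m : ℕ) (W : Fin m → Over S) (c : ∀ j, W j ⟶ Z),
      (∀ j, IsAffine (W j).left) ∧ (∀ j, Flat (c j).left) ∧ (∀ j, LocallyOfFinitePresentation (c j).left) ∧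
      (∀ z : ↥Z.left, ∃ j, z ∈ Set.range (c j).left) ∧
      ∀ j, ∃ (i : ι) (l : (yon S).obj (W j) ⟶ Yi i), l ≫ g i = (yon S).map (c j) ≫ k := by
  have key : ∀ z : ↥Z.left, ∃ (W : Over S) (c : W ⟶ Z), IsAffine W.left ∧ Flat c.left ∧
      LocallyOfFinitePresentation c.left ∧ z ∈ Set.range c.left ∧
      ∃ (i : ι) (l : (yon S).obj W ⟶ Yi i), l ≫ g i = (yon S).map c ≫ k := by
    intro z
    obtain ⟨i, y, hy⟩ := hg.2 (Points.ofPt k z)
    have sq := IsPullback.of_hasPullback (g i) k
    obtain ⟨x, -, hx⟩ := exists_point_of_isPullback sq y (Points.ofPt (𝟙 _) z)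
      (by rw [hy, Points.map_ofPt, Category.id_comp])
    have hP := isAlgSpace_of_isPullback sq (hYi i) (IsAlgSpace.yon_obj Z) hY
    obtain ⟨U, a, ha, has⟩ := hP.atlas
    obtain ⟨j, hj⟩ := (yon S).map_surjective (a ≫ pullback.snd (g i) k)
    obtain ⟨t, rfl⟩ := surjective_ofPt has x
    obtain ⟨O, hO, ht, -⟩ := exists_isAffineOpen_mem_and_subset (X := U.left) (x := t) (U := ⊤) trivial
    let o := openOverι U O
    have ha' : RepWith @Etale ((yon S).map o ≫ a) := repWith_yon_comp o (inferInstanceAs (Etale O.ι)) ha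
    have hw : ((yon S).map o ≫ a) ≫ pullback.snd (g i) k = (yon S).map (o ≫ j) ≫ 𝟙 _ := by
      rw [Category.comp_id, Functor.map_comp, hj, Category.assoc]
    refine ⟨openOver U O, o ≫ j, hO,
      locP_baseChange (hYi i) hY (IsAlgSpace.yon_obj Z) sq (hg.1 i).1 _ _ _ ha' (repWith_id _ Z) hw,
      locP_baseChange (hYi i) hY (IsAlgSpace.yon_obj Z) sq (hg.1 i).2 _ _ _ ha' (repWith_id _ Z) hw,
      ⟨⟨t, ht⟩, (Points.schemeEquiv Z).injective ?_⟩, i, (yon S).map o ≫ a ≫ pullback.fst (g i) k, ?_⟩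
    · change Points.ofPt (𝟙 _) ((o ≫ j).left ⟨t, ht⟩) = Points.ofPt (𝟙 _) z
      rw [← ofPt_comp, Category.comp_id, Functor.map_comp, hj, ← hx, Points.map_ofPt, ofPt_comp]
      rfl
    · rw [Category.assoc, Category.assoc, sq.w, Functor.map_comp, hj]
      simp only [Category.assoc]
  choose W c hW hf hp hz hl using key
  have : IsAffine Z.left := hZ
  obtain ⟨s, hs⟩ := isCompact_univ.elim_finite_subcover (fun z => Set.range (c z).left)
    (fun z => by
      have := hf z
      have := hp z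
      exact (c z).left.isOpenMap.isOpen_range) (fun z _ => Set.mem_iUnion.2 ⟨z, hz z⟩)
  let σ : Fin s.card → ↥Z.left := fun j => (s.equivFin.symm j).1
  refine ⟨s.card, fun j => W (σ j), fun j => c (σ j), fun j => hW _, fun j => hf _, fun j => hp _, fun z => ?_,
    fun j => hl _⟩
  obtain ⟨z', hz', hzz⟩ := Set.mem_iUnion₂.1 (hs (Set.mem_univ z))
  refine ⟨s.equivFin ⟨z', hz'⟩, ?_⟩
  beta_reduce
  rw [show σ (s.equivFin ⟨z', hz'⟩) = z' from congrArg Subtype.val (s.equivFin.symm_apply_apply ⟨z', hz'⟩)]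
  exact hzz

variable (S)

theorem isFpqcCover_of_isFppfCover {ι : Type u} {Y : Sp S} {Yi : ι → Sp S} {g : ∀ i, Yi i ⟶ Y}
    (hY : IsAlgSpace Y) (hYi : ∀ i, IsAlgSpace (Yi i)) (hg : IsFppfCover Yi g) : IsFpqcCover Yi g :=
  ⟨fun i => (hg.1 i).1, fun Z hZ k => by
    obtain ⟨m, W, c, hW, hf, -, hs, hl⟩ := exists_tests_fppf hY hYi hg hZ k
    exact ⟨m, W, c, hW, hf, hs, hl⟩⟩

theorem isLocalOnBase_fppf_isImmersion : IsLocalOnBase (IsFppfCover (S := S)) (RepWith @IsImmersion) := by
  intro ι Y Yi g hY hYi hg X f hX Xi p q hXi sq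
  refine ⟨fun h i => repWith_baseChange (sq i) h, fun h => ?_⟩
  refine repWith_immersion_of_covers f hX hY (fun Z hZ k => ?_) (fun _ _ _ hk => hk)
    fun _ _ _ _ _ _ _ _ hi _ => hi
  obtain ⟨m, W, c, hW, hf, hp, hs, hl⟩ := exists_tests_fppf hY hYi hg hZ k
  refine ⟨m, W, c, hW, hf, hs, fun j => ?_, Or.inl fun j => ?_⟩
  · obtain ⟨i, l, hli⟩ := hl j
    obtain ⟨V', v, a, sv⟩ := (h i).1 l
    exact ⟨V', v, a ≫ q i, hli ▸ sv.paste_horiz (sq i), (h i).2 l a v sv⟩
  · have := hf j
    have := hp j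
    exact (c j).left.isOpenMap

theorem isLocalOnBase_fpqc_qc_isImmersion :
    IsLocalOnBase (IsFpqcCover (S := S)) (RepWith (@IsImmersion ⊓ @QuasiCompact)) := by
  intro ι Y Yi g hY hYi hg X f hX Xi p q hXi sq
  refine ⟨fun h i => repWith_baseChange (sq i) h, fun h => ?_⟩
  refine repWith_immersion_of_covers f hX hY (fun Z hZ k => ?_) (fun _ _ _ hk => hk.1)
    fun A B C i e hf hs hq hi hP => ⟨hi, ?_⟩
  · obtain ⟨m, W, c, hW, hf, hs, hl⟩ := hg.2 Z hZ k
    refine ⟨m, W, c, hW, hf, hs, fun j => ?_, Or.inr fun _ _ _ hk => hk.2⟩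
    obtain ⟨i, l, hli⟩ := hl j
    obtain ⟨V', v, a, sv⟩ := (h i).1 l
    exact ⟨V', v, a ≫ q i, hli ▸ sv.paste_horiz (sq i), (h i).2 l a v sv⟩
  · have := Groth.Agent.FpqcDescent.quasiCompact_descendsAlong.{u}
    exact MorphismProperty.of_pullback_snd_of_descendsAlong (P := @QuasiCompact)
      (Q := @Surjective ⊓ @Flat ⊓ @QuasiCompact) ⟨⟨hs, hf⟩, hq⟩ hP.2

end Groth.Agent.AlgSpLib
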