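import Groth.Agent.AlgSpLib.FpqcTest

/-!
fpqc locality on the base of properties defined through base changes on spaces of points.
-/

set_option autoImplicit false
set_option backward.isDefEq.respectTransparency.types false

universe u

open CategoryTheory CategoryTheory.Limits AlgebraicGeometry Opposite AlgSp Topology

namespace Groth.Agent.AlgSpLib

variable {S : Scheme.{u}} {ι : Type u} {X Y : Sp S} {Yi Xi : ι → Sp S} {g : ∀ i, Yi i ⟶ Y} {f : X ⟶ Y}
  {p : ∀ i, Xi i ⟶ Yi i} {q : ∀ i, Xi i ⟶ X}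

/-- Over a test, the base change of `f` is a base change of some member. -/
theorem exists_square_of_isTest (sq : ∀ i, IsPullback (q i) (p i) f (g i)) {Z : Sp S} {k : Z ⟶ Y}
    {W : Over S} {ψ : (yon S).obj W ⟶ Z} (hW : IsTest g k W ψ) {P : Sp S} {a : P ⟶ X}
    {b : P ⟶ (yon S).obj W} (sP : IsPullback a b f (ψ ≫ k)) :
    ∃ (i : ι) (l : (yon S).obj W ⟶ Yi i) (r : P ⟶ Xi i), IsPullback r b (p i) l ∧ r ≫ q i = a ∧ l ≫ g i = ψ ≫ k := by
  obtain ⟨-, i, l, hl⟩ := hW
  refine ⟨i, l, (sq i).lift a (b ≫ l) (by rw [sP.w, Category.assoc, hl]), ?_, (sq i).lift_fst _ _ _, hl⟩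
  refine IsPullback.of_right ?_ ((sq i).lift_snd _ _ _) (sq i)
  rw [(sq i).lift_fst, hl]
  exact sP

theorem univSp_baseChange {Q : MorphismProperty (Sp S)} {X' Y' : Sp S} {fst : X' ⟶ X} {f' : X' ⟶ Y'}
    {g' : Y' ⟶ Y} (h : UnivSp Q f) (sq : IsPullback fst f' f g') : UnivSp Q f' :=
  fun _ _ hZ k a b sP => h hZ (k ≫ g') (a ≫ fst) b (sP.paste_horiz sq)

/-- The hypothesis a property must satisfy. -/
def DescendsOnPoints (Q : MorphismProperty (Sp S)) : Prop :=
  ∀ ⦃ι : Type u⦄ ⦃Y : Sp S⦄ ⦃Yi : ι → Sp S⦄ (g : ∀ i, Yi i ⟶ Y), IsFpqcCover Yi g →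
    ∀ ⦃Z Z' : Sp S⦄ (snd : Z' ⟶ Z) (k : Z ⟶ Y), IsAlgSpace Z → IsAlgSpace Z' →
      (∀ (W : Over S) (ψ : (yon S).obj W ⟶ Z), IsTest g k W ψ → Q (pullback.snd snd ψ)) → Q snd

theorem isLocalOnBase_univSp {Q : MorphismProperty (Sp S)} (hQ : DescendsOnPoints Q) :
    IsLocalOnBase (IsFpqcCover (S := S)) (UnivSp Q) := by
  intro ι Y Yi g hY hYi hg X f hX Xi p q hXi sq
  refine ⟨fun h i => univSp_baseChange h (sq i), fun h Z Z' hZ k a b sP => ?_⟩
  refine hQ g hg b k hZ (isAlgSpace_of_isPullback sP hX hZ hY) fun W ψ hW => ?_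
  obtain ⟨i, l, r, sr, -⟩ :=
    exists_square_of_isTest sq hW ((IsPullback.of_hasPullback b ψ).paste_horiz sP)
  exact h i (IsAlgSpace.yon_obj W) l r _ sr

variable {Z Z' : Sp S} (snd : Z' ⟶ Z)

theorem preimage_image_eq {W : Sp S} (ψ : W ⟶ Z) (C : Set (Points Z')) :
    Points.map ψ ⁻¹' (Points.map snd '' C) =
      Points.map (pullback.snd snd ψ) '' (Points.map (pullback.fst snd ψ) ⁻¹' C) := by
  ext w
  constructor
  · rintro ⟨x, hx, e⟩
    obtain ⟨z, hz, hz'⟩ := exists_point_of_isPullback (IsPullback.of_hasPullback snd ψ) x w e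
    exact ⟨z, by rw [Set.mem_preimage, hz]; exact hx, hz'⟩
  · rintro ⟨z, hz, rfl⟩
    refine ⟨_, hz, ?_⟩
    rw [← Points.map_comp, pullback.condition, Points.map_comp]

theorem descendsOnPoints_isOpenMor : DescendsOnPoints (IsOpenMor (S := S)) :=
  fun _ _ _ _ hg _ _ snd k hZ _ h O hO => isOpen_of_tests hg hZ k _ fun W ψ hW => by
    rw [preimage_image_eq]
    exact h W ψ hW _ (hO.preimage (Points.continuous_map _))

theorem descendsOnPoints_isClosedMor : DescendsOnPoints (IsClosedMor (S := S)) :=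
  fun _ _ _ _ hg _ _ snd k hZ _ h C hC => isClosed_of_tests hg hZ k _ fun W ψ hW => by
    rw [preimage_image_eq]
    exact h W ψ hW _ (hC.preimage (Points.continuous_map _))

theorem descendsOnPoints_injective :
    DescendsOnPoints (S := S) (fun _ _ f => Function.Injective (Points.map f)) := by
  intro ι Y Yi g hg Z Z' snd k hZ hZ' h x₁ x₂ e
  obtain ⟨W, ψ, hW, w, hw⟩ := exists_test_point hg hZ k (Points.map snd x₁)
  have sq := IsPullback.of_hasPullback snd ψ
  obtain ⟨z₁, hz₁, hz₁'⟩ := exists_point_of_isPullback sq x₁ w hw.symm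
  obtain ⟨z₂, hz₂, hz₂'⟩ := exists_point_of_isPullback sq x₂ w (e.symm.trans hw.symm)
  rw [← hz₁, ← hz₂, h W ψ hW (hz₁'.trans hz₂'.symm)]

theorem descendsOnPoints_surjective :
    DescendsOnPoints (S := S) (IsSurjectiveMor (S := S)) := by
  intro ι Y Yi g hg Z Z' snd k hZ hZ' h z
  obtain ⟨W, ψ, hW, w, rfl⟩ := exists_test_point hg hZ k z
  obtain ⟨y, rfl⟩ := h W ψ hW w
  exact ⟨Points.map (pullback.fst snd ψ) y, by rw [← Points.map_comp, pullback.condition, Points.map_comp]⟩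

theorem descendsOnPoints_isSubmersiveMor : DescendsOnPoints (IsSubmersiveMor (S := S)) := by
  intro ι Y Yi g hg Z Z' snd k hZ hZ' h
  refine (isQuotientMap_iff _).2 ⟨isCoinducing_iff.2 fun O => ⟨fun hO => ?_, fun hO => hO.preimage (Points.continuous_map _)⟩,
    descendsOnPoints_surjective g hg snd k hZ hZ' fun W ψ hW => (h W ψ hW).surjective⟩
  refine isOpen_of_tests hg hZ k O fun W ψ hW => ?_
  rw [← (h W ψ hW).isOpen_preimage]
  convert hO.preimage (Points.continuous_map (pullback.fst snd ψ)) using 1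
  ext y
  simp only [Set.mem_preimage, ← Points.map_comp, pullback.condition]

theorem descendsOnPoints_isHomeomorph :
    DescendsOnPoints (S := S) (fun _ _ f => IsHomeomorph (Points.map f)) := fun _ _ _ g hg _ _ snd k hZ hZ' h =>
  ⟨Points.continuous_map _,
    descendsOnPoints_isOpenMor g hg snd k hZ hZ' fun W ψ hW => (h W ψ hW).isOpenMap,
    ⟨descendsOnPoints_injective g hg snd k hZ hZ' fun W ψ hW => (h W ψ hW).injective,
      descendsOnPoints_surjective g hg snd k hZ hZ' fun W ψ hW => (h W ψ hW).surjective⟩⟩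

theorem isLocalOnBase_isQuasiCompactMor : IsLocalOnBase (IsFpqcCover (S := S)) IsQuasiCompactMor := by
  intro ι Y Yi g hY hYi hg X f hX Xi p q hXi sq
  refine ⟨fun h i Z Z' hZ hq k a b sP => h hZ hq (k ≫ g i) (a ≫ q i) b (sP.paste_horiz (sq i)),
    fun h Z Z' hZ hq k a b sP => ?_⟩
  have hZ' := isAlgSpace_of_isPullback sP hX hZ hY
  obtain ⟨m, W, ψ, hW, hs⟩ := exists_finite_tests hg hZ hq k
  rw [isQuasiCompactSp_iff_compactSpace hZ']
  have hc : ∀ j, CompactSpace (Points (pullback b (ψ j))) := fun j => by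
    obtain ⟨i, l, r, sr, -⟩ :=
      exists_square_of_isTest sq (hW j) ((IsPullback.of_hasPullback b (ψ j)).paste_horiz sP)
    refine compactSpace_points_of_isQuasiCompactSp (h i (IsAlgSpace.yon_obj (W j)) ?_ l r _ sr)
    have : IsAffine (W j).left := (hW j).1
    exact ⟨W j, 𝟙 _, repWith_id _ _, repWith_id _ _, inferInstanceAs (CompactSpace ↥(W j).left)⟩
  refine ⟨?_⟩
  convert isCompact_iUnion fun j => isCompact_range (Points.continuous_map (pullback.fst b (ψ j)))
  refine (Set.eq_univ_of_forall fun x => ?_).symm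
  obtain ⟨j, w, hw⟩ := hs (Points.map b x)
  obtain ⟨z, hz, -⟩ := exists_point_of_isPullback (IsPullback.of_hasPullback b (ψ j)) x w hw.symm
  exact Set.mem_iUnion.2 ⟨j, z, hz⟩

end Groth.Agent.AlgSpLib
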