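import Groth.Agent.SourceDescent.Basic
import Mathlib

/-!
fpqc descent of flatness and quasi-finiteness; a criterion local on affine opens.
-/

set_option autoImplicit false
set_option backward.isDefEq.respectTransparency.types false

universe u

open CategoryTheory CategoryTheory.Limits AlgebraicGeometry MorphismProperty TensorProduct

namespace Groth.Agent.AlgSpLib

theorem codescendsAlong_quasiFinite :
    RingHom.CodescendsAlong RingHom.QuasiFinite.{u, u} RingHom.FaithfullyFlat := by
  apply RingHom.CodescendsAlong.mk _ RingHom.QuasiFinite.respectsIso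
  introv hff hqf
  rw [RingHom.faithfullyFlat_algebraMap_iff] at hff
  rw [RingHom.quasiFinite_algebraMap] at hqf ⊢
  refine ⟨fun P hP => ?_⟩
  obtain ⟨Q, hQ⟩ := PrimeSpectrum.comap_surjective_of_faithfullyFlat (A := R) (B := S) ⟨P, hP⟩
  have : Q.asIdeal.LiesOver P := ⟨(congrArg PrimeSpectrum.asIdeal hQ).symm⟩
  let := Localization.AtPrime.algebraOfLiesOver P Q.asIdeal
  let e : Q.asIdeal.Fiber (S ⊗[R] T) ≃ₐ[Q.asIdeal.ResidueField]
      Q.asIdeal.ResidueField ⊗[P.ResidueField] (P.Fiber T) :=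
    (Algebra.TensorProduct.cancelBaseChange _ _ _ _ _).trans
      (Algebra.TensorProduct.cancelBaseChange _ _ _ _ _).symm
  have : Module.Finite Q.asIdeal.ResidueField (Q.asIdeal.ResidueField ⊗[P.ResidueField] (P.Fiber T)) :=
    Module.Finite.of_surjective e.toLinearMap e.surjective
  exact Module.Finite.of_finite_tensorProduct_of_faithfullyFlat Q.asIdeal.ResidueField

theorem locallyQuasiFinite_descendsAlong :
    DescendsAlong @LocallyQuasiFinite.{u} (@Surjective ⊓ @Flat ⊓ @QuasiCompact : MorphismProperty Scheme.{u}) :=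
  HasRingHomProperty.descendsAlong_flat codescendsAlong_quasiFinite

theorem flat_descendsAlong :
    DescendsAlong @Flat.{u} (@Surjective ⊓ @Flat ⊓ @QuasiCompact : MorphismProperty Scheme.{u}) := by
  apply DescendsAlong.mk'
  intro X Y Z f g _ hf hfst
  have : Flat f := hf.1.2
  have : Surjective f := hf.1.1
  have : Flat (pullback.fst f g) := hfst
  have : Surjective (pullback.snd f g) := MorphismProperty.pullback_snd _ _ ‹_›
  have : Flat (pullback.snd f g ≫ g) := by rw [← pullback.condition]; infer_instance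
  exact SourceDescent.flat_of_comp (pullback.snd f g) g

/-- A criterion local on affine opens of the target. -/
theorem of_fpqc_local {P : MorphismProperty Scheme.{u}} [IsZariskiLocalAtTarget P]
    [P.DescendsAlong (@Surjective ⊓ @Flat ⊓ @QuasiCompact)] {U V : Scheme.{u}} (h : U ⟶ V)
    (H : ∀ Z : V.Opens, IsAffineOpen Z → ∃ (m : ℕ) (W : Fin m → Scheme.{u}) (c : ∀ j, W j ⟶ Z.toScheme),
      (∀ j, IsAffine (W j)) ∧ (∀ j, Flat (c j)) ∧ (∀ z, ∃ j, z ∈ Set.range (c j)) ∧
      ∀ j, P (pullback.snd h (c j ≫ Z.ι))) : P h := by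
  rw [IsZariskiLocalAtTarget.iff_of_iSup_eq_top (P := P) _ (iSup_affineOpens_eq_top V)]
  intro Z
  obtain ⟨m, W, c, hW, hf, hs, hP⟩ := H Z.1 Z.2
  let p : ∐ W ⟶ Z.1.toScheme := Sigma.desc c
  have hp : ∀ j, Sigma.ι W j ≫ p = c j := fun j => Sigma.ι_desc _ _
  have : Flat p := IsZariskiLocalAtSource.sigmaDesc hf
  have : Surjective p := ⟨fun v => by
    obtain ⟨j, w, hw⟩ := hs v
    exact ⟨Sigma.ι W j w, by rw [← Scheme.Hom.comp_apply, hp]; exact hw⟩⟩
  have : IsAffine Z.1.toScheme := Z.2
  refine of_pullback_fst_of_descendsAlong (P := P) (Q := @Surjective ⊓ @Flat ⊓ @QuasiCompact) (f := p)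
    ⟨⟨‹_›, ‹_›⟩, inferInstance⟩ ?_
  rw [IsZariskiLocalAtTarget.iff_of_openCover (P := P) (sigmaOpenCover W)]
  intro j
  have s₁ := (IsPullback.of_hasPullback (pullback.fst p (h ∣_ Z.1)) (Sigma.ι W j)).flip.paste_vert
    (IsPullback.of_hasPullback p (h ∣_ Z.1))
  have s₂ := s₁.flip.paste_horiz (isPullback_morphismRestrict h Z.1).flip
  rw [hp] at s₂
  have := hP j
  rwa [← P.cancel_left_of_respectsIso s₂.isoPullback.hom, s₂.isoPullback_hom_snd] at this

end Groth.Agent.AlgSpLib
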