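import Groth.Agent.AlgSpLib.LocP
import Groth.Agent.AlgSpLib.SchFpqc
import Groth.Agent.AlgSpLib.FpqcLocalUniv

/-!
fpqc locality on the base of the properties `LocP P`.
-/

set_option autoImplicit false
set_option backward.isDefEq.respectTransparency.types false

universe u

open CategoryTheory CategoryTheory.Limits AlgebraicGeometry Opposite AlgSp

namespace Groth.Agent.AlgSpLib

variable {S : Scheme.{u}} {P : MorphismProperty Scheme.{u}}

theorem isLocalOnBase_locP [EtLocal P] [IsZariskiLocalAtTarget P]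
    [P.DescendsAlong (@Surjective ⊓ @Flat ⊓ @QuasiCompact)] :
    IsLocalOnBase (IsFpqcCover (S := S)) (LocP P) := by
  intro ι Y Yi g hY hYi hg X f hX Xi p q hXi sq
  refine ⟨fun h i => locP_baseChange hX hY (hYi i) (sq i) h, fun h => ?_⟩
  obtain ⟨V, b, hb, hbs⟩ := hY.atlas
  have sV := IsPullback.of_hasPullback f b
  have hXV := isAlgSpace_of_isPullback sV hX (IsAlgSpace.yon_obj V) hY
  obtain ⟨U, a, ha, has⟩ := hXV.atlas
  obtain ⟨j, hj⟩ := (yon S).map_surjective (a ≫ pullback.snd f b)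
  refine locP_of_chart (a := a ≫ pullback.fst f b) (h := j) (repWith_comp ha (repWith_baseChange sV.flip hb))
    (repWith_comp has (repWith_baseChange sV.flip hbs)) hb
    (by rw [Category.assoc, sV.w, ← Category.assoc, hj]) ?_
  refine of_fpqc_local j.left fun Z hZ => ?_
  let Z' : Over S := Over.mk (Z.ι ≫ V.hom)
  let e : Z' ⟶ V := Over.homMk Z.ι rfl
  obtain ⟨m, W, c, hf, hs, hT⟩ := exists_tests_affine hg b (V := Z') hZ ((yon S).map e)
  refine ⟨m, fun k => (W k).left, fun k => (c k).left, fun k => (hT k).1, hf, hs, fun k => ?_⟩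
  let ψ : (yon S).obj (W k) ⟶ (yon S).obj V := (yon S).map (c k) ≫ (yon S).map e
  have sW := IsPullback.of_hasPullback (pullback.snd f b) ψ
  obtain ⟨i, l, r, sr, -⟩ := exists_square_of_isTest sq (hT k) (sW.paste_horiz sV)
  have hP : LocP P (pullback.snd (pullback.snd f b) ψ) :=
    locP_baseChange (hXi i) (hYi i) (IsAlgSpace.yon_obj (W k)) sr (h i)
  let w : W k ⟶ V := c k ≫ e
  obtain ⟨U', u₁, u₂, sU⟩ : ∃ (U' : Over S) (u₁ : U' ⟶ U) (u₂ : U' ⟶ W k), IsPullback u₁ u₂ j w :=
    ⟨_, _, _, IsPullback.of_hasPullback j w⟩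
  have sU' : IsPullback ((yon S).map u₁) ((yon S).map u₂) (a ≫ pullback.snd f b) ψ := by
    rw [← hj, show ψ = (yon S).map w from ((yon S).map_comp _ _).symm]
    exact yon_isPullback sU
  let a' : (yon S).obj U' ⟶ pullback (pullback.snd f b) ψ := sW.lift ((yon S).map u₁ ≫ a) ((yon S).map u₂)
    (by rw [Category.assoc]; exact sU'.w)
  have sa : IsPullback ((yon S).map u₁) a' a (pullback.fst (pullback.snd f b) ψ) :=
    IsPullback.of_bot (by rw [sW.lift_snd]; exact sU') (sW.lift_fst _ _ _).symm sW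
  have hu : P u₂.left := hP a' (𝟙 _) u₂ (repWith_baseChange sa ha) (repWith_id _ (W k))
    (by rw [sW.lift_snd, Category.comp_id])
  have sL := left_isPullback sU
  rwa [← sL.isoPullback_hom_snd, P.cancel_left_of_respectsIso] at hu

theorem isLocalOnBase_and {τ : CovNotion S} {P Q : MorphismProperty (Sp S)} (hP : IsLocalOnBase τ P)
    (hQ : IsLocalOnBase τ Q) : IsLocalOnBase τ (fun _ _ f => P f ∧ Q f) := by
  intro ι Y Yi g hY hYi hg X f hX Xi p q hXi sq
  have e₁ := hP Yi g hY hYi hg f hX Xi p q hXi sq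
  have e₂ := hQ Yi g hY hYi hg f hX Xi p q hXi sq
  exact ⟨fun h i => ⟨e₁.1 h.1 i, e₂.1 h.2 i⟩, fun h => ⟨e₁.2 fun i => (h i).1, e₂.2 fun i => (h i).2⟩⟩

attribute [instance] flat_descendsAlong locallyQuasiFinite_descendsAlong

end Groth.Agent.AlgSpLib
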