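import Groth.Agent.AlgSpLib.AffineDescent
import Groth.Agent.FpqcDescent.Affine
import Mathlib

/-!
fpqc locality on the base of properties of morphisms representable by affine schemes.
-/

set_option autoImplicit false
set_option backward.isDefEq.respectTransparency.types false

universe u

open CategoryTheory CategoryTheory.Limits AlgebraicGeometry Opposite AlgSp

namespace Groth.Agent.AlgSpLib

variable {S : Scheme.{u}}

theorem isSeparatedMor_yon_of_isAffine {W V : Over S} (w : W ⟶ V) (hW : IsAffine W.left) (hV : IsAffine V.left) :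
    RepWith @IsClosedImmersion (pullback.diagonal ((yon S).map w)) := by
  rw [diagonal_yon_map]
  refine repWith_yon_comp (P := @IsClosedImmersion) _ ?_ (repWith_iso _)
  exact (diagonal_left_iff (P := @IsClosedImmersion) w).2 inferInstance

theorem isSeparatedMor_yon_of_isSeparated {W V : Over S} (w : W ⟶ V) [IsSeparated w.left] :
    RepWith @IsClosedImmersion (pullback.diagonal ((yon S).map w)) := by
  rw [diagonal_yon_map]
  refine repWith_yon_comp (P := @IsClosedImmersion) _ ?_ (repWith_iso _)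
  exact (diagonal_left_iff (P := @IsClosedImmersion) w).2 inferInstance

/-- The affine model, for a base change to an affine flat surjection. -/
theorem exists_model_of_fpqc {Z V : Over S} (hZ : IsAffine Z.left) (hV : IsAffine V.left) (e : V ⟶ Z)
    [Flat e.left] [Surjective e.left] {X : Sp S} (hX : IsAlgSpace X) (π : X ⟶ (yon S).obj Z) {W : Over S}
    (hW : W.left.IsQuasiAffine) (w : W ⟶ V) (fst : (yon S).obj W ⟶ X)
    (sq : IsPullback fst ((yon S).map w) π ((yon S).map e)) :
    ∃ (Y YV : Over S) (y : Y ⟶ Z) (yu : YV ⟶ Y) (φX : X ⟶ (yon S).obj Y) (γ : W ⟶ YV),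
      IsAffine Y.left ∧ φX ≫ (yon S).map y = π ∧
      IsAffineHom yu.left ∧ Flat yu.left ∧ Surjective yu.left ∧
      IsPullback fst ((yon S).map γ) φX ((yon S).map yu) ∧
      IsOpenImmersion γ.left ∧ (IsAffine W.left → IsIso γ.left) := by
  have hs : Function.Surjective (Points.map ((yon S).map e)) := fun x => by
    obtain ⟨t, rfl⟩ := exists_ofScheme x
    obtain ⟨v, hv⟩ := e.left.surjective t
    exact ⟨Points.ofPt (𝟙 _) v, by rw [Points.map_ofPt, Category.id_comp, ← hv, ← ofPt_comp, Category.comp_id]⟩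
  have : CompactSpace (Points ((yon S).obj W)) :=
    (surjective_ofPt (repWith_id @Surjective W)).compactSpace (Points.continuous_ofPt _)
  have : CompactSpace (Points X) :=
    (surjective_snd sq.flip hs).compactSpace (Points.continuous_map _)
  have := Groth.Agent.FpqcDescent.isClosedImmersion_descendsAlong.{u}
  have hcov := isFpqcCover_single e inferInstance inferInstance inferInstance
  have hsep : RepWith @IsClosedImmersion (pullback.diagonal π) :=
    repWith_diagonal_of_fpqc hcov hX (p := fun _ => (yon S).map w) (fun _ => sq)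
      fun _ => isSeparatedMor_yon_of_isSeparated w
  let Z' : Over S := Over.mk (Z.left.isoSpec.inv ≫ Z.hom)
  let iZ : Z' ≅ Z := Over.isoMk Z.left.isoSpec.symm rfl
  obtain ⟨φ, hφ⟩ := Spec.map_surjective (V.left.isoSpec.inv ≫ e.left ≫ Z.left.isoSpec.hom)
  have : Flat (Spec.map φ) := by rw [hφ]; infer_instance
  have : Surjective (Spec.map φ) := by rw [hφ]; infer_instance
  have hj₀ : Spec.map φ ≫ Z.left.isoSpec.inv = V.left.isoSpec.inv ≫ e.left := by
    rw [Iso.comp_inv_eq, hφ, Category.assoc]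
  let j : Over.mk (Spec.map φ ≫ Z'.hom) ≅ V := Over.isoMk V.left.isoSpec.symm (by
    show V.left.isoSpec.inv ≫ V.hom = Spec.map φ ≫ Z.left.isoSpec.inv ≫ Z.hom
    rw [← Category.assoc, hj₀, Category.assoc, Over.w e])
  have hj : (Over.homMk (Spec.map φ) rfl : Over.mk (Spec.map φ ≫ Z'.hom) ⟶ Over.mk Z'.hom) ≫ iZ.hom
      = j.hom ≫ e := Over.OverMorphism.ext hj₀
  let π' : X ⟶ (yon S).obj Z' := π ≫ (yon S).map iZ.inv
  have sπ : IsPullback (𝟙 X) π' π ((yon S).map iZ.hom) :=
    IsPullback.of_horiz_isIso ⟨by simp [π', ← Functor.map_comp]⟩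
  have sq' : IsPullback fst ((yon S).map (w ≫ j.inv)) π'
      ((yon S).map (Over.homMk (Spec.map φ) rfl : Over.mk (Spec.map φ ≫ Z'.hom) ⟶ Over.mk Z'.hom)) := by
    refine sq.of_iso (Iso.refl _) (Iso.refl _) ((yon S).mapIso j).symm ((yon S).mapIso iZ).symm (by simp) (by simp)
      (by simp [π']) ?_
    simp only [Functor.mapIso_inv, Iso.symm_hom]
    rw [← Functor.map_comp, ← Functor.map_comp]
    congr 1
    rw [Iso.eq_inv_comp, ← Category.assoc, Iso.comp_inv_eq]
    exact hj.symm
  obtain ⟨Y, YV, y, yu, φX, γ, hY, hφ, h₁, h₂, h₃, h₄, h₅, h₆⟩ :=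
    exists_spec_model φ Z'.hom hX π' (repWith_diagonal_baseChange sπ hsep) hW (w ≫ j.inv) fst sq'
  refine ⟨Y, YV, y ≫ iZ.hom, yu, φX, γ, hY, ?_, h₁, h₂, h₃, h₄, h₅, h₆⟩
  rw [Functor.map_comp, ← Category.assoc, hφ]
  simp [π', ← Functor.map_comp]

/-- Affineness of algebraic spaces over an affine scheme descends along affine flat surjections. -/
theorem exists_affine_of_fpqc {Z V : Over S} (hZ : IsAffine Z.left) (hV : IsAffine V.left) (e : V ⟶ Z)
    [Flat e.left] [Surjective e.left] {X : Sp S} (hX : IsAlgSpace X) (π : X ⟶ (yon S).obj Z) {W : Over S}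
    (hW : IsAffine W.left) (w : W ⟶ V) (fst : (yon S).obj W ⟶ X)
    (sq : IsPullback fst ((yon S).map w) π ((yon S).map e)) :
    ∃ X₀ : Over S, IsAffine X₀.left ∧ Nonempty ((yon S).obj X₀ ≅ X) := by
  obtain ⟨Y, YV, y, yu, φX, γ, hY, -, hy, hyf, hys, sψ, -, hγ⟩ :=
    exists_model_of_fpqc hZ hV e hX π inferInstance w fst sq
  have : IsIso ((Over.forget S).map γ) := hγ hW
  have : IsIso γ := isIso_of_reflects_iso γ (Over.forget S)
  have hiso : IsIso φX := (isLocalOnBase_isomorphisms S _ _ (IsAlgSpace.yon_obj Y) (fun _ => IsAlgSpace.yon_obj YV)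
    (isFpqcCover_single yu hy hyf hys) φX hX (fun _ => (yon S).obj W) (fun _ => (yon S).map γ) (fun _ => fst)
    (fun _ => IsAlgSpace.yon_obj W) (fun _ => sψ)).2 fun _ => inferInstanceAs (IsIso ((yon S).map γ))
  exact ⟨Y, hY, ⟨(asIso φX).symm⟩⟩

/-- Representable by affine schemes with property `P` over affines. -/
def AffRep (P : MorphismProperty Scheme.{u}) : MorphismProperty (Sp S) := fun F G f =>
  ∀ ⦃Z : Over S⦄, IsAffine Z.left → ∀ (g : (yon S).obj Z ⟶ G),
    ∃ (W : Over S) (i : W ⟶ Z) (fst : (yon S).obj W ⟶ F),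
      IsPullback fst ((yon S).map i) f g ∧ IsAffine W.left ∧ P i.left

variable {P : MorphismProperty Scheme.{u}} [IsZariskiLocalAtTarget P]
  [P.DescendsAlong (@Surjective ⊓ @Flat ⊓ @QuasiCompact)]

theorem isLocalOnBase_affRep : IsLocalOnBase (IsFpqcCover (S := S)) (AffRep P) := by
  intro ι Y Yi g hY hYi hg X f hX Xi p q hXi sq
  constructor
  · intro h i Z hZ k
    obtain ⟨W, j, fst, s, hW, hP⟩ := h hZ (k ≫ g i)
    refine ⟨W, j, (sq i).lift fst ((yon S).map j ≫ k) (by rw [Category.assoc, s.w]), ?_, hW, hP⟩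
    refine IsPullback.of_right ?_ ((sq i).lift_snd _ _ _) (sq i)
    rw [(sq i).lift_fst]
    exact s
  intro h Z hZ k
  have sT := IsPullback.of_hasPullback f k
  let b := pullback.snd f k
  have hT := isAlgSpace_of_isPullback sT hX (IsAlgSpace.yon_obj Z) hY
  obtain ⟨m, W, c, hf, hs, hTst⟩ := exists_tests_affine hg k (V := Z) hZ (𝟙 _)
  have : ∀ j, IsAffine (W j).left := fun j => (hTst j).1
  have key : ∀ (V : Over S) (ψ : (yon S).obj V ⟶ (yon S).obj Z), IsTest g k V ψ →
      ∃ (V' : Over S) (v : V' ⟶ V) (fst : (yon S).obj V' ⟶ pullback f k),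
        IsPullback fst ((yon S).map v) b ψ ∧ IsAffine V'.left ∧ P v.left := by
    intro V ψ hψ
    obtain ⟨i, l, r, sr, -, -⟩ :=
      exists_square_of_isTest sq hψ ((IsPullback.of_hasPullback b ψ).paste_horiz sT)
    obtain ⟨V', v, a, sa, hV', hP⟩ := h i hψ.1 l
    refine ⟨V', v, (sa.isoIsPullback _ _ sr).hom ≫ pullback.fst b ψ, ?_, hV', hP⟩
    exact (IsPullback.of_hasPullback b ψ).of_iso (sa.isoIsPullback _ _ sr).symm (Iso.refl _) (Iso.refl _)
      (Iso.refl _) (by simp) (by simp) (by simp) (by simp)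
  choose W' v a sa hW' hP using fun j => key (W j) _ (hTst j)
  let V := sigmaOver W
  let e : V ⟶ Z := Over.homMk (Sigma.desc fun j => (c j).left) (Sigma.hom_ext _ _ fun j => by simp [V])
  have he : ∀ j, sigmaOverι W j ≫ e = c j := fun j => by ext1; exact Sigma.ι_desc _ _
  have : Flat e.left := IsZariskiLocalAtSource.sigmaDesc (P := @Flat) hf
  have : Surjective e.left := ⟨fun z => by
    obtain ⟨j, w, hw⟩ := hs z
    exact ⟨(sigmaOverι W j).left w, by rw [← Scheme.Hom.comp_apply, ← Over.comp_left, he]; exact hw⟩⟩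
  let W'' := sigmaOver W'
  let w : W'' ⟶ V := Over.homMk (Sigma.desc fun j => (v j).left ≫ (sigmaOverι W j).left)
    (Sigma.hom_ext _ _ fun j => by simp [W'', V, Over.w])
  have hw : ∀ j, sigmaOverι W' j ≫ w = v j ≫ sigmaOverι W j := fun j => by ext1; exact Sigma.ι_desc _ _
  have sV := IsPullback.of_hasPullback b ((yon S).map e)
  have hsa : ∀ j, a j ≫ b = ((yon S).map (v j ≫ sigmaOverι W j)) ≫ (yon S).map e := fun j => by
    rw [← Functor.map_comp, Category.assoc, he, (sa j).w, Category.comp_id, ← Functor.map_comp]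
  let fj : ∀ j, (yon S).obj (W' j) ⟶ pullback b ((yon S).map e) := fun j =>
    sV.lift (a j) ((yon S).map (v j ≫ sigmaOverι W j)) (hsa j)
  have sj : ∀ j, IsPullback (fj j) ((yon S).map (v j)) (pullback.snd b ((yon S).map e))
      ((yon S).map (sigmaOverι W j)) := fun j => by
    refine IsPullback.of_right ?_ (by rw [sV.lift_snd, Functor.map_comp]) sV
    rw [sV.lift_fst, ← Functor.map_comp, he]
    simpa using sa j
  obtain ⟨hd⟩ := (FinitaryPreExtensive.isUniversal_finiteCoproducts (isColimitSigmaOver W))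
    (Cofan.mk _ fj) (Discrete.natTrans fun j => (yon S).map (v j.as)) (pullback.snd b ((yon S).map e))
    (NatTrans.ext (funext fun j => (sj j.as).w.symm)) (NatTrans.Equifibered.of_discrete _) (fun j => sj j.as)
  let θ : (yon S).obj W'' ≅ pullback b ((yon S).map e) := (isColimitSigmaOver W').coconePointUniqueUpToIso hd
  have hθ : ∀ j, (yon S).map (sigmaOverι W' j) ≫ θ.hom = fj j := fun j =>
    (isColimitSigmaOver W').comp_coconePointUniqueUpToIso_hom hd ⟨j⟩
  have hθw : θ.hom ≫ pullback.snd b ((yon S).map e) = (yon S).map w :=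
    Cofan.IsColimit.hom_ext (isColimitSigmaOver W') _ _ fun j => by
      show (yon S).map (sigmaOverι W' j) ≫ _ = (yon S).map (sigmaOverι W' j) ≫ _
      rw [← Category.assoc, hθ, sV.lift_snd, ← Functor.map_comp, hw]
  have sW : IsPullback (θ.hom ≫ pullback.fst b ((yon S).map e)) ((yon S).map w) b ((yon S).map e) :=
    sV.of_iso θ.symm (Iso.refl _) (Iso.refl _) (Iso.refl _) (by simp) (by simp [← hθw]) (by simp) (by simp)
  obtain ⟨X₀, hX₀, ⟨i₀⟩⟩ := exists_affine_of_fpqc hZ (inferInstanceAs (IsAffine (∐ fun j => (W j).left))) e hT b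
    (inferInstanceAs (IsAffine (∐ fun j => (W' j).left))) w _ sW
  obtain ⟨i, hi⟩ := (yon S).map_surjective (i₀.hom ≫ b)
  refine ⟨X₀, i, i₀.hom ≫ pullback.fst f k,
    sT.of_iso i₀.symm (Iso.refl _) (Iso.refl _) (Iso.refl _) (by simp) (by simp [hi, b]) (by simp) (by simp),
    hX₀, ?_⟩
  refine of_fpqc_local i.left fun O hO => ?_
  let O' : Over S := Over.mk (O.ι ≫ Z.hom)
  let o : O' ⟶ Z := Over.homMk O.ι rfl
  obtain ⟨n, T, d, hfd, hsd, hd⟩ := exists_tests_affine hg k (V := O') hO ((yon S).map o)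
  refine ⟨n, fun l => (T l).left, fun l => (d l).left, fun l => (hd l).1, hfd, hsd, fun l => ?_⟩
  obtain ⟨V', v', a', sa', -, hP'⟩ := key (T l) _ (hd l)
  obtain ⟨r, hr⟩ := (yon S).map_surjective (a' ≫ i₀.inv)
  have s : IsPullback r v' i (d l ≫ o) := isPullback_of_yon (by
    rw [hr, hi, Functor.map_comp]
    exact sa'.of_iso (Iso.refl _) i₀.symm (Iso.refl _) (Iso.refl _) (by simp) (by simp) (by simp) (by simp))
  have sL := left_isPullback s
  rwa [← sL.isoPullback_hom_snd, P.cancel_left_of_respectsIso] at hP'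

end Groth.Agent.AlgSpLib
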