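import Groth.Agent.AlgSpLib.LocP
import Groth.Prelude.Def_AlgSpCov

/-!
Locality on the source for coverings of algebraic spaces; openness from charts.
-/

set_option autoImplicit false
set_option backward.isDefEq.respectTransparency.types false

universe u

open CategoryTheory CategoryTheory.Limits AlgebraicGeometry Opposite AlgSp

namespace Groth.Agent.AlgSpLib

variable {S : Scheme.{u}} {P M : MorphismProperty Scheme.{u}}

/-- Descent along a jointly surjective family of the source. -/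
theorem locP_of_cover [EtLocal P] [IsZariskiLocalAtSource P] [IsZariskiLocalAtSource M] {ι : Type u}
    {X Y : Sp S} {Xi : ι → Sp S} {g : ∀ i, Xi i ⟶ X} (hX : IsAlgSpace X) (hY : IsAlgSpace Y)
    (hXi : ∀ i, IsAlgSpace (Xi i)) (hsurj : ∀ x : Points X, ∃ i, x ∈ Set.range (Points.map (g i)))
    (hg : ∀ i, LocP M (g i)) {f : X ⟶ Y} (h : ∀ i, LocP P (g i ≫ f))
    (hdesc : ∀ ⦃A B C : Scheme.{u}⦄ (k : A ⟶ B) (m : B ⟶ C), M k → Surjective k → P (k ≫ m) → P m) :
    LocP P f := by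
  obtain ⟨V, W, b, c, k, hb, hbs, hc, -, wk⟩ := exists_chart hX hY f
  have key : ∀ v : V.left, ∃ (U : Scheme.{u}) (j : U ⟶ V.left),
      M j ∧ P (j ≫ k.left) ∧ v ∈ Set.range j := by
    intro v
    obtain ⟨i, y, hy⟩ := hsurj (Points.ofPt b v)
    let sq := IsPullback.of_hasPullback (g i) b
    obtain ⟨z, -, hz⟩ := exists_point_of_isPullback sq y (Points.ofPt (𝟙 _) v)
      (by rw [hy, Points.map_ofPt, Category.id_comp])
    obtain ⟨U, a, ha, has⟩ := (isAlgSpace_of_isPullback sq (hXi i) (IsAlgSpace.yon_obj V) hX).atlas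
    obtain ⟨j, hj⟩ := (yon S).map_surjective (a ≫ pullback.snd (g i) b)
    have hj' : (a ≫ pullback.fst (g i) b) ≫ g i = (yon S).map j ≫ b := by
      rw [hj, Category.assoc, Category.assoc, sq.w]
    have ha' : RepWith @Etale (a ≫ pullback.fst (g i) b) :=
      repWith_comp ha (repWith_baseChange sq.flip hb)
    refine ⟨U.left, j.left, hg i _ b j ha' hb hj', ?_, ?_⟩
    · rw [← Over.comp_left]
      exact h i _ c (j ≫ k) ha' hc (by
        rw [← Category.assoc, hj', Category.assoc, wk, Functor.map_comp, Category.assoc])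
    · obtain ⟨t, rfl⟩ := surjective_ofPt has z
      refine ⟨t, (Points.schemeEquiv V).injective ?_⟩
      change Points.ofPt (𝟙 _) (j.left t) = Points.ofPt (𝟙 _) v
      rw [← ofPt_comp, Category.comp_id, hj, ← hz, Points.map_ofPt]
  choose U j hjM hjP hjv using key
  let p : ∐ U ⟶ V.left := Sigma.desc j
  have hp : ∀ v, Sigma.ι U v ≫ p = j v := fun v => Sigma.ι_desc _ _
  refine locP_of_chart hb hbs hc wk (hdesc p k.left ?_ ⟨fun v => ?_⟩ ?_)
  · rw [IsZariskiLocalAtSource.iff_of_openCover (P := M) (sigmaOpenCover _)]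
    intro v
    show M (Sigma.ι U v ≫ p)
    rw [hp]
    exact hjM v
  · obtain ⟨t, ht⟩ := hjv v
    exact ⟨Sigma.ι U v t, by rw [← Scheme.Hom.comp_apply, hp]; exact ht⟩
  · rw [IsZariskiLocalAtSource.iff_of_openCover (P := P) (sigmaOpenCover _)]
    intro v
    show P (Sigma.ι U v ≫ p ≫ k.left)
    rw [← Category.assoc, hp]
    exact hjP v

/-- An fpqc covering is jointly surjective on points. -/
theorem surjective_of_isFpqcCover {ι : Type u} {X : Sp S} {Yi : ι → Sp S} {g : ∀ i, Yi i ⟶ X}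
    (h : IsFpqcCover Yi g) (x : Points X) : ∃ i, x ∈ Set.range (Points.map (g i)) := by
  obtain ⟨p, rfl⟩ := Points.mk_surjective x
  let T := p.pt
  let hT : (yon S).obj T ⟶ X := (J S).uliftYonedaEquiv.symm p.val
  obtain ⟨m, W, c, -, -, hc, hl⟩ := h.2 T (inferInstanceAs (IsAffine (Spec (CommRingCat.of p.K)))) hT
  let z : ↥T.left := IsLocalRing.closedPoint p.K
  have hx : Points.mk p = Points.ofPt hT z := by
    obtain ⟨y, hy, hy'⟩ : ∃ y : Points ((yon S).obj T), Points.map hT y = Points.mk p ∧ y = Points.ofPt (𝟙 _) z := by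
      refine ⟨Points.mk ⟨p.K, p.str, (J S).uliftYonedaEquiv (𝟙 ((yon S).obj T))⟩, ?_, ?_⟩
      · rw [Points.map_mk]
        refine congrArg Points.mk ?_
        show (⟨p.K, p.str, hT.hom.app _ ((J S).uliftYonedaEquiv (𝟙 _))⟩ : FieldPt X) = p
        rw [← GrothendieckTopology.uliftYonedaEquiv_comp, Category.id_comp, Equiv.apply_symm_apply]
        rfl
      · obtain ⟨t, ht⟩ := exists_ofScheme (Points.mk ⟨p.K, p.str, (J S).uliftYonedaEquiv (𝟙 ((yon S).obj T))⟩)
        rw [← ht]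
        exact congrArg _ (Subsingleton.elim (α := ↥(Spec (CommRingCat.of p.K))) t z)
    rw [← hy, hy', Points.map_ofPt, Category.id_comp]
  obtain ⟨j, w, hw⟩ := hc z
  obtain ⟨i, l, hli⟩ := hl j
  refine ⟨i, Points.ofPt l w, ?_⟩
  rw [hx, Points.map_ofPt, hli, ofPt_comp, hw]

/-- Openness on points from openness on charts. -/
theorem isOpenMap_map_of_locP {X Y : Sp S} (hX : IsAlgSpace X) (hY : IsAlgSpace Y) {f : X ⟶ Y}
    (h : LocP P f) (hP : ∀ ⦃A B : Scheme.{u}⦄ (k : A ⟶ B), P k → IsOpenMap k) :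
    IsOpenMap (Points.map f) := by
  intro O hO
  obtain ⟨U, V, a, b, j, ha, has, hb, -, w⟩ := exists_chart hX hY f
  have e : Points.map f '' O = Points.ofPt b '' (j.left '' (Points.ofPt a ⁻¹' O)) := by
    ext y
    constructor
    · rintro ⟨x, hx, rfl⟩
      obtain ⟨t, rfl⟩ := surjective_ofPt has x
      exact ⟨j.left t, ⟨t, hx, rfl⟩, by rw [Points.map_ofPt, w, ofPt_comp]⟩
    · rintro ⟨_, ⟨t, ht, rfl⟩, rfl⟩
      exact ⟨_, ht, by rw [Points.map_ofPt, w, ofPt_comp]⟩
  rw [e]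
  exact isOpenMap_ofPt_of_etale hb _ (hP _ (h a b j ha hb w) _ (hO.preimage (Points.continuous_ofPt a)))

/-- Universal openness from charts. -/
theorem isUnivOpenMor_of_locP [EtLocal P] {X Y : Sp S} (hX : IsAlgSpace X) (hY : IsAlgSpace Y) {f : X ⟶ Y}
    (h : LocP P f) (hP : ∀ ⦃A B : Scheme.{u}⦄ (k : A ⟶ B), P k → IsOpenMap k) : IsUnivOpenMor f :=
  fun _ _ hZ _ _ _ sq =>
    isOpenMap_map_of_locP (isAlgSpace_of_isPullback sq hX hZ hY) hZ (locP_baseChange hX hY hZ sq h) hP

instance : EtLocal.{u} (@Flat ⊓ @LocallyOfFinitePresentation) where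
  of_etale _ _ k h := ⟨EtLocal.of_etale (P := @Flat) k h, EtLocal.of_etale (P := @LocallyOfFinitePresentation) k h⟩
  desc _ _ _ k m hk hs h := ⟨EtLocal.desc (P := @Flat) k m hk hs h.1,
    EtLocal.desc (P := @LocallyOfFinitePresentation) k m hk hs h.2⟩

theorem isOpenMap_of_flat_lfp ⦃A B : Scheme.{u}⦄ (k : A ⟶ B)
    (h : (@Flat ⊓ @LocallyOfFinitePresentation : MorphismProperty Scheme.{u}) k) : IsOpenMap k := by
  have : Flat k := h.1
  have : LocallyOfFinitePresentation k := h.2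
  exact k.isOpenMap

/-- Locality on the source of openness. -/
theorem isOpenMor_iff_of_cover {ι : Type u} {X Y : Sp S} {Xi : ι → Sp S} {g : ∀ i, Xi i ⟶ X}
    (hsurj : ∀ x : Points X, ∃ i, x ∈ Set.range (Points.map (g i))) (hg : ∀ i, IsOpenMap (Points.map (g i)))
    (f : X ⟶ Y) : IsOpenMor f ↔ ∀ i, IsOpenMor (g i ≫ f) := by
  have e : ∀ i, Points.map (g i ≫ f) = Points.map f ∘ Points.map (g i) := fun i => funext fun x => Points.map_comp _ _ x
  constructor
  · intro h i
    show IsOpenMap _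
    rw [e]
    exact IsOpenMap.comp h (hg i)
  · intro h O hO
    have : Points.map f '' O = ⋃ i, Points.map (g i ≫ f) '' (Points.map (g i) ⁻¹' O) := by
      ext y
      simp only [Set.mem_iUnion, e, Set.image_comp]
      constructor
      · rintro ⟨x, hx, rfl⟩
        obtain ⟨i, t, rfl⟩ := hsurj x
        exact ⟨i, _, ⟨t, hx, rfl⟩, rfl⟩
      · rintro ⟨i, _, ⟨t, ht, rfl⟩, rfl⟩
        exact ⟨_, ht, rfl⟩
    rw [this]
    exact isOpen_iUnion fun i => h i _ (hO.preimage (Points.continuous_map _))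

theorem locP_inf {Q : MorphismProperty Scheme.{u}} {X Y : Sp S} {f : X ⟶ Y} (h₁ : LocP P f) (h₂ : LocP Q f) :
    LocP (P ⊓ Q) f :=
  fun _ _ a b j ha hb w => ⟨h₁ a b j ha hb w, h₂ a b j ha hb w⟩

theorem isUnivOpenMor_comp {X Y Z : Sp S} (hX : IsAlgSpace X) (hY : IsAlgSpace Y) (hZ : IsAlgSpace Z)
    {f : X ⟶ Y} {g : Y ⟶ Z} (hf : IsUnivOpenMor f) (hg : IsUnivOpenMor g) : IsUnivOpenMor (f ≫ g) := by
  intro W W' hW h fst snd sq
  let sg := IsPullback.of_hasPullback g h
  let l : W' ⟶ pullback g h := pullback.lift (fst ≫ f) snd (by rw [Category.assoc, sq.w])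
  have sl : IsPullback fst l f (pullback.fst g h) :=
    IsPullback.of_bot (by rw [pullback.lift_snd]; exact sq) (pullback.lift_fst _ _ _).symm sg
  have h₁ : IsOpenMap (Points.map l) := hf (isAlgSpace_of_isPullback sg hY hW hZ) _ _ _ sl
  have h₂ : IsOpenMap (Points.map (pullback.snd g h)) := hg hW _ _ _ sg
  show IsOpenMap (Points.map snd)
  rw [show snd = l ≫ pullback.snd g h from (pullback.lift_snd _ _ _).symm]
  have e : Points.map (l ≫ pullback.snd g h) = Points.map (pullback.snd g h) ∘ Points.map l :=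
    funext fun x => Points.map_comp _ _ x
  rw [e]
  exact h₂.comp h₁

/-- Locality on the source of universal openness, for flat and locally finitely presented coverings. -/
theorem isUnivOpenMor_iff_of_cover {ι : Type u} {X Y : Sp S} {Xi : ι → Sp S} {g : ∀ i, Xi i ⟶ X}
    (hX : IsAlgSpace X) (hY : IsAlgSpace Y) (hXi : ∀ i, IsAlgSpace (Xi i))
    (hsurj : ∀ x : Points X, ∃ i, x ∈ Set.range (Points.map (g i)))
    (hg : ∀ i, LocP (@Flat ⊓ @LocallyOfFinitePresentation) (g i))
    (f : X ⟶ Y) : IsUnivOpenMor f ↔ ∀ i, IsUnivOpenMor (g i ≫ f) := by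
  refine ⟨fun h i => isUnivOpenMor_comp (hXi i) hX hY
    (isUnivOpenMor_of_locP (hXi i) hX (hg i) isOpenMap_of_flat_lfp) h, fun h W W' hW k fst snd sq => ?_⟩
  have hW' := isAlgSpace_of_isPullback sq hX hW hY
  refine (isOpenMor_iff_of_cover (g := fun i => pullback.snd (g i) fst) (fun x => ?_) (fun i => ?_) snd).2 fun i => ?_
  · obtain ⟨i, y, hy⟩ := hsurj (Points.map fst x)
    obtain ⟨z, -, hz⟩ := exists_point_of_isPullback (IsPullback.of_hasPullback (g i) fst) y x hy
    exact ⟨i, z, hz⟩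
  · exact isUnivOpenMor_of_locP (hXi i) hX (hg i) isOpenMap_of_flat_lfp hW' _ _ _ (IsPullback.of_hasPullback _ _)
  · exact h i hW _ _ _ ((IsPullback.of_hasPullback (g i) fst).paste_vert sq)

end Groth.Agent.AlgSpLib
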