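import Groth.Agent.AlgSpLib.FpqcLocalRep
import Groth.Agent.AlgSpLib.LocPCover

/-!
Monomorphisms which are etale: isomorphisms and open immersions.
-/

set_option autoImplicit false
set_option backward.isDefEq.respectTransparency.types false

universe u

open CategoryTheory CategoryTheory.Limits AlgebraicGeometry Opposite AlgSp

namespace Groth.Agent.AlgSpLib

variable {S : Scheme.{u}}

/-- A monomorphism lifting fppf locally is an isomorphism. -/
theorem isIso_of_mono_of_local_lifts {A B : Sp S} (d : A ⟶ B) [Mono d]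
    (h : ∀ (T : Over S) (a : (yon S).obj T ⟶ B), ∃ (V : Over S) (c : V ⟶ T) (l : (yon S).obj V ⟶ A),
      Flat c.left ∧ LocallyOfFinitePresentation c.left ∧ Surjective c.left ∧ l ≫ d = (yon S).map c ≫ a) :
    IsIso d := by
  refine isIso_of_mono_of_lifts d fun T a => ?_
  obtain ⟨V, c, l, h₁, h₂, h₃, e⟩ := h T a
  have hc : Sieve.generate (Presieve.singleton c) ∈ (J S) T := by
    rw [GrothendieckTopology.mem_over_iff]
    refine GrothendieckTopology.superset_covering _ ?_
      (Precoverage.generate_mem_toGrothendieck (Scheme.Hom.singleton_mem_fppfPrecoverage c.left))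
    rw [Sieve.generate_le_iff]
    rintro W _ ⟨⟩
    rw [Sieve.overEquiv_iff]
    refine ⟨V, Over.homMk (𝟙 _) (by simp), c, ⟨⟩, ?_⟩
    ext
    simp
  have hA : Presieve.IsSheafFor A.obj (Presieve.singleton c) := by
    rw [Presieve.isSheafFor_iff_generate]
    exact (isSheaf_iff_isSheaf_of_type _ _).1 A.property _ hc
  have hB : Presieve.IsSeparatedFor B.obj (Presieve.singleton c) := by
    rw [Presieve.isSeparatedFor_iff_generate]
    exact (((isSheaf_iff_isSheaf_of_type _ _).1 B.property) _ hc).isSeparatedFor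
  rw [Presieve.isSheafFor_singleton] at hA
  obtain ⟨x, hx, -⟩ := hA ((J S).uliftYonedaEquiv.{u + 1} l) fun {Z} p₁ p₂ hp => by
    apply (J S).uliftYonedaEquiv.{u + 1}.symm.injective
    rw [← cancel_mono d]
    have key : ∀ p : Z ⟶ V, (J S).uliftYonedaEquiv.{u + 1}.symm (A.obj.map p.op ((J S).uliftYonedaEquiv.{u + 1} l))
        = (yon S).map p ≫ l := fun p => by
      rw [GrothendieckTopology.uliftYonedaEquiv_naturality, Equiv.symm_apply_apply]
    rw [key, key, Category.assoc, Category.assoc, e, ← Category.assoc, ← Category.assoc, ← Functor.map_comp,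
      ← Functor.map_comp, hp]
  refine ⟨(J S).uliftYonedaEquiv.{u + 1}.symm x, ?_⟩
  apply (J S).uliftYonedaEquiv.{u + 1}.injective
  refine hB.ext fun Z g hg => ?_
  obtain ⟨⟩ := hg
  have e₁ : (J S).uliftYonedaEquiv.{u + 1} ((yon S).map c ≫ ((J S).uliftYonedaEquiv.{u + 1}.symm x ≫ d)) =
      B.obj.map c.op ((J S).uliftYonedaEquiv.{u + 1} ((J S).uliftYonedaEquiv.{u + 1}.symm x ≫ d)) :=
    (GrothendieckTopology.uliftYonedaEquiv_naturality _ _ c).symm
  rw [← e₁, GrothendieckTopology.uliftYonedaEquiv_naturality, ← e, ← Category.assoc]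
  congr 2
  apply (J S).uliftYonedaEquiv.{u + 1}.injective
  rw [← GrothendieckTopology.uliftYonedaEquiv_naturality, Equiv.apply_symm_apply]
  exact hx

/-- An etale surjective monomorphism of algebraic spaces is an isomorphism. -/
theorem isIso_of_etale_mono_surjective {X Y : Sp S} (hX : IsAlgSpace X) (hY : IsAlgSpace Y) (d : X ⟶ Y) [Mono d]
    (he : LocP @Etale d) (hs : UnivSp IsSurjectiveMor d) : IsIso d := by
  refine isIso_of_mono_of_local_lifts d fun T a => ?_
  have sq := IsPullback.of_hasPullback d a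
  have hT := IsAlgSpace.yon_obj T
  obtain ⟨V, v, hv, hvs⟩ := (isAlgSpace_of_isPullback sq hX hT hY).atlas
  obtain ⟨c, hc⟩ := (yon S).map_surjective (v ≫ pullback.snd d a)
  have : Etale c.left := locP_baseChange hX hY hT sq he v (𝟙 _) c hv (repWith_id _ T)
    (by rw [hc, Category.comp_id])
  refine ⟨V, c, v ≫ pullback.fst d a, inferInstance, inferInstance, ⟨fun t => ?_⟩, ?_⟩
  · obtain ⟨z, hz⟩ := hs hT _ _ _ sq (Points.ofPt (𝟙 _) t)
    obtain ⟨w, rfl⟩ := surjective_ofPt hvs z
    refine ⟨w, (Points.schemeEquiv T).injective ?_⟩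
    change Points.ofPt (𝟙 _) (c.left w) = Points.ofPt (𝟙 _) t
    rw [← ofPt_comp, Category.comp_id, hc, ← hz, Points.map_ofPt]
  · rw [Category.assoc, pullback.condition, ← Category.assoc, hc]

/-- Etale monomorphisms of algebraic spaces are open immersions. -/
theorem repWith_isOpenImmersion_of_etale_mono {X Y : Sp S} (hX : IsAlgSpace X) (hY : IsAlgSpace Y) (d : X ⟶ Y)
    [Mono d] (he : LocP @Etale d) : RepWith @IsOpenImmersion d := by
  refine repWith_of_exists fun T a => ?_
  have sq := IsPullback.of_hasPullback d a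
  let π := pullback.snd d a
  have hT := IsAlgSpace.yon_obj T
  have hP := isAlgSpace_of_isPullback sq hX hT hY
  have hπ : LocP @Etale π := locP_baseChange hX hY hT sq he
  obtain ⟨O, hO⟩ : ∃ O : T.left.Opens, (O : Set ↥T.left) = Points.ofPt (𝟙 _) ⁻¹' Set.range (Points.map π) :=
    ⟨⟨_, (isOpenMap_map_of_locP hP hT hπ fun _ _ k hk => by
      have : Etale k := hk
      exact k.isOpenMap).isOpen_range.preimage (Points.continuous_ofPt _)⟩, rfl⟩
  let O' : Over S := Over.mk (O.ι ≫ T.hom)
  let e : O' ⟶ T := Over.homMk O.ι rfl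
  have : Mono ((Over.forget S).map e) := show Mono O.ι from inferInstance
  have : Mono e := (Over.forget S).mono_of_mono_map this
  have : Mono ((yon S).map e) := ⟨fun u v h => hom_ext_yon fun W w => by
    obtain ⟨u', hu⟩ := (yon S).map_surjective (w ≫ u)
    obtain ⟨v', hv⟩ := (yon S).map_surjective (w ≫ v)
    have huv : u' = v' := (cancel_mono e).1 ((yon S).map_injective
      (by rw [Functor.map_comp, Functor.map_comp, hu, hv, Category.assoc, Category.assoc, h]))
    rw [← hu, ← hv, huv]⟩
  have s' := IsPullback.of_hasPullback π ((yon S).map e)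
  have hO' := IsAlgSpace.yon_obj O'
  have hQ := isAlgSpace_of_isPullback s' hP hO' hT
  have : Mono (pullback.snd d a) := MorphismProperty.pullback_snd (P := MorphismProperty.monomorphisms (Sp S)) _ _ ‹_›
  have : Mono (pullback.snd π ((yon S).map e)) :=
    MorphismProperty.pullback_snd (P := MorphismProperty.monomorphisms (Sp S)) _ _ this
  have h₂ : IsIso (pullback.snd π ((yon S).map e)) := by
    refine isIso_of_etale_mono_surjective hQ hO' _ (locP_baseChange hP hT hO' s' hπ) fun Z Z' hZ k l m sm z => ?_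
    obtain ⟨x, hx⟩ : ∃ x, Points.map π x = Points.map (k ≫ (yon S).map e) z := by
      obtain ⟨t, ht⟩ := exists_ofScheme (Points.map k z)
      have : O.ι t ∈ (O : Set ↥T.left) := t.2
      rw [hO] at this
      obtain ⟨x, hx⟩ := this
      refine ⟨x, ?_⟩
      rw [hx, Points.map_comp, ← ht, Points.map_ofPt, Category.id_comp]
      show _ = Points.ofPt ((yon S).map e) t
      rw [← Category.comp_id ((yon S).map e), ofPt_comp]
      rfl
    obtain ⟨y, -, hy⟩ := exists_point_of_isPullback (sm.paste_horiz s') x z hx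
    exact ⟨y, hy⟩
  have h₁ : IsIso (pullback.fst π ((yon S).map e)) := by
    refine isIso_of_mono_of_lifts _ fun W w => ?_
    obtain ⟨j, hj⟩ := (yon S).map_surjective (w ≫ π)
    have hr : Set.range j.left ⊆ Set.range O.ι := by
      rintro _ ⟨t, rfl⟩
      rw [Scheme.Opens.range_ι, hO]
      exact ⟨Points.ofPt w t, by rw [Points.map_ofPt, ← hj, ← Category.comp_id ((yon S).map j), ofPt_comp]⟩
    let j' : W ⟶ O' := Over.homMk (IsOpenImmersion.lift O.ι j.left hr)
      (by simp only [O', Over.mk_hom, IsOpenImmersion.lift_fac_assoc, Over.w])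
    refine ⟨pullback.lift w ((yon S).map j') ?_, pullback.lift_fst _ _ _⟩
    rw [← hj, ← Functor.map_comp]
    congr 1
    ext1
    exact (IsOpenImmersion.lift_fac _ _ _).symm
  refine ⟨O', inv (pullback.snd π ((yon S).map e)) ≫ pullback.fst π ((yon S).map e) ≫ pullback.fst d a, e, ?_,
    show IsOpenImmersion O.ι from inferInstance⟩
  refine sq.of_iso (((asIso (pullback.fst π ((yon S).map e))).symm) ≪≫ (asIso (pullback.snd π ((yon S).map e))))
    (Iso.refl _) (Iso.refl _) (Iso.refl _) ?_ ?_ (by simp) (by simp)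
  · simp
  · simp [π, ← s'.w]

variable (S)

theorem isLocalOnBase_isomorphisms :
    IsLocalOnBase (IsFpqcCover (S := S)) (MorphismProperty.isomorphisms (Sp S)) := by
  intro ι Y Yi g hY hYi hg X f hX Xi p q hXi sq
  refine ⟨fun h i => MorphismProperty.of_isPullback (P := MorphismProperty.isomorphisms (Sp S)) (sq i) h,
    fun h => ?_⟩
  have hi : ∀ i, IsIso (p i) := h
  have : Mono f := (isLocalOnBase_monomorphisms Yi g hY hYi hg f hX Xi p q hXi sq).2 fun i =>
    show Mono (p i) from inferInstance
  refine isIso_of_etale_mono_surjective hX hY f ((isLocalOnBase_locP Yi g hY hYi hg f hX Xi p q hXi sq).2 fun i =>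
    (isEtaleMor_iff_locP (hYi i)).1 (isEtaleMor_of_repWith (repWith_iso (p i)))) ?_
  exact (isLocalOnBase_univSp descendsOnPoints_surjective Yi g hY hYi hg f hX Xi p q hXi sq).2
    fun i Z Z' hZ k a b sP z => by
      have : IsIso b := MorphismProperty.of_isPullback (P := MorphismProperty.isomorphisms (Sp S)) sP (hi i)
      exact ⟨Points.map (inv b) z, by rw [← Points.map_comp, IsIso.inv_hom_id, Points.map_id]⟩

theorem isLocalOnBase_isOpenImmersion :
    IsLocalOnBase (IsFpqcCover (S := S)) (RepWith @IsOpenImmersion) := by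
  intro ι Y Yi g hY hYi hg X f hX Xi p q hXi sq
  refine ⟨fun h i => repWith_baseChange (sq i) h, fun h => ?_⟩
  have : Mono f := (isLocalOnBase_monomorphisms Yi g hY hYi hg f hX Xi p q hXi sq).2 fun i =>
    mono_of_repWith (h i) fun _ _ k hk => by have : IsOpenImmersion k := hk; infer_instance
  exact repWith_isOpenImmersion_of_etale_mono hX hY f ((isLocalOnBase_locP Yi g hY hYi hg f hX Xi p q hXi sq).2
    fun i => (isEtaleMor_iff_locP (hYi i)).1 (isEtaleMor_of_repWith
      (repWith_mono (fun _ _ k hk => by have : IsOpenImmersion k := hk; infer_instance) (h i))))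

end Groth.Agent.AlgSpLib
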