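import Groth.Agent.AlgSpLib.DiagMor
import Groth.Agent.AlgSpLib.FpqcLocalLocP
import Groth.Agent.FpqcDescent.Basic

/-!
fpqc locality on the base of properties of representable morphisms and of diagonals.
-/

set_option autoImplicit false
set_option backward.isDefEq.respectTransparency.types false

universe u

open CategoryTheory CategoryTheory.Limits AlgebraicGeometry Opposite AlgSp

namespace Groth.Agent.AlgSpLib

variable {S : Scheme.{u}} {P : MorphismProperty Scheme.{u}}

/-- The diagonal of a morphism out of an algebraic space is representable. -/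
theorem representable_diagonal {X Y : Sp S} (hX : IsAlgSpace X) (f : X ⟶ Y) :
    Representable (pullback.diagonal f) := by
  let m : pullback f f ⟶ X ⨯ X := prod.lift (pullback.fst f f) (pullback.snd f f)
  have : Mono m := ⟨fun a b e => pullback.hom_ext
    (by simpa only [m, Category.assoc, prod.lift_fst] using congrArg (· ≫ prod.fst) e)
    (by simpa only [m, Category.assoc, prod.lift_snd] using congrArg (· ≫ prod.snd) e)⟩
  have e : pullback.diagonal f ≫ m = Limits.diag X := by
    apply prod.hom_ext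
    · simp only [m, Category.assoc, prod.lift_fst, pullback.diagonal_fst]
    · simp only [m, Category.assoc, prod.lift_snd, pullback.diagonal_snd]
  exact (repWith_of_comp_mono (P := ⊤) _ m (e ▸ ⟨hX.diag, fun _ _ _ _ _ _ => trivial⟩)).1

/-- Diagonals are stable under base change. -/
theorem repWith_diagonal_baseChange {X Y X' Y' : Sp S} {f : X ⟶ Y} {g : Y' ⟶ Y} {fst : X' ⟶ X}
    {f' : X' ⟶ Y'} (sq : IsPullback fst f' f g) (h : RepWith P (pullback.diagonal f)) :
    RepWith P (pullback.diagonal f') :=
  repWith_baseChange (diagonal_baseChange sq (IsPullback.of_hasPullback f' f') (pullback.diagonal_fst _)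
    (pullback.diagonal_snd _)
    (pullback.lift (pullback.fst f' f' ≫ fst) (pullback.snd f' f' ≫ fst)
      (by rw [Category.assoc, Category.assoc, sq.w, reassoc_of% (pullback.condition (f := f') (g := f'))]))
    (pullback.lift_fst _ _ _) (pullback.lift_snd _ _ _)) h

/-- A representable morphism has the property if it has it over every test. -/
theorem repWith_of_fpqc [IsZariskiLocalAtTarget P] [P.DescendsAlong (@Surjective ⊓ @Flat ⊓ @QuasiCompact)]
    {ι : Type u} {Y : Sp S} {Yi : ι → Sp S} {g : ∀ i, Yi i ⟶ Y} (hg : IsFpqcCover Yi g) {A B : Sp S}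
    {d : A ⟶ B} (k : B ⟶ Y) (hd : Representable d)
    (H : ∀ (W : Over S) (ψ : (yon S).obj W ⟶ B), IsTest g k W ψ →
      ∀ (W' : Over S) (fst : (yon S).obj W' ⟶ A) (snd : W' ⟶ W),
        IsPullback fst ((yon S).map snd) d ψ → P snd.left) : RepWith P d := by
  refine ⟨hd, fun T V t fst snd sq => of_fpqc_local snd.left fun Z hZ => ?_⟩
  let Z' : Over S := Over.mk (Z.ι ≫ T.hom)
  let e : Z' ⟶ T := Over.homMk Z.ι rfl
  obtain ⟨m, W, c, hf, hs, hT⟩ := exists_tests_affine hg k (V := Z') hZ ((yon S).map e ≫ t)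
  refine ⟨m, fun j => (W j).left, fun j => (c j).left, fun j => (hT j).1, hf, hs, fun j => ?_⟩
  obtain ⟨U', u₁, u₂, sU⟩ : ∃ (U' : Over S) (u₁ : U' ⟶ V) (u₂ : U' ⟶ W j), IsPullback u₁ u₂ snd (c j ≫ e) :=
    ⟨_, _, _, IsPullback.of_hasPullback snd (c j ≫ e)⟩
  have hP : P u₂.left := H (W j) _ (hT j) U' _ u₂ (by
    rw [← Category.assoc, ← Functor.map_comp]
    exact (yon_isPullback sU).paste_horiz sq)
  have sL := left_isPullback sU
  rwa [← sL.isoPullback_hom_snd, P.cancel_left_of_respectsIso] at hP

variable [IsZariskiLocalAtTarget P] [P.DescendsAlong (@Surjective ⊓ @Flat ⊓ @QuasiCompact)]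

theorem repWith_diagonal_of_fpqc {ι : Type u} {X Y : Sp S} {Yi Xi : ι → Sp S} {g : ∀ i, Yi i ⟶ Y}
    {f : X ⟶ Y} {p : ∀ i, Xi i ⟶ Yi i} {q : ∀ i, Xi i ⟶ X} (hg : IsFpqcCover Yi g) (hX : IsAlgSpace X)
    (sq : ∀ i, IsPullback (q i) (p i) f (g i)) (h : ∀ i, RepWith P (pullback.diagonal (p i))) :
    RepWith P (pullback.diagonal f) := by
  refine repWith_of_fpqc hg (pullback.fst f f ≫ f) (representable_diagonal hX f) fun W ψ hW W' fst snd sd => ?_
  let k := ψ ≫ pullback.fst f f ≫ f
  have sP := IsPullback.of_hasPullback f k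
  obtain ⟨i, l, r, sr, -⟩ := exists_square_of_isTest sq hW sP
  have hd := repWith_diagonal_baseChange sr (h i)
  let f' := pullback.snd f k
  let m : pullback f' f' ⟶ pullback f f :=
    pullback.lift (pullback.fst f' f' ≫ pullback.fst f k) (pullback.snd f' f' ≫ pullback.fst f k)
      (by rw [Category.assoc, Category.assoc, sP.w, reassoc_of% (pullback.condition (f := f') (g := f'))])
  have sD := diagonal_baseChange sP (IsPullback.of_hasPullback f' f') (pullback.diagonal_fst _)
    (pullback.diagonal_snd _) m (pullback.lift_fst _ _ _) (pullback.lift_snd _ _ _)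
  let a₁ : (yon S).obj W ⟶ pullback f k := pullback.lift (ψ ≫ pullback.fst f f) (𝟙 _)
    (by rw [Category.assoc, Category.id_comp])
  let a₂ : (yon S).obj W ⟶ pullback f k := pullback.lift (ψ ≫ pullback.snd f f) (𝟙 _)
    (by rw [Category.assoc, Category.id_comp, ← pullback.condition])
  let s : (yon S).obj W ⟶ pullback f' f' :=
    pullback.lift a₁ a₂ (by rw [pullback.lift_snd, pullback.lift_snd])
  have hs : s ≫ m = ψ := by
    apply pullback.hom_ext
    · rw [Category.assoc, pullback.lift_fst, pullback.lift_fst_assoc, pullback.lift_fst]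
    · rw [Category.assoc, pullback.lift_snd, pullback.lift_snd_assoc, pullback.lift_fst]
  have w : fst ≫ pullback.diagonal f = ((yon S).map snd ≫ s) ≫ m := by rw [Category.assoc, hs]; exact sd.w
  refine hd.2 s (sD.lift fst ((yon S).map snd ≫ s) w) snd (IsPullback.of_right ?_ (sD.lift_snd _ _ _) sD)
  rw [sD.lift_fst, hs]
  exact sd

theorem isLocalOnBase_repWith_diagonal :
    IsLocalOnBase (IsFpqcCover (S := S)) (fun _ _ f => RepWith P (pullback.diagonal f)) := by
  intro ι Y Yi g hY hYi hg X f hX Xi p q hXi sq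
  exact ⟨fun h i => repWith_diagonal_baseChange (sq i) h, fun h => repWith_diagonal_of_fpqc hg hX sq h⟩

omit [IsZariskiLocalAtTarget P] [P.DescendsAlong (@Surjective ⊓ @Flat ⊓ @QuasiCompact)] in
/-- A monomorphism to which every scheme lifts is an isomorphism. -/
theorem isIso_of_mono_of_lifts {A B : Sp S} (d : A ⟶ B) [Mono d]
    (h : ∀ (T : Over S) (a : (yon S).obj T ⟶ B), ∃ l : (yon S).obj T ⟶ A, l ≫ d = a) : IsIso d := by
  have : IsIso ((sheafToPresheaf (J S) _).map d) := by
    rw [NatTrans.isIso_iff_isIso_app]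
    intro T
    rw [isIso_iff_bijective]
    refine ⟨fun x y e => ?_, fun y => ?_⟩
    · have : (J S).uliftYonedaEquiv.{u + 1}.symm x ≫ d = (J S).uliftYonedaEquiv.{u + 1}.symm y ≫ d := by
        apply (J S).uliftYonedaEquiv.{u + 1}.injective
        rw [GrothendieckTopology.uliftYonedaEquiv_comp, GrothendieckTopology.uliftYonedaEquiv_comp,
          Equiv.apply_symm_apply, Equiv.apply_symm_apply]
        exact e
      exact (J S).uliftYonedaEquiv.{u + 1}.symm.injective ((cancel_mono d).1 this)
    · obtain ⟨l, hl⟩ := h T.unop ((J S).uliftYonedaEquiv.{u + 1}.symm y)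
      refine ⟨(J S).uliftYonedaEquiv.{u + 1} l, ?_⟩
      have := congrArg (J S).uliftYonedaEquiv.{u + 1} hl
      rwa [GrothendieckTopology.uliftYonedaEquiv_comp, Equiv.apply_symm_apply] at this
  exact isIso_of_reflects_iso d (sheafToPresheaf (J S) _)

omit [IsZariskiLocalAtTarget P] [P.DescendsAlong (@Surjective ⊓ @Flat ⊓ @QuasiCompact)] in
theorem repWith_diagonal_isomorphisms_iff {X Y : Sp S} (f : X ⟶ Y) :
    RepWith (MorphismProperty.isomorphisms Scheme.{u}) (pullback.diagonal f) ↔ Mono f := by
  constructor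
  · intro h
    rw [← pullback.isIso_diagonal_iff]
    refine isIso_of_mono_of_lifts _ fun T a => ?_
    obtain ⟨V, snd, fst, sq⟩ := h.1 a
    have : IsIso ((Over.forget S).map snd) := h.2 _ fst snd sq
    have : IsIso snd := isIso_of_reflects_iso snd (Over.forget S)
    exact ⟨(yon S).map (inv snd) ≫ fst, by rw [Category.assoc, sq.w, ← Category.assoc, ← Functor.map_comp, IsIso.inv_hom_id, (yon S).map_id, Category.id_comp]⟩
  · exact fun hf => repWith_diagonal_of_mono f

theorem isLocalOnBase_monomorphisms :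
    IsLocalOnBase (IsFpqcCover (S := S)) (MorphismProperty.monomorphisms (Sp S)) := by
  intro ι Y Yi g hY hYi hg X f hX Xi p q hXi sq
  simp only [MorphismProperty.monomorphisms.iff, ← repWith_diagonal_isomorphisms_iff]
  exact isLocalOnBase_repWith_diagonal (P := MorphismProperty.isomorphisms Scheme.{u}) Yi g hY hYi hg f hX Xi p q hXi sq

end Groth.Agent.AlgSpLib
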