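import Groth.Agent.AlgSpLib.SpCoprod
import Mathlib

/-!
Representability is local on the target: gluing schemes over the affine opens of a scheme.
-/

set_option autoImplicit false
set_option backward.isDefEq.respectTransparency.types false

universe u

open CategoryTheory CategoryTheory.Limits AlgebraicGeometry Opposite AlgSp

namespace Groth.Agent.AlgSpLib

variable {S : Scheme.{u}} {X : Sp S}

/-- Sheaves for open coverings. -/
theorem isSheafFor_openCover {Z : Over S} {ι : Type*} {W : ι → Over S} (c : ∀ i, W i ⟶ Z)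
    (hc : ∀ i, IsOpenImmersion (c i).left) (hs : ∀ z : ↥Z.left, ∃ i, z ∈ Set.range (c i).left) (F : Sp S) :
    Presieve.IsSheafFor F.obj (Presieve.ofArrows W c) := by
  rw [Presieve.isSheafFor_iff_generate]
  refine (isSheaf_iff_isSheaf_of_type _ _).1 F.property _ ?_
  rw [GrothendieckTopology.mem_over_iff]
  have : Sieve.generate (Presieve.ofArrows (fun j => (W j).left) fun j => (c j).left) ∈
      Scheme.fppfTopology Z.left := by
    refine Precoverage.generate_mem_toGrothendieck ((Scheme.ofArrows_mem_precoverage_iff _).2 ⟨hs, fun j => ?_⟩)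
    have := hc j
    exact ⟨inferInstanceAs (Flat (c j).left), inferInstanceAs (LocallyOfFinitePresentation (c j).left)⟩
  change Sieve.overEquiv _ (Sieve.ofArrows W c) ∈ _
  rwa [Sieve.overEquiv_ofArrows]

/-- Morphisms out of a scheme agree if they agree on an open covering. -/
theorem hom_ext_openCover {Z : Over S} {ι : Type*} {W : ι → Over S} (c : ∀ i, W i ⟶ Z)
    (hc : ∀ i, IsOpenImmersion (c i).left) (hs : ∀ z : ↥Z.left, ∃ i, z ∈ Set.range (c i).left)
    {a b : (yon S).obj Z ⟶ X} (h : ∀ i, (yon S).map (c i) ≫ a = (yon S).map (c i) ≫ b) : a = b := by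
  apply (J S).uliftYonedaEquiv.{u + 1}.injective
  refine (isSheafFor_openCover c hc hs X).isSeparatedFor.ext fun U j hj => ?_
  obtain ⟨i⟩ := hj
  rw [GrothendieckTopology.uliftYonedaEquiv_naturality, GrothendieckTopology.uliftYonedaEquiv_naturality, h i]

/-- Morphisms glue on open coverings. -/
theorem exists_glue_openCover {Z : Over S} {ι : Type*} {W : ι → Over S} (c : ∀ i, W i ⟶ Z)
    (hc : ∀ i, IsOpenImmersion (c i).left) (hs : ∀ z : ↥Z.left, ∃ i, z ∈ Set.range (c i).left)
    (t : ∀ i, (yon S).obj (W i) ⟶ X)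
    (ht : ∀ i j (U : Over S) (u : U ⟶ W i) (v : U ⟶ W j), u ≫ c i = v ≫ c j →
      (yon S).map u ≫ t i = (yon S).map v ≫ t j) :
    ∃ a : (yon S).obj Z ⟶ X, ∀ i, (yon S).map (c i) ≫ a = t i := by
  obtain ⟨x, hx, -⟩ := (Presieve.isSheafFor_arrows_iff _ _).1 (isSheafFor_openCover c hc hs X)
    (fun i => (J S).uliftYonedaEquiv.{u + 1} (t i)) fun i j U u v e => by
      rw [GrothendieckTopology.uliftYonedaEquiv_naturality, GrothendieckTopology.uliftYonedaEquiv_naturality,
        ht i j U u v e]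
  refine ⟨(J S).uliftYonedaEquiv.{u + 1}.symm x, fun i => ?_⟩
  apply (J S).uliftYonedaEquiv.{u + 1}.injective
  rw [← GrothendieckTopology.uliftYonedaEquiv_naturality, Equiv.apply_symm_apply]
  exact hx i

/-- The inclusion of an open subscheme, over `S`. -/
noncomputable abbrev openOver (T : Over S) (O : T.left.Opens) : Over S := Over.mk (O.ι ≫ T.hom)

noncomputable abbrev openOverι (T : Over S) (O : T.left.Opens) : openOver T O ⟶ T := Over.homMk O.ι rfl

/-- Inclusions of affine opens, over `S`. -/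
noncomputable abbrev affineIncl (T : Over S) {A B : T.left.AffineZariskiSite} (h : A ≤ B) :
    openOver T A.1 ⟶ openOver T B.1 :=
  Over.homMk (T.left.homOfLE (Scheme.AffineZariskiSite.toOpens_mono h)) (by simp)

theorem affineIncl_ι (T : Over S) {A B : T.left.AffineZariskiSite} (h : A ≤ B) :
    affineIncl T h ≫ openOverι T B.1 = openOverι T A.1 := by
  ext1
  simp

/-- The piece of a scheme over `T` above an open. -/
noncomputable abbrev pieceMap {T Z : Over S} (g : Z ⟶ T) (O : T.left.Opens) :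
    openOver Z (g.left ⁻¹ᵁ O) ⟶ openOver T O :=
  Over.homMk (g.left ∣_ O) (by
    show g.left ∣_ O ≫ O.ι ≫ T.hom = _ ≫ _
    rw [← Category.assoc, morphismRestrict_ι, Category.assoc, Over.w g])

theorem pieceMap_ι {T Z : Over S} (g : Z ⟶ T) (O : T.left.Opens) :
    pieceMap g O ≫ openOverι T O = openOverι Z (g.left ⁻¹ᵁ O) ≫ g := by
  ext1
  exact morphismRestrict_ι _ _

theorem exists_mem_piece {T Z : Over S} (g : Z ⟶ T) (z : ↥Z.left) :
    ∃ O : T.left.AffineZariskiSite, z ∈ Set.range (openOverι Z (g.left ⁻¹ᵁ O.1)).left := by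
  obtain ⟨O, hO, hz, -⟩ := exists_isAffineOpen_mem_and_subset (X := T.left) (x := g.left z) (U := ⊤) trivial
  exact ⟨⟨O, hO⟩, ⟨z, hz⟩, rfl⟩

/-- Compatible schemes over the affine opens glue. -/
theorem exists_glued (T : Over S) (V : T.left.AffineZariskiSite → Over S) (v : ∀ O, V O ⟶ openOver T O.1)
    (l : ∀ {A B : T.left.AffineZariskiSite}, A ≤ B → (V A ⟶ V B))
    (hid : ∀ A : T.left.AffineZariskiSite, l (le_refl A) = 𝟙 (V A))
    (hcomp : ∀ {A B C : T.left.AffineZariskiSite} (h : A ≤ B) (h' : B ≤ C), l h ≫ l h' = l (h.trans h'))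
    (hsq : ∀ {A B : T.left.AffineZariskiSite} (h : A ≤ B), IsPullback (l h) (v A) (v B) (affineIncl T h)) :
    ∃ (G : Over S) (q : G ⟶ T) (c : ∀ O, V O ⟶ G),
      (∀ O, IsPullback (c O) (v O) q (openOverι T O.1)) ∧ (∀ {A B} (h : A ≤ B), l h ≫ c B = c A) ∧
      ∀ z : ↥G.left, ∃ O, z ∈ Set.range (c O).left := by
  let F : T.left.AffineZariskiSite ⥤ Scheme.{u} :=
    { obj := fun O => (V O).left
      map := fun g => (l g.le).left
      map_id := fun O => congrArg CommaMorphism.left (hid O)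
      map_comp := fun g g' => (congrArg CommaMorphism.left (hcomp g.le g'.le)).symm }
  let d : (Scheme.AffineZariskiSite.directedCover T.left).RelativeGluingData :=
    { functor := F
      natTrans :=
        { app := fun O => (v O).left
          naturality := fun _ _ g => congrArg CommaMorphism.left (hsq g.le).w }
      equifibered := fun {A B} g => left_isPullback (hsq g.le) }
  have : Quiver.IsThin (Scheme.AffineZariskiSite.directedCover T.left).I₀ :=
    inferInstanceAs (Quiver.IsThin T.left.AffineZariskiSite)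
  have : Small.{u} (Scheme.AffineZariskiSite.directedCover T.left).I₀ :=
    inferInstanceAs (Small.{u} T.left.AffineZariskiSite)
  let q : Over.mk (d.toBase ≫ T.hom) ⟶ T := Over.homMk d.toBase rfl
  let c : ∀ O : T.left.AffineZariskiSite, V O ⟶ Over.mk (d.toBase ≫ T.hom) := fun O =>
    Over.homMk (d.cover.f O) (by
      show d.cover.f O ≫ d.toBase ≫ T.hom = _
      rw [← Category.assoc]
      exact (congrArg (· ≫ T.hom) (d.ι_toBase O)).trans ((Category.assoc _ _ _).trans (Over.w (v O))))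
  refine ⟨_, q, c, fun O => IsPullback.of_map_of_faithful (Over.forget S) ?_, fun {A B} h =>
    Over.OverMorphism.ext (d.cover.trans_map (i := A) (j := B) (homOfLE (X := T.left.AffineZariskiSite) h)), fun z => ?_⟩
  · exact (d.isPullback_natTrans_ι_toBase O).flip
  · obtain ⟨O, y, hy⟩ := d.cover.exists_eq z
    exact ⟨O, y, hy⟩

set_option maxHeartbeats 1000000 in
/-- A sheaf over a scheme, representable over each affine open, is representable. -/
theorem exists_scheme_of_affine_opens {T : Over S} (π : X ⟶ (yon S).obj T)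
    (h : ∀ O : T.left.AffineZariskiSite, ∃ (V : Over S) (v : V ⟶ openOver T O.1) (f : (yon S).obj V ⟶ X),
      IsPullback f ((yon S).map v) π ((yon S).map (openOverι T O.1))) :
    ∃ (V : Over S) (v : V ⟶ T) (i : (yon S).obj V ≅ X), i.hom ≫ π = (yon S).map v := by
  choose V v f sq using h
  have hl : ∀ {A B : T.left.AffineZariskiSite} (g : A ≤ B), ∃ l : V A ⟶ V B,
      (yon S).map l ≫ f B = f A ∧ l ≫ v B = v A ≫ affineIncl T g := fun {A B} g =>
    exists_lift (sq B) (f A) (v A ≫ affineIncl T g) (by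
      rw [(sq A).w, ← Functor.map_comp, ← Functor.map_comp, Category.assoc, affineIncl_ι])
  choose l hl₁ hl₂ using @hl
  have hu : ∀ (O : T.left.AffineZariskiSite) {Z : Over S} (a b : Z ⟶ V O),
      (yon S).map a ≫ f O = (yon S).map b ≫ f O → a ≫ v O = b ≫ v O → a = b := fun O Z a b h₁ h₂ =>
    (yon S).map_injective ((sq O).hom_ext h₁ (by rw [← Functor.map_comp, ← Functor.map_comp, h₂]))
  obtain ⟨G, q, c, sG, hlc, hs⟩ := exists_glued T V v (fun h => l h)
    (fun A => hu A _ _ (by rw [hl₁, (yon S).map_id, Category.id_comp])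
      (by rw [hl₂]; ext1; simp))
    (fun {A B C} g g' => hu C _ _ (by rw [hl₁, Functor.map_comp, Category.assoc, hl₁, hl₁])
      (by rw [hl₂, Category.assoc, hl₂, ← Category.assoc, hl₂, Category.assoc]; congr 1; ext1; simp))
    (fun {A B} g => isPullback_of_yon (IsPullback.of_right
      (by rw [hl₁, ← Functor.map_comp, affineIncl_ι]; exact sq A)
      (by rw [← Functor.map_comp, hl₂, Functor.map_comp]) (sq B)))
  have hc : ∀ O, IsOpenImmersion (c O).left := fun O =>
    MorphismProperty.of_isPullback (P := @IsOpenImmersion) (left_isPullback (sG O)).flip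
      (show IsOpenImmersion (Scheme.Opens.ι O.1) from inferInstance)
  have hcq : ∀ O, c O ≫ q = v O ≫ openOverι T O.1 := fun O => (sG O).w
  have mono_ι : ∀ (O : T.left.Opens), Mono (openOverι T O) := fun O => by
    have : Mono ((Over.forget S).map (openOverι T O)) := show Mono O.ι from inferInstance
    exact (Over.forget S).mono_of_mono_map this
  have mono_c : ∀ O, Mono (c O) := fun O => by
    have := hc O
    have : Mono ((Over.forget S).map (c O)) := show Mono (c O).left from inferInstance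
    exact (Over.forget S).mono_of_mono_map this
  have hoi : ∀ {Z : Over S} (g : Z ⟶ T) (O : T.left.AffineZariskiSite),
      IsOpenImmersion (openOverι Z (g.left ⁻¹ᵁ O.1)).left := fun g O =>
    inferInstanceAs (IsOpenImmersion (Scheme.Opens.ι _))
  -- the comparison map
  obtain ⟨Φ, hΦ⟩ := exists_glue_openCover c hc hs f fun A B U a b hab => by
    have hab' : (a ≫ v A) ≫ openOverι T A.1 = (b ≫ v B) ≫ openOverι T B.1 := by
      rw [Category.assoc, Category.assoc, ← hcq, ← hcq, ← Category.assoc, hab, Category.assoc]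
    let g := (a ≫ v A) ≫ openOverι T A.1
    -- cover `U` by opens landing in a common smaller affine open
    have hdir : ∀ z : ↥U.left, ∃ (C : T.left.AffineZariskiSite), C ≤ A ∧ C ≤ B ∧ g.left z ∈ C.1 := by
      intro z
      have hA : g.left z ∈ A.1 := ((a ≫ v A).left z).2
      have hB : g.left z ∈ B.1 := by
        rw [show g = (b ≫ v B) ≫ openOverι T B.1 from hab']
        exact ((b ≫ v B).left z).2
      obtain ⟨p, p', e', hz⟩ := exists_basicOpen_le_affine_inter A.2 B.2 _ ⟨hA, hB⟩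
      exact ⟨A.basicOpen p, A.basicOpen_le p, ⟨p', e'.symm⟩, hz⟩
    choose C hCA hCB hzC using hdir
    refine hom_ext_openCover (fun z => openOverι U (g.left ⁻¹ᵁ (C z).1))
      (fun z => hoi g (C z)) (fun z => ⟨z, ⟨z, hzC z⟩, rfl⟩) fun z => ?_
    have hw : (openOverι U (g.left ⁻¹ᵁ (C z).1) ≫ g) = pieceMap g (C z).1 ≫ openOverι T (C z).1 :=
      (pieceMap_ι _ _).symm
    obtain ⟨a', ha'⟩ : ∃ a', a' ≫ c (C z) = openOverι U (g.left ⁻¹ᵁ (C z).1) ≫ a ≫ c A :=
      ⟨(sG (C z)).lift _ (pieceMap g (C z).1) (by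
        simp only [Category.assoc, hcq]
        simpa [g] using hw), (sG (C z)).lift_fst _ _ _⟩
    have := mono_c A
    have := mono_c B
    have h₁ : a' ≫ l (hCA z) = openOverι U (g.left ⁻¹ᵁ (C z).1) ≫ a := by
      rw [← cancel_mono (c A), Category.assoc, hlc, ha', Category.assoc]
    have h₂ : a' ≫ l (hCB z) = openOverι U (g.left ⁻¹ᵁ (C z).1) ≫ b := by
      rw [← cancel_mono (c B), Category.assoc, hlc, ha', Category.assoc, hab]
    rw [← Category.assoc, ← Category.assoc, ← Functor.map_comp, ← Functor.map_comp, ← h₁, ← h₂,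
      Functor.map_comp, Functor.map_comp, Category.assoc, Category.assoc, hl₁, hl₁]
  have hΦπ : Φ ≫ π = (yon S).map q := hom_ext_openCover c hc hs fun O => by
    rw [← Category.assoc, hΦ, (sq O).w, ← Functor.map_comp, ← Functor.map_comp, hcq]
  have : Mono Φ := ⟨fun {W} a b h => hom_ext_yon fun Z w => by
    obtain ⟨a₁, ha⟩ := (yon S).map_surjective (w ≫ a)
    obtain ⟨b₁, hb⟩ := (yon S).map_surjective (w ≫ b)
    rw [← ha, ← hb]
    have hab : (yon S).map a₁ ≫ Φ = (yon S).map b₁ ≫ Φ := by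
      rw [ha, hb, Category.assoc, Category.assoc, h]
    have hq : a₁ ≫ q = b₁ ≫ q := (yon S).map_injective (by
      rw [Functor.map_comp, Functor.map_comp, ← hΦπ, ← Category.assoc, hab, Category.assoc])
    refine hom_ext_openCover (fun O : T.left.AffineZariskiSite => openOverι Z ((a₁ ≫ q).left ⁻¹ᵁ O.1))
      (hoi _) (exists_mem_piece _) fun O => ?_
    have hw₁ : (openOverι _ ((a₁ ≫ q).left ⁻¹ᵁ O.1) ≫ a₁) ≫ q = pieceMap (a₁ ≫ q) O.1 ≫ openOverι T O.1 := by
      rw [pieceMap_ι, Category.assoc]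
    have hw₂ : (openOverι _ ((a₁ ≫ q).left ⁻¹ᵁ O.1) ≫ b₁) ≫ q = pieceMap (a₁ ≫ q) O.1 ≫ openOverι T O.1 := by
      rw [pieceMap_ι, Category.assoc, hq]
    obtain ⟨w₁, h₁, h₁'⟩ : ∃ w, w ≫ c O = openOverι _ ((a₁ ≫ q).left ⁻¹ᵁ O.1) ≫ a₁ ∧ w ≫ v O = pieceMap (a₁ ≫ q) O.1 :=
      ⟨(sG O).lift _ _ hw₁, (sG O).lift_fst _ _ _, (sG O).lift_snd _ _ _⟩
    obtain ⟨w₂, h₂, h₂'⟩ : ∃ w, w ≫ c O = openOverι _ ((a₁ ≫ q).left ⁻¹ᵁ O.1) ≫ b₁ ∧ w ≫ v O = pieceMap (a₁ ≫ q) O.1 :=
      ⟨(sG O).lift _ _ hw₂, (sG O).lift_fst _ _ _, (sG O).lift_snd _ _ _⟩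
    rw [← Functor.map_comp, ← Functor.map_comp, ← h₁, ← h₂, hu O w₁ w₂ ?_ (h₁'.trans h₂'.symm)]
    rw [← hΦ O, ← Category.assoc, ← Functor.map_comp, h₁, ← Category.assoc, ← Functor.map_comp, h₂,
      Functor.map_comp, Functor.map_comp, Category.assoc, Category.assoc, hab]⟩
  have : IsIso Φ := by
    refine isIso_of_mono_of_lifts Φ fun Z a => ?_
    obtain ⟨g, hg⟩ := (yon S).map_surjective (a ≫ π)
    have hw : ∀ O : T.left.AffineZariskiSite, ∃ w : openOver Z (g.left ⁻¹ᵁ O.1) ⟶ V O,
        (yon S).map w ≫ f O = (yon S).map (openOverι Z (g.left ⁻¹ᵁ O.1)) ≫ a := fun O => by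
      obtain ⟨w, hw, -⟩ := exists_lift (sq O) ((yon S).map (openOverι Z (g.left ⁻¹ᵁ O.1)) ≫ a) (pieceMap g O.1)
        (by rw [Category.assoc, ← hg, ← Functor.map_comp, ← Functor.map_comp, pieceMap_ι])
      exact ⟨w, hw⟩
    choose w hw using hw
    obtain ⟨b, hb⟩ := exists_glue_openCover (fun O : T.left.AffineZariskiSite => openOverι Z (g.left ⁻¹ᵁ O.1))
      (hoi g) (exists_mem_piece g)
      (fun O => (yon S).map (w O ≫ c O)) fun A B U u₁ u₂ huv => by
        rw [← cancel_mono Φ, Functor.map_comp, Functor.map_comp, Category.assoc, Category.assoc, Category.assoc,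
          Category.assoc, hΦ, hΦ, hw, hw, ← Category.assoc, ← Category.assoc, ← Functor.map_comp,
          ← Functor.map_comp, huv]
    refine ⟨b, hom_ext_openCover _ (hoi g) (exists_mem_piece g) fun O => ?_⟩
    rw [← Category.assoc, hb, Functor.map_comp, Category.assoc, hΦ, hw]
  exact ⟨G, q, asIso Φ, hΦπ⟩

end Groth.Agent.AlgSpLib
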