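import Groth.Agent.AlgSpLib.AffineRep
import Groth.Agent.AlgSpLib.Glue
import Groth.Prelude.Def_AlgSpMor5

/-!
Properties representable by affine schemes versus representable properties.
-/

set_option autoImplicit false
set_option backward.isDefEq.respectTransparency.types false

universe u

open CategoryTheory CategoryTheory.Limits AlgebraicGeometry Opposite AlgSp

namespace Groth.Agent.AlgSpLib

variable {S : Scheme.{u}} {P : MorphismProperty Scheme.{u}} [P.IsStableUnderBaseChange]

theorem affRep_of_repWith (hP : ∀ ⦃A B : Scheme.{u}⦄ (k : A ⟶ B), P k → IsAffineHom k) {F G : Sp S} {f : F ⟶ G}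
    (hf : RepWith P f) : AffRep P f := fun Z hZ g => by
  obtain ⟨W, i, fst, sq⟩ := hf.1 g
  have hi := hf.2 g fst i sq
  have : IsAffineHom i.left := hP _ hi

  have : IsAffine Z.left := hZ
  exact ⟨W, i, fst, sq, isAffine_of_isAffineHom i.left, hi⟩
/-- A morphism representable by schemes with `P` over affines is so over all schemes. -/
theorem repWith_of_affine_targets [IsZariskiLocalAtTarget P] {F G : Sp S} {f : F ⟶ G}
    (hf : ∀ ⦃Z : Over S⦄, IsAffine Z.left → ∀ g : (yon S).obj Z ⟶ G,
      ∃ (W : Over S) (i : W ⟶ Z) (fst : (yon S).obj W ⟶ F), IsPullback fst ((yon S).map i) f g ∧ P i.left) :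
    RepWith P f := by
  refine repWith_of_exists fun T g => ?_
  let π := pullback.snd f g
  have hO : ∀ O : T.left.AffineZariskiSite, ∃ (V : Over S) (v : V ⟶ openOver T O.1)
      (a : (yon S).obj V ⟶ pullback f g),
      IsPullback a ((yon S).map v) π ((yon S).map (openOverι T O.1)) ∧ P v.left := fun O => by
    obtain ⟨W, i, a, s, hi⟩ := hf (Z := openOver T O.1) O.2 ((yon S).map (openOverι T O.1) ≫ g)
    have sT := IsPullback.of_hasPullback f g
    refine ⟨W, i, sT.lift a ((yon S).map i ≫ (yon S).map (openOverι T O.1)) (by rw [s.w, Category.assoc]), ?_, hi⟩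
    refine IsPullback.of_right ?_ (sT.lift_snd _ _ _) sT
    rw [sT.lift_fst]
    exact s
  obtain ⟨V, v, i, hi⟩ := exists_scheme_of_affine_opens π fun O => by
    obtain ⟨W, w, a, s, -⟩ := hO O
    exact ⟨W, w, a, s⟩
  refine ⟨V, i.hom ≫ pullback.fst f g, v, ?_, ?_⟩
  · exact (IsPullback.of_hasPullback f g).of_iso i.symm (Iso.refl _) (Iso.refl _) (Iso.refl _) (by simp)
      (by simp [← hi, π]) (by simp) (by simp)
  rw [IsZariskiLocalAtTarget.iff_of_iSup_eq_top (P := P) _ (iSup_affineOpens_eq_top T.left)]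
  intro O
  obtain ⟨W, w, a, s, hw⟩ := hO ⟨O.1, O.2⟩
  obtain ⟨r, hr⟩ := (yon S).map_surjective (a ≫ i.inv)
  have s' : IsPullback r w v (openOverι T O.1) := isPullback_of_yon (by
    rw [hr, ← hi]
    exact s.of_iso (Iso.refl _) i.symm (Iso.refl _) (Iso.refl _) (by simp) (by simp) (by simp) (by simp))
  have sL := (left_isPullback s').flip.isoIsPullback _ _ (isPullback_morphismRestrict v.left O.1)
  have := (left_isPullback s').flip.isoIsPullback_hom_fst _ _ (isPullback_morphismRestrict v.left O.1)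
  rw [← this, P.cancel_left_of_respectsIso] at hw
  exact hw

theorem repWith_of_affRep [IsZariskiLocalAtTarget P] {F G : Sp S} {f : F ⟶ G} (hf : AffRep P f) : RepWith P f :=
  repWith_of_affine_targets fun _ hZ g => by
    obtain ⟨W, i, a, s, -, hi⟩ := hf hZ g
    exact ⟨W, i, a, s, hi⟩

/-- fpqc locality of properties of morphisms representable by affine schemes. -/
theorem isLocalOnBase_repWith_of_le_affine [IsZariskiLocalAtTarget P]
    [P.DescendsAlong (@Surjective ⊓ @Flat ⊓ @QuasiCompact)]
    (hP : ∀ ⦃A B : Scheme.{u}⦄ (k : A ⟶ B), P k → IsAffineHom k) :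
    IsLocalOnBase (IsFpqcCover (S := S)) (RepWith P) := by
  have e : ∀ {F G : Sp S} (f : F ⟶ G), RepWith P f ↔ AffRep P f :=
    fun f => ⟨affRep_of_repWith hP, repWith_of_affRep⟩
  intro ι Y Yi g hY hYi hg X f hX Xi p q hXi sq
  simp only [e]
  exact isLocalOnBase_affRep Yi g hY hYi hg f hX Xi p q hXi sq

theorem finLocFree_eq : finLocFree.{u} = (@IsFinite ⊓ @Flat ⊓ @LocallyOfFinitePresentation : MorphismProperty Scheme.{u}) := by
  ext X Y f
  exact ⟨fun h => ⟨⟨h.1, h.2.1⟩, h.2.2⟩, fun h => ⟨h.1.1, h.1.2, h.2⟩⟩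

theorem isLocalOnBase_isFinLocFreeMor : IsLocalOnBase (IsFpqcCover (S := S)) IsFinLocFreeMor := by
  have := Groth.Agent.FpqcDescent.isFinite_descendsAlong.{u}
  have e : @IsFinLocFreeMor S = RepWith (@IsFinite ⊓ @Flat ⊓ @LocallyOfFinitePresentation) := by
    rw [← finLocFree_eq]
    rfl
  rw [e]
  exact isLocalOnBase_repWith_of_le_affine fun _ _ k hk => by
    have : IsFinite k := hk.1.1
    infer_instance

theorem isLocalOnBase_isClosedImmersion : IsLocalOnBase (IsFpqcCover (S := S)) (RepWith @IsClosedImmersion) := by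
  have := Groth.Agent.FpqcDescent.isClosedImmersion_descendsAlong.{u}
  exact isLocalOnBase_repWith_of_le_affine fun _ _ k hk => by
    have : IsClosedImmersion k := hk
    infer_instance

end Groth.Agent.AlgSpLib
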