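import Groth.Agent.AlgSpLib.Points
import Mathlib.AlgebraicGeometry.Limits
import Mathlib.AlgebraicGeometry.Morphisms.FlatMono

/-!
Quasi-compactness of algebraic spaces and their spaces of points.
-/

set_option autoImplicit false
set_option backward.isDefEq.respectTransparency.types false

universe u

open CategoryTheory CategoryTheory.Limits AlgebraicGeometry Opposite AlgSp Topology TopologicalSpace

namespace Groth.Agent.AlgSpLib

variable {S : Scheme.{u}} {F : Sp S}

theorem compactSpace_points_of_isQuasiCompactSp (h : IsQuasiCompactSp F) : CompactSpace (Points F) := by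
  obtain ⟨U, p, -, hs, hc⟩ := h
  have : CompactSpace ↥U.left := hc
  exact (surjective_ofPt hs).compactSpace (Points.continuous_ofPt p)

/-- Compact opens form a basis. -/
theorem exists_compact_nhd (hF : IsAlgSpace F) (x : Points F) (W : Set (Points F)) (hW : IsOpen W)
    (hx : x ∈ W) : ∃ V : Set (Points F), IsOpen V ∧ IsCompact V ∧ x ∈ V ∧ V ⊆ W := by
  obtain ⟨U, p, hp, hps⟩ := hF.atlas
  obtain ⟨t, rfl⟩ := surjective_ofPt hps x
  obtain ⟨V, hV, ht, hVW⟩ := exists_isAffineOpen_mem_and_subset (X := U.left) (x := t)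
    (U := ⟨Points.ofPt p ⁻¹' W, hW.preimage (Points.continuous_ofPt p)⟩) hx
  exact ⟨Points.ofPt p '' V, isOpenMap_ofPt_of_etale hp _ V.isOpen,
    hV.isCompact.image (Points.continuous_ofPt p), ⟨t, ht, rfl⟩, by
      rintro _ ⟨u, hu, rfl⟩; exact hVW hu⟩

/-- A chart by an affine scheme. -/
theorem exists_affine_chart_of_compactSpace (hF : IsAlgSpace F) [CompactSpace (Points F)] :
    ∃ (U : Over S) (p : (yon S).obj U ⟶ F), IsAffine U.left ∧ RepWith @Etale p ∧ RepWith @Surjective p := by
  obtain ⟨U, p, hp, hps⟩ := hF.atlas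
  obtain ⟨s, hs⟩ := isCompact_univ.elim_finite_subcover
    (fun V : U.left.affineOpens => Points.ofPt p '' (V.1 : Set ↥U.left))
    (fun V => isOpenMap_ofPt_of_etale hp _ V.1.isOpen) (by
      intro x _
      obtain ⟨t, rfl⟩ := surjective_ofPt hps x
      obtain ⟨V, hV, ht, -⟩ := exists_isAffineOpen_mem_and_subset (X := U.left) (x := t) (U := ⊤) trivial
      exact Set.mem_iUnion.2 ⟨⟨V, hV⟩, t, ht, rfl⟩)
  let Y : s → Scheme.{u} := fun i => (i.1.1 : U.left.Opens).toScheme
  let f : ∀ i, Y i ⟶ U.left := fun i => (i.1.1 : U.left.Opens).ι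
  have : ∀ i, IsAffine (Y i) := fun i => i.1.2
  let k : ∐ Y ⟶ U.left := Sigma.desc f
  have hk : Etale k := IsZariskiLocalAtSource.sigmaDesc (P := @Etale) (fun i => inferInstanceAs (Etale (f i)))
  let U' : Over S := Over.mk (k ≫ U.hom)
  let q : U' ⟶ U := Over.homMk k rfl
  have hq : RepWith @Etale ((yon S).map q ≫ p) := repWith_yon_comp q hk hp
  refine ⟨U', (yon S).map q ≫ p, show IsAffine (∐ Y) from inferInstance, hq,
    repWith_surjective_of_ofPt hq.1 (fun x => ?_)⟩
  obtain ⟨V, hV, t, ht, rfl⟩ := Set.mem_iUnion₂.1 (hs (Set.mem_univ x))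
  let i : s := ⟨V, hV⟩
  refine ⟨(Sigma.ι Y i) ⟨t, ht⟩, ?_⟩
  rw [ofPt_comp]
  congr 1
  change (Sigma.ι Y i ≫ k) ⟨t, ht⟩ = t
  simp only [k, Sigma.ι_desc]
  rfl

theorem isQuasiCompactSp_iff_affine (hF : IsAlgSpace F) :
    IsQuasiCompactSp F ↔
      ∃ (U : Over S) (p : (yon S).obj U ⟶ F), IsAffine U.left ∧ RepWith @Etale p ∧ RepWith @Surjective p := by
  constructor
  · intro h
    have := compactSpace_points_of_isQuasiCompactSp h
    exact exists_affine_chart_of_compactSpace hF
  · rintro ⟨U, p, hU, hp, hps⟩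
    exact ⟨U, p, hp, hps, show CompactSpace ↥U.left from inferInstance⟩

theorem isQuasiCompactSp_iff_compactSpace (hF : IsAlgSpace F) :
    IsQuasiCompactSp F ↔ CompactSpace (Points F) := by
  refine ⟨compactSpace_points_of_isQuasiCompactSp, fun h => ?_⟩
  exact (isQuasiCompactSp_iff_affine hF).2 (exists_affine_chart_of_compactSpace hF)

theorem isQuasiCompactSp_of_surjective {G : Sp S} (hG : IsAlgSpace G) (f : F ⟶ G)
    (hf : Function.Surjective (Points.map f)) (hF : IsQuasiCompactSp F) : IsQuasiCompactSp G := by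
  have := compactSpace_points_of_isQuasiCompactSp hF
  exact (isQuasiCompactSp_iff_compactSpace hG).2 (hf.compactSpace (Points.continuous_map f))

/-- A point represented by a monomorphism receives all representatives of that point. -/
theorem existsUnique_factor_of_mono (hF : IsAlgSpace F) (p q : FieldPt F)
    (h : Points.mk p = Points.mk q) [Mono p.toHom] :
    ∃! c : q.pt ⟶ p.pt, (yon S).map c ≫ p.toHom = q.toHom := by
  obtain ⟨W, fst, snd, sq⟩ := exists_isPullback (hF.representable_from_yon p.toHom) q.toHom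
  have hm : Mono ((yon S).map snd) := by
    exact MorphismProperty.of_isPullback (P := MorphismProperty.monomorphisms (Sp S)) sq
      (MorphismProperty.monomorphisms.infer_property _)
  have : Mono snd := (yon S).mono_of_mono_map hm
  have : Mono snd.left := (Over.forget S).map_mono snd
  let sn : W.left ⟶ Spec (CommRingCat.of q.K) := snd.left
  obtain ⟨w, -, -⟩ := (ofPt_eq_iff sq (IsLocalRing.closedPoint p.K) (IsLocalRing.closedPoint q.K)).1
    ((Points.ofPt_toHom p _).trans (h.trans (Points.ofPt_toHom q _).symm))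
  have hs : Surjective snd.left := ⟨fun y => ⟨w, @Subsingleton.elim ↥(Spec (CommRingCat.of q.K))
    inferInstance _ _⟩⟩
  have hqc : QuasiCompact snd.left := by
    refine ⟨fun U _ _ => ?_⟩
    have : Subsingleton ↥W.left := ⟨fun a b => snd.left.injective
      (@Subsingleton.elim ↥(Spec (CommRingCat.of q.K)) inferInstance _ _)⟩
    exact (Set.toFinite _).isCompact
  have : Flat snd.left := inferInstanceAs (Flat sn)
  have : IsIso snd.left := Flat.isIso_of_surjective_of_mono snd.left
  have : IsIso ((Over.forget S).map snd) := this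
  have : IsIso snd := isIso_of_reflects_iso snd (Over.forget S)
  refine ⟨inv snd ≫ fst, ?_, fun c hc => ?_⟩
  · show (yon S).map (inv snd ≫ fst) ≫ p.toHom = q.toHom
    rw [Functor.map_comp, Category.assoc, sq.w, ← Category.assoc, ← Functor.map_comp, IsIso.inv_hom_id,
      (yon S).map_id]
    exact Category.id_comp _
  · apply (yon S).map_injective
    rw [← cancel_mono p.toHom, hc, Functor.map_comp, Category.assoc, sq.w, ← Category.assoc,
      ← Functor.map_comp, IsIso.inv_hom_id, (yon S).map_id]
    exact (Category.id_comp _).symm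

end Groth.Agent.AlgSpLib
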