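import Groth.Agent.AlgSpLib.Points
import Groth.Prelude.Def_AlgSpCov

/-!
Chart diagrams: identities, factorisations through representable base changes, small covering families.
-/

set_option autoImplicit false
set_option backward.isDefEq.respectTransparency.types false

universe u

open CategoryTheory CategoryTheory.Limits AlgebraicGeometry Opposite AlgSp

namespace Groth.Agent.AlgSpLib

variable {S : Scheme.{u}} {F G : Sp S}

/-- Cancellation: a map to a chart commuting with a chart is etale. -/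
theorem etale_of_comp_chart {F : Sp S} {U W : Over S} {a : (yon S).obj U ⟶ F} {c : (yon S).obj W ⟶ F}
    (ha : RepWith @Etale a) (hc : RepWith @Etale c) (k : U ⟶ W) (w : (yon S).map k ≫ c = a) :
    Etale k.left := by
  obtain ⟨Z, p₁, p₂, sq⟩ := exists_isPullback ha.1 c
  have h₂ : Etale p₂.left := prop_snd sq ha
  have h₁ : Etale p₁.left := prop_snd sq.flip hc
  obtain ⟨σ, hσ, hσ'⟩ := exists_lift sq (𝟙 _) k ((Category.id_comp a).trans w.symm)
  have e : σ ≫ p₁ = 𝟙 U := (yon S).map_injective (by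
    rw [Functor.map_comp, hσ]
    exact ((yon S).map_id U).symm)
  have he : Etale (σ.left ≫ p₁.left) := by
    rw [← Over.comp_left, e, Over.id_left]; infer_instance
  have : Etale σ.left :=
    MorphismProperty.of_postcomp (W := @Etale) (W' := @Etale) σ.left p₁.left h₁ he
  rw [← hσ', Over.comp_left]
  infer_instance

/-- The top arrow of a chart diagram of a representable morphism. -/
theorem exists_chart_factor {f : F ⟶ G} (hf : Representable f) {U V : Over S} (a : (yon S).obj U ⟶ F)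
    (b : (yon S).obj V ⟶ G) (h : U ⟶ V) (ha : RepWith @Etale a) (hb : RepWith @Etale b)
    (w : a ≫ f = (yon S).map h ≫ b) :
    ∃ (W : Over S) (fst : (yon S).obj W ⟶ F) (snd : W ⟶ V) (k : U ⟶ W),
      IsPullback fst ((yon S).map snd) f b ∧ RepWith @Etale fst ∧ Etale k.left ∧ k ≫ snd = h := by
  obtain ⟨W, snd, fst, sq⟩ := hf b
  obtain ⟨k, hk₁, hk₂⟩ := exists_lift sq a h w
  have hfst : RepWith @Etale fst := repWith_baseChange sq.flip hb
  exact ⟨W, fst, snd, k, sq, hfst, etale_of_comp_chart ha hfst k hk₁, hk₂⟩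

/-- Properties of representable morphisms on charts. -/
theorem locP_of_repWith {P Q : MorphismProperty Scheme.{u}} {f : F ⟶ G} (hf : RepWith P f)
    (h : ∀ ⦃A B C : Scheme.{u}⦄ (k : A ⟶ B) (m : B ⟶ C), Etale k → P m → Q (k ≫ m)) : LocP Q f := by
  intro U V a b j ha hb w
  obtain ⟨W, fst, snd, k, sq, -, hk, rfl⟩ := exists_chart_factor hf.1 a b j ha hb w
  rw [Over.comp_left]
  exact h _ _ hk (hf.2 b fst snd sq)

theorem locP_mono {P Q : MorphismProperty Scheme.{u}}
    (h : ∀ ⦃A B : Scheme.{u}⦄ (k : A ⟶ B), P k → Q k) {f : F ⟶ G} (hf : LocP P f) : LocP Q f :=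
  fun _ _ a b j ha hb w => h _ (hf a b j ha hb w)

theorem locP_id {Q : MorphismProperty Scheme.{u}} (h : ∀ ⦃A B : Scheme.{u}⦄ (k : A ⟶ B), Etale k → Q k)
    (F : Sp S) : LocP Q (𝟙 F) := fun U V a b j ha hb w =>
  h _ (etale_of_comp_chart ha hb j (w.symm.trans (Category.comp_id a)))

theorem locP_smooth_id (F : Sp S) : LocP @Smooth (𝟙 F) :=
  locP_id (fun _ _ k hk => by have : Etale k := hk; infer_instance) F

theorem isEtaleMor_id (F : Sp S) : IsEtaleMor (𝟙 F) := fun U φ hφ => by
  rw [Category.comp_id]; exact hφ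

theorem isEtaleMor_of_repWith {f : F ⟶ G} (hf : RepWith @Etale f) : IsEtaleMor f :=
  fun _ _ hφ => repWith_comp hφ hf

theorem repWith_iso {P : MorphismProperty Scheme.{u}} [P.IsStableUnderBaseChange] [P.ContainsIdentities]
    (f : F ⟶ G) [IsIso f] : RepWith P f := by
  refine repWith_of_exists fun U g => ⟨U, g ≫ inv f, 𝟙 U, ?_, P.id_mem U.left⟩
  rw [(yon S).map_id]
  exact IsPullback.of_vert_isIso ⟨by simp⟩

/-- The identity square. -/
theorem isPullback_id {X Y : Sp S} (f : X ⟶ Y) : IsPullback (𝟙 X) f f (𝟙 Y) :=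
  IsPullback.of_horiz_isIso ⟨by simp⟩

theorem exists_small_family {X : Sp S} (hX : IsAlgSpace X) :
    ∃ (ι : Type u) (φ : ι → Points X), Function.Surjective φ := by
  obtain ⟨U, p, -, hps⟩ := hX.atlas
  exact ⟨↥U.left, Points.ofPt p, surjective_ofPt hps⟩

/-- The covering by one morphism and the identity gives permanence on the source. -/
theorem precomp_of_isLocalOnSource {Q P : MorphismProperty (Sp S)} (hid : ∀ X, Q (𝟙 X))
    (hP : IsLocalOnSource (fun _ _ Y g => IsCover Q Y g) P) {X Y Z : Sp S} (hX : IsAlgSpace X)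
    (hY : IsAlgSpace Y) (hZ : IsAlgSpace Z) (f : X ⟶ Y) (g : Y ⟶ Z) (hf : Q f) (hg : P g) : P (f ≫ g) := by
  let Yi : ULift.{u} Bool → Sp S := fun i => bif i.down then X else Y
  let gi : ∀ i, Yi i ⟶ Y := fun i => match i with
    | ⟨true⟩ => f
    | ⟨false⟩ => 𝟙 Y
  have hcov : IsCover Q Yi gi := by
    refine ⟨fun i => ?_, fun y => ⟨⟨false⟩, y, Points.map_id y⟩⟩
    obtain ⟨i⟩ := i
    cases i
    · exact hid Y
    · exact hf
  have hspace : ∀ i, IsAlgSpace (Yi i) := by
    rintro ⟨i⟩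
    cases i
    · exact hY
    · exact hX
  exact (hP Yi gi hY hspace hcov g hZ).1 hg ⟨true⟩

/-- The covering by one morphism and the identity gives stability under base change. -/
theorem baseChange_of_isLocalOnBase {Q P : MorphismProperty (Sp S)} (hid : ∀ X, Q (𝟙 X))
    (hP : IsLocalOnBase (fun _ _ Y g => IsCover Q Y g) P) {X Y X' Y' : Sp S} (hX : IsAlgSpace X)
    (hY : IsAlgSpace Y) (hX' : IsAlgSpace X') (hY' : IsAlgSpace Y') (f : X ⟶ Y) (g : Y' ⟶ Y)
    (f' : X' ⟶ Y') (g' : X' ⟶ X) (sq : IsPullback g' f' f g) (hg : Q g) (hf : P f) : P f' := by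
  let Yi : ULift.{u} Bool → Sp S := fun i => bif i.down then Y' else Y
  let Xi : ULift.{u} Bool → Sp S := fun i => bif i.down then X' else X
  let gi : ∀ i, Yi i ⟶ Y := fun i => match i with
    | ⟨true⟩ => g
    | ⟨false⟩ => 𝟙 Y
  let pi : ∀ i, Xi i ⟶ Yi i := fun i => match i with
    | ⟨true⟩ => f'
    | ⟨false⟩ => f
  let qi : ∀ i, Xi i ⟶ X := fun i => match i with
    | ⟨true⟩ => g'
    | ⟨false⟩ => 𝟙 X
  have hcov : IsCover Q Yi gi := by
    refine ⟨fun i => ?_, fun y => ⟨⟨false⟩, y, Points.map_id y⟩⟩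
    obtain ⟨i⟩ := i
    cases i
    · exact hid Y
    · exact hg
  have h1 : ∀ i, IsAlgSpace (Yi i) := by
    rintro ⟨i⟩
    cases i
    · exact hY
    · exact hY'
  have h2 : ∀ i, IsAlgSpace (Xi i) := by
    rintro ⟨i⟩
    cases i
    · exact hX
    · exact hX'
  have h3 : ∀ i, IsPullback (qi i) (pi i) f (gi i) := by
    rintro ⟨i⟩
    cases i
    · exact isPullback_id f
    · exact sq
  exact (hP Yi gi hY h1 hcov f hX Xi pi qi h2 h3).1 hf ⟨true⟩

end Groth.Agent.AlgSpLib
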