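import Groth.Agent.AlgSpLib.Points
import Groth.Agent.AlgSpLib.ChartMor
import Groth.Prelude.Def_AlgSp4
import Mathlib.AlgebraicGeometry.Morphisms.UniversallyInjective

/-!
Monomorphisms and diagonals of representable morphisms.
-/

set_option autoImplicit false
set_option backward.isDefEq.respectTransparency.types false

universe u

open CategoryTheory CategoryTheory.Limits AlgebraicGeometry Opposite AlgSp

namespace Groth.Agent.AlgSpLib

variable {S : Scheme.{u}} {F G : Sp S}

/-- Morphisms of sheaves are determined on schemes. -/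
theorem hom_ext_yon {f g : F ⟶ G}
    (h : ∀ (T : Over S) (a : (yon S).obj T ⟶ F), a ≫ f = a ≫ g) : f = g := by
  apply Sheaf.hom_ext
  apply NatTrans.ext
  funext T
  ext x
  have := congrArg (J S).uliftYonedaEquiv (h T.unop ((J S).uliftYonedaEquiv.symm x))
  rw [GrothendieckTopology.uliftYonedaEquiv_comp, GrothendieckTopology.uliftYonedaEquiv_comp,
    Equiv.apply_symm_apply] at this
  exact this

/-- A morphism representable by monomorphisms is a monomorphism. -/
theorem mono_of_repWith {P : MorphismProperty Scheme.{u}} {f : F ⟶ G} (hf : RepWith P f)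
    (hP : ∀ ⦃A B : Scheme.{u}⦄ (k : A ⟶ B), P k → Mono k) : Mono f := by
  refine ⟨fun {Z} a b e => hom_ext_yon fun T t => ?_⟩
  obtain ⟨V, snd, fst, sq⟩ := hf.1 ((t ≫ a) ≫ f)
  obtain ⟨k₁, h₁, h₁'⟩ := exists_lift sq (t ≫ a) (𝟙 T) (by simp)
  obtain ⟨k₂, h₂, h₂'⟩ := exists_lift sq (t ≫ b) (𝟙 T) (by simp [e])
  have : Mono ((Over.forget S).map snd) := hP _ (hf.2 _ fst snd sq)
  have : Mono snd := (Over.forget S).mono_of_mono_map this
  obtain rfl : k₁ = k₂ := (cancel_mono snd).1 (h₁'.trans h₂'.symm)
  exact h₁.symm.trans h₂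

theorem mono_of_repWith_isImmersion {f : F ⟶ G} (hf : RepWith @IsImmersion f) : Mono f :=
  mono_of_repWith hf fun _ _ k hk => by have : IsImmersion k := hk; infer_instance

/-- The diagonal of a monomorphism has every property. -/
theorem repWith_diagonal_of_mono {P : MorphismProperty Scheme.{u}} [P.IsStableUnderBaseChange]
    [P.ContainsIdentities] (f : F ⟶ G) [Mono f] : RepWith P (pullback.diagonal f) := by
  have : IsIso (pullback.diagonal f) := (pullback.isIso_diagonal_iff f).mpr inferInstance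
  exact repWith_iso _

/-- The diagonal of a base change is a base change of the diagonal. -/
theorem diagonal_baseChange {D : Type*} [Category D] [HasPullbacks D] {X Y T V R : D} {f : X ⟶ Y}
    {g : T ⟶ Y} {fst : V ⟶ X} {snd : V ⟶ T} (sq : IsPullback fst snd f g) {r₁ r₂ : R ⟶ V}
    (sqR : IsPullback r₁ r₂ snd snd) {Δ : V ⟶ R} (h₁ : Δ ≫ r₁ = 𝟙 V) (h₂ : Δ ≫ r₂ = 𝟙 V)
    (m : R ⟶ pullback f f) (hm₁ : m ≫ pullback.fst f f = r₁ ≫ fst)
    (hm₂ : m ≫ pullback.snd f f = r₂ ≫ fst) :
    IsPullback fst Δ (pullback.diagonal f) m := by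
  have w : fst ≫ pullback.diagonal f = Δ ≫ m := by
    apply pullback.hom_ext
    · rw [Category.assoc, Category.assoc, pullback.diagonal_fst, hm₁, Category.comp_id, reassoc_of% h₁]
    · rw [Category.assoc, Category.assoc, pullback.diagonal_snd, hm₂, Category.comp_id, reassoc_of% h₂]
  have key : ∀ {Z : D} (i : Z ⟶ X) (j : Z ⟶ R), i ≫ pullback.diagonal f = j ≫ m →
      (j ≫ r₁) ≫ fst = i ∧ j ≫ r₁ = j ≫ r₂ := by
    intro Z i j e
    have e₁ := congrArg (· ≫ pullback.fst f f) e
    have e₂ := congrArg (· ≫ pullback.snd f f) e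
    simp only [Category.assoc, pullback.diagonal_fst, pullback.diagonal_snd, Category.comp_id, hm₁, hm₂] at e₁ e₂
    refine ⟨(Category.assoc _ _ _).trans e₁.symm, sq.hom_ext ?_ ?_⟩
    · rw [Category.assoc, Category.assoc, ← e₁, ← e₂]
    · rw [Category.assoc, Category.assoc, sqR.w]
  refine IsPullback.of_isLimit' ⟨w⟩ (PullbackCone.IsLimit.mk w (fun s => s.snd ≫ r₁)
    (fun s => (key s.fst s.snd s.condition).1) (fun s => ?_) (fun s l hl₁ hl₂ => ?_))
  · apply sqR.hom_ext
    · rw [Category.assoc, h₁, Category.comp_id]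
    · rw [Category.assoc, h₂, Category.comp_id]
      exact (key s.fst s.snd s.condition).2
  · show l = s.snd ≫ r₁
    rw [← hl₂, Category.assoc, h₁, Category.comp_id]

theorem exists_mapToDiag {f : F ⟶ G} {T V : Over S} {g : (yon S).obj T ⟶ G} {fst : (yon S).obj V ⟶ F}
    {snd : V ⟶ T} (sq : IsPullback fst ((yon S).map snd) f g) :
    ∃ m : (yon S).obj (pullback snd snd) ⟶ pullback f f,
      m ≫ pullback.fst f f = (yon S).map (pullback.fst snd snd) ≫ fst ∧
      m ≫ pullback.snd f f = (yon S).map (pullback.snd snd snd) ≫ fst ∧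
      IsPullback fst ((yon S).map (pullback.diagonal snd)) (pullback.diagonal f) m := by
  have sqR := yon_isPullback (IsPullback.of_hasPullback snd snd)
  refine ⟨pullback.lift ((yon S).map (pullback.fst snd snd) ≫ fst) ((yon S).map (pullback.snd snd snd) ≫ fst)
    (by rw [Category.assoc, Category.assoc, sq.w, ← Category.assoc, ← Category.assoc, sqR.w]),
    pullback.lift_fst _ _ _, pullback.lift_snd _ _ _, ?_⟩
  exact diagonal_baseChange sq sqR
    (by rw [← Functor.map_comp, pullback.diagonal_fst]; exact (yon S).map_id V)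
    (by rw [← Functor.map_comp, pullback.diagonal_snd]; exact (yon S).map_id V) _
    (pullback.lift_fst _ _ _) (pullback.lift_snd _ _ _)

theorem diagonal_left_iff {P : MorphismProperty Scheme.{u}} [P.RespectsIso] {U V : Over S} (g : U ⟶ V) :
    P (pullback.diagonal g).left ↔ P (pullback.diagonal g.left) := by
  change _ ↔ P (pullback.diagonal ((Over.forget S).map g))
  rw [diagonal_forget_map]
  exact (P.cancel_right_of_respectsIso _ _).symm

/-- Diagonals of representable morphisms. -/
theorem repWith_diagonal_iff {P : MorphismProperty Scheme.{u}} [P.IsStableUnderBaseChange] {f : F ⟶ G}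
    (hf : Representable f) :
    RepWith P (pullback.diagonal f) ↔
      ∀ ⦃T V : Over S⦄ (g : (yon S).obj T ⟶ G) (fst : (yon S).obj V ⟶ F) (snd : V ⟶ T),
        IsPullback fst ((yon S).map snd) f g → P (pullback.diagonal snd.left) := by
  have : P.RespectsIso := MorphismProperty.IsStableUnderBaseChange.respectsIso
  constructor
  · intro h T V g fst snd sq
    obtain ⟨m, -, -, sqd⟩ := exists_mapToDiag sq
    exact (diagonal_left_iff snd).1 (h.2 m fst _ sqd)
  · intro h
    refine repWith_of_exists fun T g => ?_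
    let a := g ≫ pullback.fst f f
    let b := g ≫ pullback.snd f f
    have hab : a ≫ f = b ≫ f := by simp only [a, b, Category.assoc, pullback.condition]
    obtain ⟨V, snd, fst, sq⟩ := hf (a ≫ f)
    obtain ⟨k₁, h₁, h₁'⟩ := exists_lift sq a (𝟙 T) (by simp)
    obtain ⟨k₂, h₂, h₂'⟩ := exists_lift sq b (𝟙 T) (by simp [hab])
    obtain ⟨m, hm₁, hm₂, sqd⟩ := exists_mapToDiag sq
    let l : T ⟶ pullback snd snd := pullback.lift k₁ k₂ (h₁'.trans h₂'.symm)
    have hg : g = (yon S).map l ≫ m := by
      apply pullback.hom_ext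
      · rw [Category.assoc, hm₁, ← Category.assoc, ← Functor.map_comp, pullback.lift_fst, h₁]
      · rw [Category.assoc, hm₂, ← Category.assoc, ← Functor.map_comp, pullback.lift_snd, h₂]
    refine ⟨pullback (pullback.diagonal snd) l, (yon S).map (pullback.fst _ _) ≫ fst,
      pullback.snd (pullback.diagonal snd) l, ?_, ?_⟩
    · rw [hg]
      exact (yon_isPullback (IsPullback.of_hasPullback _ _)).paste_horiz sqd
    · exact P.of_isPullback (left_isPullback (IsPullback.of_hasPullback _ _))
        ((diagonal_left_iff snd).2 (h _ fst snd sq))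

theorem isSeparatedMor_iff_repWith {f : F ⟶ G} (hf : Representable f) :
    IsSeparatedMor f ↔ RepWith @IsSeparated f := by
  refine (repWith_diagonal_iff hf).trans ⟨fun h => ?_, fun h T V g fst snd sq => ?_⟩
  · exact repWith_of_rep hf fun T V g fst snd sq => (isSeparated_iff _).2 (h g fst snd sq)
  · exact (isSeparated_iff _).1 (h.2 g fst snd sq)

theorem isQuasiSeparatedMor_iff_repWith {f : F ⟶ G} (hf : Representable f) :
    IsQuasiSeparatedMor f ↔ RepWith @QuasiSeparated f := by
  refine (repWith_diagonal_iff hf).trans ⟨fun h => ?_, fun h T V g fst snd sq => ?_⟩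
  · exact repWith_of_rep hf fun T V g fst snd sq => (quasiSeparated_iff _).2 (h g fst snd sq)
  · exact (quasiSeparated_iff _).1 (h.2 g fst snd sq)

/-- Subobjects: a map into a monomorphism inherits properties. -/
theorem repWith_of_comp_mono {H : Sp S} {P : MorphismProperty Scheme.{u}} [P.IsStableUnderBaseChange]
    (g : F ⟶ G) (m : G ⟶ H) [Mono m] (h : RepWith P (g ≫ m)) : RepWith P g := by
  refine repWith_of_exists fun U u => ?_
  obtain ⟨V, snd, fst, sq⟩ := h.1 (u ≫ m)
  refine ⟨V, fst, snd, ?_, h.2 _ fst snd sq⟩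
  have w : fst ≫ g = (yon S).map snd ≫ u := by
    rw [← cancel_mono m, Category.assoc, Category.assoc]
    exact sq.w
  refine IsPullback.of_isLimit' ⟨w⟩ (PullbackCone.IsLimit.mk w
    (fun s => sq.lift s.fst s.snd (by rw [← Category.assoc, s.condition, Category.assoc]))
    (fun s => sq.lift_fst _ _ _) (fun s => sq.lift_snd _ _ _) (fun s l h₁ h₂ => sq.hom_ext ?_ ?_))
  · rw [sq.lift_fst, h₁]
  · rw [sq.lift_snd, h₂]

/-- The diagonal of a sheaf from pairwise fibre products. -/
theorem repWith_diag_of_pairwise (F : Sp S) (P : MorphismProperty Scheme.{u}) [P.IsStableUnderBaseChange]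
    (h₁ : ∀ ⦃U V : Over S⦄ (a : (yon S).obj U ⟶ F) (b : (yon S).obj V ⟶ F),
      ∃ (W : Over S) (fst : W ⟶ U) (snd : W ⟶ V), IsPullback ((yon S).map fst) ((yon S).map snd) a b)
    (h₂ : ∀ ⦃U V W : Over S⦄ (a : (yon S).obj U ⟶ F) (b : (yon S).obj V ⟶ F) (fst : W ⟶ U)
      (snd : W ⟶ V), IsPullback ((yon S).map fst) ((yon S).map snd) a b → P (prod.lift fst snd).left) :
    RepWith P (Limits.diag F) := by
  refine repWith_of_exists fun U g => ?_
  let a := g ≫ prod.fst
  let b := g ≫ prod.snd
  obtain ⟨W, p, q, sq⟩ := h₁ a b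
  let Z := pullback (prod.lift p q) (Limits.diag U)
  let z₁ : Z ⟶ W := pullback.fst _ _
  let z₂ : Z ⟶ U := pullback.snd _ _
  have cz : z₁ ≫ prod.lift p q = z₂ ≫ Limits.diag U := pullback.condition
  have e₁ : z₁ ≫ p = z₂ :=
    calc z₁ ≫ p = (z₁ ≫ prod.lift p q) ≫ prod.fst := by rw [Category.assoc, Limits.prod.lift_fst]
      _ = (z₂ ≫ Limits.diag U) ≫ prod.fst := by rw [cz]
      _ = z₂ := by rw [Category.assoc, Limits.prod.lift_fst, Category.comp_id]
  have e₂ : z₁ ≫ q = z₂ :=
    calc z₁ ≫ q = (z₁ ≫ prod.lift p q) ≫ prod.snd := by rw [Category.assoc, Limits.prod.lift_snd]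
      _ = (z₂ ≫ Limits.diag U) ≫ prod.snd := by rw [cz]
      _ = z₂ := by rw [Category.assoc, Limits.prod.lift_snd, Category.comp_id]
  have w : ((yon S).map z₂ ≫ a) ≫ Limits.diag F = (yon S).map z₂ ≫ g := by
    apply Limits.prod.hom_ext
    · rw [Category.assoc, Category.assoc, Limits.prod.lift_fst, Category.comp_id, Category.assoc]
    · rw [Category.assoc, Category.assoc, Limits.prod.lift_snd, Category.comp_id, Category.assoc]
      show (yon S).map z₂ ≫ a = (yon S).map z₂ ≫ b
      conv_lhs => rw [← e₁]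
      conv_rhs => rw [← e₂]
      simp only [Functor.map_comp, Category.assoc, sq.w]
  have key : ∀ (s : PullbackCone (Limits.diag F) g), ∃ l : s.pt ⟶ (yon S).obj Z,
      l ≫ (yon S).map z₂ = s.snd ∧ l ≫ (yon S).map z₂ ≫ a = s.fst ∧
        ∀ l' : s.pt ⟶ (yon S).obj Z, l' ≫ (yon S).map z₂ = s.snd → l' = l := by
    intro s
    have c₁ := congrArg (· ≫ prod.fst) s.condition
    have c₂ := congrArg (· ≫ prod.snd) s.condition
    simp only [Category.assoc, Limits.prod.lift_fst, Limits.prod.lift_snd, Category.comp_id] at c₁ c₂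
    let k := sq.lift s.snd s.snd (c₁.symm.trans c₂)
    have sqY := yon_isPullback (IsPullback.of_hasPullback (prod.lift p q) (Limits.diag U))
    have wk : k ≫ (yon S).map (prod.lift p q) = s.snd ≫ (yon S).map (Limits.diag U) := by
      apply (cancel_mono (prodComparison (yon S) U U)).1
      apply Limits.prod.hom_ext
      · simp only [Category.assoc, prodComparison_fst, ← Functor.map_comp, Limits.prod.lift_fst]
        rw [sq.lift_fst]
        exact ((congrArg (s.snd ≫ ·) ((yon S).map_id U)).trans (Category.comp_id _)).symm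
      · simp only [Category.assoc, prodComparison_snd, ← Functor.map_comp, Limits.prod.lift_snd]
        rw [sq.lift_snd]
        exact ((congrArg (s.snd ≫ ·) ((yon S).map_id U)).trans (Category.comp_id _)).symm
    refine ⟨sqY.lift k s.snd wk, sqY.lift_snd _ _ _, ?_, fun l' hl' => sqY.hom_ext ?_ ?_⟩
    · rw [← Category.assoc, sqY.lift_snd]
      exact c₁.symm
    · rw [sqY.lift_fst]
      apply sq.hom_ext
      · rw [sq.lift_fst, Category.assoc, ← Functor.map_comp, e₁, hl']
      · rw [sq.lift_snd, Category.assoc, ← Functor.map_comp, e₂, hl']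
    · rw [sqY.lift_snd, hl']
  choose l hl₁ hl₂ hl₃ using key
  refine ⟨Z, (yon S).map z₂ ≫ a, z₂, IsPullback.of_isLimit' ⟨w⟩
    (PullbackCone.IsLimit.mk w l hl₂ hl₁ (fun s m _ hm => hl₃ s m hm)), ?_⟩
  exact P.of_isPullback (left_isPullback (IsPullback.of_hasPullback _ _)) (h₂ a b p q sq)

/-- Universally injective representable morphisms. -/
theorem repWith_universallyInjective_iff {f : F ⟶ G} (hf : Representable f) :
    RepWith @UniversallyInjective f ↔
      ∀ (K : Type u) [Field K] (str : Spec (CommRingCat.of K) ⟶ S),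
        Function.Injective (fun a : (yon S).obj (Over.mk str) ⟶ F => a ≫ f) := by
  constructor
  · intro h K _ str a b e
    obtain ⟨V, snd, fst, sq⟩ := hf (a ≫ f)
    obtain ⟨k₁, h₁, h₁'⟩ := exists_lift sq a (𝟙 _) (by simp)
    obtain ⟨k₂, h₂, h₂'⟩ := exists_lift sq b (𝟙 _) (by simpa using e.symm)
    have hu : UniversallyInjective snd.left := h.2 _ fst snd sq
    have hi := (((tfae_universallyInjective snd.left).out 0 1 :) :
      UniversallyInjective snd.left ↔ ∀ (K : Type u) [Field K],
        Function.Injective (fun g : Spec (.of K) ⟶ _ ↦ g ≫ snd.left)).1 hu K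
    obtain rfl : k₁ = k₂ := Over.OverMorphism.ext (hi (congrArg (fun t => t.left) (h₁'.trans h₂'.symm)))
    exact h₁.symm.trans h₂
  · intro h
    refine repWith_of_rep hf fun U V g fst snd sq => ?_
    refine (((tfae_universallyInjective snd.left).out 0 1 :) :
      UniversallyInjective snd.left ↔ ∀ (K : Type u) [Field K],
        Function.Injective (fun g : Spec (.of K) ⟶ _ ↦ g ≫ snd.left)).2 fun K instK k₁ k₂ e => ?_
    let str : Spec (CommRingCat.of K) ⟶ S := k₁ ≫ V.hom
    let K₁ : Over.mk str ⟶ V := Over.homMk k₁ rfl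
    let K₂ : Over.mk str ⟶ V := Over.homMk k₂ (by
      show k₂ ≫ V.hom = str
      simp only [str]
      rw [← Over.w snd, ← Category.assoc, ← Category.assoc]
      exact (congrArg (· ≫ U.hom) e).symm)
    have e' : K₁ ≫ snd = K₂ ≫ snd := Over.OverMorphism.ext e
    have hfst : (yon S).map K₁ ≫ fst = (yon S).map K₂ ≫ fst := h K str (by
      simp only [Category.assoc, sq.w]
      rw [← Category.assoc, ← Category.assoc, ← Functor.map_comp, ← Functor.map_comp, e'])
    have : (yon S).map K₁ = (yon S).map K₂ :=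
      sq.hom_ext hfst (by rw [← Functor.map_comp, ← Functor.map_comp, e'])
    exact congrArg (fun t => t.left) ((yon S).map_injective this)

/-- A chart lifting a given chart of the target. -/
theorem exists_chart_lift (hF : IsAlgSpace F) (hG : IsAlgSpace G) (a : F ⟶ G) {V : Over S}
    (q : (yon S).obj V ⟶ G) (hqe : RepWith @Etale q) (hqs : RepWith @Surjective q) :
    ∃ (U : Over S) (p : (yon S).obj U ⟶ F) (α : U ⟶ V),
      RepWith @Etale p ∧ RepWith @Surjective p ∧ p ≫ a = (yon S).map α ≫ q := by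
  obtain ⟨U₀, p, hp, hps⟩ := hF.atlas
  obtain ⟨Z, z₁, z₂, sq⟩ := exists_isPullback (hG.representable_from_yon q) (p ≫ a)
  have h₁ : Etale z₂.left := prop_snd sq hqe
  have h₂ : Surjective z₂.left := prop_snd sq hqs
  refine ⟨Z, (yon S).map z₂ ≫ p, z₁, repWith_yon_comp z₂ h₁ hp, repWith_yon_comp z₂ h₂ hps, ?_⟩
  rw [Category.assoc]
  exact sq.w.symm

end Groth.Agent.AlgSpLib
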