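import Groth.Agent.AlgSpLib.Compact
import Groth.Agent.AlgSpLib.FpqcLocalUniv
import Groth.Agent.AlgStLib.SepRep
import Groth.Agent.AlgStLib.SpDiagProps
import Mathlib

/-!
Universally closed morphisms of algebraic spaces.
-/

set_option autoImplicit false
set_option backward.isDefEq.respectTransparency false
set_option backward.isDefEq.respectTransparency.types false

universe u

open CategoryTheory CategoryTheory.Limits AlgebraicGeometry Opposite AlgSp Topology MvPolynomial

namespace Groth.Agent.AlgSpLib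

variable {S : Scheme.{u}}

theorem map_yon_ofPt_id {T T' : Over S} (φ : T ⟶ T') (t : ↥T.left) :
    Points.map ((yon S).map φ) (Points.ofPt (𝟙 _) t) = Points.ofPt (𝟙 _) (φ.left t) :=
  Points.map_yon_map_apply φ t

/-- Universal closedness is tested on affine schemes over the target. -/
theorem isUnivClosedMor_iff_affine {X Y : Sp S} (hX : IsAlgSpace X) (hY : IsAlgSpace Y) (f : X ⟶ Y) :
    IsUnivClosedMor f ↔
      ∀ (Z : Over S), IsAffine Z.left → ∀ (g : (yon S).obj Z ⟶ Y) (P : Sp S) (fst : P ⟶ X)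
        (snd : P ⟶ (yon S).obj Z), IsPullback fst snd f g → IsClosedMap (Points.map snd) := by
  refine ⟨fun h Z _ g P fst snd sq => h (IsAlgSpace.yon_obj Z) g fst snd sq, fun h Z Z' hZ g fst snd sq C hC => ?_⟩
  refine isOpen_compl_iff.1 (Points.isOpen_iff.2 fun T ψ => ?_)
  rw [Set.preimage_compl, isOpen_compl_iff]
  refine (TopologicalSpace.IsOpenCover.isClosed_iff_coe_preimage (U := fun A : T.left.affineOpens => A.1)
    (iSup_affineOpens_eq_top T.left)).2 fun A => ?_
  let W : Over S := Over.mk (A.1.ι ≫ T.hom)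
  let j : W ⟶ T := Over.homMk A.1.ι
  have : IsAffine W.left := A.2
  let k := (yon S).map j ≫ ψ
  have hc := h W A.2 (k ≫ g) _ _ _ ((IsPullback.of_hasPullback snd k).paste_horiz sq)
    _ (hC.preimage (Points.continuous_map (pullback.fst snd k)))
  rw [← preimage_image_eq] at hc
  have hc' := hc.preimage (Points.continuous_ofPt (𝟙 ((yon S).obj W)))
  refine (?_ : IsClosed ((fun w : W.left => Points.ofPt ψ (j.left w)) ⁻¹' (Points.map snd '' C)))
  convert hc' using 1
  ext w
  show Points.ofPt ψ (j.left w) ∈ Points.map snd '' C ↔ Points.map k (Points.ofPt (𝟙 _) w) ∈ Points.map snd '' C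
  rw [map_ofPt_id, ofPt_comp]

/-- Descent along an etale surjective chart of the target. -/
theorem isUnivClosedMor_of_chart {X Y : Sp S} (hX : IsAlgSpace X) (hY : IsAlgSpace Y) (f : X ⟶ Y) (V : Over S)
    (p : (yon S).obj V ⟶ Y) (hp : RepWith @Etale p) (hps : RepWith @Surjective p)
    {P : Sp S} (fst : P ⟶ X) (snd : P ⟶ (yon S).obj V) (sq : IsPullback fst snd f p)
    (h : IsUnivClosedMor snd) : IsUnivClosedMor f := by
  refine (isUnivClosedMor_iff_affine hX hY f).2 fun Z hZ g P' fst' snd' sq' C hC => ?_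
  obtain ⟨W, a, b, sW⟩ := exists_isPullback hp.1 g
  have hb : Surjective b.left := prop_snd sW hps
  have hbe : Etale b.left := prop_snd sW hp
  have sQ := IsPullback.of_hasPullback snd' ((yon S).map b)
  have s1 := sQ.paste_horiz sq'
  rw [← sW.w] at s1
  let l := sq.lift (pullback.fst snd' ((yon S).map b) ≫ fst') (pullback.snd snd' ((yon S).map b) ≫ (yon S).map a)
    (by rw [s1.w, Category.assoc])
  have s2 : IsPullback l (pullback.snd snd' ((yon S).map b)) snd ((yon S).map a) :=
    IsPullback.of_right (by rw [sq.lift_fst]; exact s1) (sq.lift_snd _ _ _) sq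
  have hc := h (IsAlgSpace.yon_obj W) _ _ _ s2 _
    (hC.preimage (Points.continuous_map (pullback.fst snd' ((yon S).map b))))
  rw [← preimage_image_eq] at hc
  have hc' : IsClosed ((Points.ofPt (𝟙 ((yon S).obj Z))) ⁻¹' (Points.map snd' '' C)) := by
    have hq : IsQuotientMap b.left :=
      (b.left.isOpenMap).isQuotientMap b.left.continuous b.left.surjective
    rw [← hq.isClosed_preimage]
    convert hc.preimage (Points.continuous_ofPt (𝟙 ((yon S).obj W))) using 1
    ext w
    show Points.ofPt (𝟙 _) (b.left w) ∈ Points.map snd' '' C ↔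
      Points.map ((yon S).map b) (Points.ofPt (𝟙 _) w) ∈ Points.map snd' '' C
    rw [map_yon_ofPt_id]
  exact (Points.schemeHomeo Z).isClosed_preimage.1 hc'

/-- A space universally closed over an affine scheme is quasi-compact. -/
theorem compactSpace_of_isUnivClosedMor {G : Sp S} (hG : IsAlgSpace G) {V : Over S} [IsAffine V.left]
    (r : G ⟶ (yon S).obj V) (hr : IsUnivClosedMor r) : CompactSpace (Points G) := by
  classical
  obtain ⟨U, a, ha, has⟩ := hG.atlas
  let ι := ↥U.left.affineOpens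
  let R := Γ(V.left, ⊤)
  let P := MvPolynomial ι R
  let q₀ : Spec (CommRingCat.of P) ⟶ V.left :=
    Spec.map (CommRingCat.ofHom (MvPolynomial.C : R →+* P)) ≫ V.left.isoSpec.inv
  let T : Over S := Over.mk (q₀ ≫ V.hom)
  let q : T ⟶ V := Over.homMk q₀
  let G' := pullback r ((yon S).map q)
  let p := pullback.fst r ((yon S).map q)
  let fT := pullback.snd r ((yon S).map q)
  let O : ι → Set (Points G) := fun i => Points.ofPt a '' (i.1 : Set U.left)
  let B : ι → Set (Points ((yon S).obj T)) := fun i =>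
    (Points.schemeHomeo T).symm ⁻¹' (PrimeSpectrum.basicOpen (X i : P) : Set (PrimeSpectrum P))
  have hO : ∀ i, IsOpen (O i) := fun i => isOpenMap_ofPt_of_etale ha _ i.1.isOpen
  have hB : ∀ i, IsOpen (B i) := fun i =>
    (PrimeSpectrum.basicOpen (X i : P)).isOpen.preimage (Points.schemeHomeo T).symm.continuous
  let Z : Set (Points G') := (⋃ i, Points.map p ⁻¹' O i ∩ Points.map fT ⁻¹' B i)ᶜ
  have hZ : IsClosed Z := (isOpen_iUnion fun i =>
    ((hO i).preimage (Points.continuous_map _)).inter ((hB i).preimage (Points.continuous_map _))).isClosed_compl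
  let K : Set (PrimeSpectrum P) := Points.ofPt (𝟙 ((yon S).obj T)) ⁻¹' (Points.map fT '' Z)
  have hK : IsClosed K :=
    (hr (IsAlgSpace.yon_obj T) _ _ _ (IsPullback.of_hasPullback _ _) Z hZ).preimage (Points.continuous_ofPt _)
  have hsymm : ∀ t : T.left, (Points.schemeHomeo T).symm (Points.ofPt (𝟙 _) t) = t := fun t =>
    (Points.schemeEquiv T).symm_apply_apply t
  -- lifting sections
  let sec : Set ι → (P →ₐ[R] R) := fun σ => MvPolynomial.aeval fun i => if i ∈ σ then 1 else 0
  let s : Set ι → (V.left ⟶ Spec (CommRingCat.of P)) := fun σ =>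
    V.left.isoSpec.hom ≫ Spec.map (CommRingCat.ofHom (sec σ).toRingHom)
  have hs : ∀ σ v, q₀ (s σ v) = v := fun σ v => by
    rw [← Scheme.Hom.comp_apply]
    have : s σ ≫ q₀ = 𝟙 _ := by
      simp only [s, q₀, Category.assoc]
      rw [← Spec.map_comp_assoc, ← CommRingCat.ofHom_comp,
        show (sec σ).toRingHom.comp (MvPolynomial.C : R →+* P) = RingHom.id R from (sec σ).comp_algebraMap]
      rw [CommRingCat.ofHom_id, Spec.map_id]
      exact (V.left.isoSpec.hom ≫= Category.id_comp _).trans V.left.isoSpec.hom_inv_id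
    rw [this]
    rfl
  have hbo : ∀ σ v (f : P), s σ v ∈ PrimeSpectrum.basicOpen f ↔ sec σ f ∉ (V.left.isoSpec.hom v).asIdeal :=
    fun σ v f => Iff.rfl
  have hmem : ∀ σ v i, s σ v ∈ PrimeSpectrum.basicOpen (X i : P) → i ∈ σ := fun σ v i hi => by
    by_contra hn
    refine (hbo σ v _).1 hi ?_
    rw [MvPolynomial.aeval_X, if_neg hn]
    exact Ideal.zero_mem _
  have huniv : ∀ v, s Set.univ v ∉ K := by
    rintro v ⟨z, hz, e⟩
    obtain ⟨u, hu⟩ := surjective_ofPt has (Points.map p z)
    obtain ⟨_, ⟨A, hA, rfl⟩, huA, -⟩ := U.left.isBasis_affineOpens.exists_subset_of_mem_open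
      (Set.mem_univ u) isOpen_univ
    refine hz (Set.mem_iUnion.2 ⟨⟨A, hA⟩, ⟨u, huA, hu⟩, ?_⟩)
    show (Points.schemeHomeo T).symm (Points.map fT z) ∈ PrimeSpectrum.basicOpen _
    rw [e, hsymm]
    refine (hbo _ v _).2 ?_
    rw [MvPolynomial.aeval_X, if_pos (Set.mem_univ _)]
    exact (Ideal.ne_top_iff_one _).1 (V.left.isoSpec.hom v).isPrime.ne_top
  have hcov : ∀ v : V.left, ∃ g : P, s Set.univ v ∈ PrimeSpectrum.basicOpen g ∧
      ↑(PrimeSpectrum.basicOpen g) ⊆ Kᶜ := fun v => by
    obtain ⟨_, ⟨_, ⟨g, rfl⟩, rfl⟩, h1, h2⟩ := PrimeSpectrum.isBasis_basic_opens.exists_subset_of_mem_open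
      (show s Set.univ v ∈ Kᶜ from huniv v) hK.isOpen_compl
    exact ⟨g, h1, h2⟩
  choose g hg hgK using hcov
  obtain ⟨F, hF⟩ := isCompact_univ.elim_finite_subcover
    (fun v : V.left => (s Set.univ) ⁻¹' (PrimeSpectrum.basicOpen (g v) : Set (PrimeSpectrum P)))
    (fun v => (PrimeSpectrum.basicOpen (g v)).isOpen.preimage (s Set.univ).continuous)
    (fun v _ => Set.mem_iUnion.2 ⟨v, hg v⟩)
  let σ : Finset ι := F.biUnion fun v => (g v).vars
  suffices ⋃ i ∈ σ, O i = Set.univ from
    ⟨this ▸ Finset.isCompact_biUnion _ fun i _ => i.2.isCompact.image (Points.continuous_ofPt a)⟩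
  refine Set.eq_univ_of_forall fun x => ?_
  obtain ⟨v, hv⟩ := exists_ofScheme (Points.map r x)
  obtain ⟨w, hw, hvw⟩ : ∃ w ∈ F, s Set.univ v ∈ PrimeSpectrum.basicOpen (g w) := by
    obtain ⟨w, hw, hh⟩ := Set.mem_iUnion₂.1 (hF (Set.mem_univ v))
    exact ⟨w, hw, hh⟩
  have ht : s ↑σ v ∈ PrimeSpectrum.basicOpen (g w) := by
    have e : sec ↑σ (g w) = sec Set.univ (g w) := by
      refine MvPolynomial.eval₂Hom_congr' rfl (fun i hi _ => ?_) rfl
      rw [if_pos (show i ∈ (↑σ : Set ι) from Finset.mem_coe.2 (Finset.mem_biUnion.2 ⟨w, hw, hi⟩)), if_pos (Set.mem_univ i)]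
    refine (hbo _ v _).2 ?_
    rw [e]
    exact (hbo _ v _).1 hvw
  obtain ⟨z, hz1, hz2⟩ := exists_point_of_isPullback (IsPullback.of_hasPullback r ((yon S).map q)) x
    (Points.ofPt (𝟙 _) (show T.left from s ↑σ v)) (by rw [map_yon_ofPt_id, ← hv]; exact (congrArg _ (hs _ v)).symm)
  have hzZ : z ∉ Z := fun hz => hgK w ht ⟨z, hz, hz2⟩
  obtain ⟨i, hi1, hi2⟩ := Set.mem_iUnion.1 (not_not.1 hzZ)
  refine Set.mem_iUnion₂.2 ⟨i, ?_, hz1 ▸ hi1⟩
  refine hmem ↑σ v i ?_
  have h3 : (Points.schemeHomeo T).symm (Points.map fT z) ∈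
      (PrimeSpectrum.basicOpen (X i : P) : Set (PrimeSpectrum P)) := hi2
  rw [hz2, hsymm] at h3
  exact h3

/-- Universally closed morphisms are quasi-compact. -/
theorem isQuasiCompactMor_of_isUnivClosedMor {X Y : Sp S} (hX : IsAlgSpace X) (hY : IsAlgSpace Y) {f : X ⟶ Y}
    (hf : IsUnivClosedMor f) : IsQuasiCompactMor f := fun Z Z' hZ hq g a b sq => by
  obtain ⟨W, p, hW, -, hps⟩ := (isQuasiCompactSp_iff_affine hZ).1 hq
  have hZ' := isAlgSpace_of_isPullback sq hX hZ hY
  have sP := IsPullback.of_hasPullback b p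
  have hP := isAlgSpace_pullback b p hZ' (IsAlgSpace.yon_obj W) hZ
  have : IsAffine W.left := hW
  have := compactSpace_of_isUnivClosedMor hP (pullback.snd b p) (univSp_baseChange hf (sP.paste_horiz sq))
  exact isQuasiCompactSp_of_surjective hZ' (pullback.fst b p)
    (surjective_snd sP.flip (surjective_map_of_repWith hps)) ((isQuasiCompactSp_iff_compactSpace hP).2 this)

/-- Separatedness read on universal closedness of the diagonal. -/
theorem isSeparatedMor_of_diag_univClosed {X Y : Sp S} (hX : IsAlgSpace X) (hY : IsAlgSpace Y) (f : X ⟶ Y)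
    (h : IsUnivClosedMor (pullback.diagonal f)) : IsSeparatedMor f := by
  refine repWith_of_exists fun V c => ?_
  obtain ⟨W, k, fst, sq⟩ := representable_diagonal hX f c
  refine ⟨W, fst, k, sq, ?_⟩
  have : UniversallyClosed k.left :=
    AlgStLib.universallyClosed_of_isUnivClosedMor k (univSp_baseChange h sq)
  have hR := isAlgSpace_pullback f f hX hX hY
  have hk : LocP @LocallyOfFiniteType ((yon S).map k) :=
    locP_baseChange hX hR (IsAlgSpace.yon_obj V) sq (AlgStLib.locP_diagonal AlgStLib.lft_cancel hX hY)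
  have : LocallyOfFiniteType k.left :=
    hk (𝟙 _) (𝟙 _) k (AlgSp.repWith_id _ W) (AlgSp.repWith_id _ V) (by simp)
  have : Mono ((yon S).map k) := MorphismProperty.of_isPullback (P := MorphismProperty.monomorphisms _) sq
    (inferInstanceAs (Mono (pullback.diagonal f)))
  have : Mono k := (yon S).mono_of_mono_map this
  have : Mono k.left := inferInstanceAs (Mono ((Over.forget S).map k))
  have : IsProper k.left := ⟨⟩
  exact (IsClosedImmersion.iff_isProper_and_mono k.left).2 ⟨inferInstance, inferInstance⟩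

end Groth.Agent.AlgSpLib
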