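import Groth.Agent.AlgSpLib.DiagMor

/-!
Fibre products of algebraic spaces are algebraic spaces.
-/

set_option autoImplicit false
set_option backward.isDefEq.respectTransparency.types false

universe u

open CategoryTheory CategoryTheory.Limits AlgebraicGeometry Opposite AlgSp

namespace Groth.Agent.AlgSpLib

variable {S : Scheme.{u}}

/-- Maps from the base changes of two charts cover the fibre product. -/
theorem exists_chart_of_isPullback {Q : MorphismProperty Scheme.{u}} [Q.IsStableUnderBaseChange]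
    [Q.IsStableUnderComposition] [Q.ContainsIdentities] {X Y Z P : Sp S} {fst : P ⟶ X} {snd : P ⟶ Y}
    {f : X ⟶ Z} {g : Y ⟶ Z} (sq : IsPullback fst snd f g) {U V W : Over S}
    {a : (yon S).obj U ⟶ X} {b : (yon S).obj V ⟶ Y} {p : W ⟶ U} {q : W ⟶ V}
    (sqW : IsPullback ((yon S).map p) ((yon S).map q) (a ≫ f) (b ≫ g))
    (ha : RepWith Q a) (hb : RepWith Q b) :
    RepWith Q (sq.lift ((yon S).map p ≫ a) ((yon S).map q ≫ b)
      (by rw [Category.assoc, Category.assoc, sqW.w])) := by
  let sqA := IsPullback.of_hasPullback a fst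
  let r := pullback.snd a fst
  have hr : RepWith Q r := repWith_baseChange sqA ha
  have sq1 : IsPullback (pullback.fst a fst) (r ≫ snd) (a ≫ f) g :=
    (sqA.flip.paste_horiz sq.flip).flip
  let sqB := IsPullback.of_hasPullback b (r ≫ snd)
  let r' := pullback.snd b (r ≫ snd)
  have hr' : RepWith Q r' := repWith_baseChange sqB hb
  have sq2 : IsPullback (r' ≫ pullback.fst a fst) (pullback.fst b (r ≫ snd)) (a ≫ f) (b ≫ g) :=
    sqB.flip.paste_horiz sq1
  let e := sqW.isoIsPullback _ _ sq2
  have key : sq.lift ((yon S).map p ≫ a) ((yon S).map q ≫ b)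
      (by rw [Category.assoc, Category.assoc, sqW.w]) = e.hom ≫ r' ≫ r := by
    apply sq.hom_ext
    · rw [sq.lift_fst, Category.assoc, Category.assoc, ← sqA.w,
        ← IsPullback.isoIsPullback_hom_fst _ _ sqW sq2]
      simp only [e, r', r, Category.assoc]
    · rw [sq.lift_snd, Category.assoc, Category.assoc,
        ← IsPullback.isoIsPullback_hom_snd _ _ sqW sq2]
      simp only [e, r', r, Category.assoc]
      rw [← sqB.w]
  rw [key]
  exact repWith_comp (repWith_iso e.hom) (repWith_comp hr' hr)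

/-- Fibre products of algebraic spaces are algebraic spaces. -/
theorem isAlgSpace_of_isPullback {X Y Z P : Sp S} {fst : P ⟶ X} {snd : P ⟶ Y} {f : X ⟶ Z} {g : Y ⟶ Z}
    (sq : IsPullback fst snd f g) (hX : IsAlgSpace X) (hY : IsAlgSpace Y) (hZ : IsAlgSpace Z) :
    IsAlgSpace P where
  diag := by
    refine (repWith_diag_of_pairwise (P := (⊤ : MorphismProperty Scheme.{u})) P (fun U V a b => ?_)
      (fun _ _ _ _ _ _ _ _ => trivial)).1
    obtain ⟨W₁, p₁, q₁, sq₁⟩ := exists_isPullback (hX.representable_from_yon (a ≫ fst)) (b ≫ fst)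
    obtain ⟨W₂, p₂, q₂, sq₂⟩ := exists_isPullback (hY.representable_from_yon (a ≫ snd)) (b ≫ snd)
    let W := pullback (prod.lift p₁ q₁) (prod.lift p₂ q₂)
    let w₁ : W ⟶ W₁ := pullback.fst _ _
    let w₂ : W ⟶ W₂ := pullback.snd _ _
    have cw : w₁ ≫ prod.lift p₁ q₁ = w₂ ≫ prod.lift p₂ q₂ := pullback.condition
    have ep : w₁ ≫ p₁ = w₂ ≫ p₂ := by
      have h := congrArg (· ≫ prod.fst) cw
      simp only [Category.assoc, Limits.prod.lift_fst] at h
      exact h
    have eq : w₁ ≫ q₁ = w₂ ≫ q₂ := by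
      have h := congrArg (· ≫ prod.snd) cw
      simp only [Category.assoc, Limits.prod.lift_snd] at h
      exact h
    have w : (yon S).map (w₁ ≫ p₁) ≫ a = (yon S).map (w₁ ≫ q₁) ≫ b := by
      apply sq.hom_ext
      · simp only [Functor.map_comp, Category.assoc, sq₁.w]
      · rw [ep, eq]
        simp only [Functor.map_comp, Category.assoc, sq₂.w]
    refine ⟨W, w₁ ≫ p₁, w₁ ≫ q₁, ⟨⟨w⟩, ⟨PullbackCone.IsLimit.mk w (fun s => ?_) (fun s => ?_)
      (fun s => ?_) (fun s m hm₁ hm₂ => ?_)⟩⟩⟩
    · exact (yon_isPullback (IsPullback.of_hasPullback (prod.lift p₁ q₁) (prod.lift p₂ q₂))).lift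
        (sq₁.lift s.fst s.snd (by rw [← Category.assoc, s.condition, Category.assoc]))
        (sq₂.lift s.fst s.snd (by rw [← Category.assoc, s.condition, Category.assoc])) (by
          apply (cancel_mono (prodComparison (yon S) U V)).1
          apply Limits.prod.hom_ext
          · simp only [Category.assoc, prodComparison_fst, ← Functor.map_comp, Limits.prod.lift_fst]
            rw [sq₁.lift_fst, sq₂.lift_fst]
          · simp only [Category.assoc, prodComparison_snd, ← Functor.map_comp, Limits.prod.lift_snd]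
            rw [sq₁.lift_snd, sq₂.lift_snd])
    · simp only [Functor.map_comp, w₁]
      rw [IsPullback.lift_fst_assoc, sq₁.lift_fst]
    · simp only [Functor.map_comp, w₁]
      rw [IsPullback.lift_fst_assoc, sq₁.lift_snd]
    · apply (yon_isPullback (IsPullback.of_hasPullback (prod.lift p₁ q₁) (prod.lift p₂ q₂))).hom_ext
      · rw [IsPullback.lift_fst]
        apply sq₁.hom_ext
        · rw [Category.assoc, ← Functor.map_comp, sq₁.lift_fst]; exact hm₁
        · rw [Category.assoc, ← Functor.map_comp, sq₁.lift_snd]; exact hm₂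
      · rw [IsPullback.lift_snd]
        apply sq₂.hom_ext
        · rw [Category.assoc, ← Functor.map_comp, sq₂.lift_fst, ← ep]; exact hm₁
        · rw [Category.assoc, ← Functor.map_comp, sq₂.lift_snd, ← eq]; exact hm₂
  atlas := by
    obtain ⟨U, a, ha, has⟩ := hX.atlas
    obtain ⟨V, b, hb, hbs⟩ := hY.atlas
    obtain ⟨W, p, q, sqW⟩ := exists_isPullback (hZ.representable_from_yon (a ≫ f)) (b ≫ g)
    exact ⟨W, _, exists_chart_of_isPullback sq sqW ha hb, exists_chart_of_isPullback sq sqW has hbs⟩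

theorem isAlgSpace_pullback {X Y Z : Sp S} (f : X ⟶ Z) (g : Y ⟶ Z) (hX : IsAlgSpace X) (hY : IsAlgSpace Y)
    (hZ : IsAlgSpace Z) : IsAlgSpace (pullback f g) :=
  isAlgSpace_of_isPullback (IsPullback.of_hasPullback f g) hX hY hZ

end Groth.Agent.AlgSpLib
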