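import Groth.Agent.AlgSpLib.Basic
import Groth.Prelude.Def_AlgSpDec
import Groth.Prelude.Def_AlgSp4
import Mathlib.AlgebraicGeometry.PullbackCarrier
import Mathlib.AlgebraicGeometry.Morphisms.UniversallyOpen
import Mathlib.AlgebraicGeometry.Morphisms.Etale

/-!
Points of fppf sheaves and of algebraic spaces.
-/

set_option autoImplicit false
set_option backward.isDefEq.respectTransparency.types false

universe u

open CategoryTheory CategoryTheory.Limits AlgebraicGeometry Opposite AlgSp Topology

namespace Groth.Agent.AlgSpLib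

variable {S : Scheme.{u}} {F G H : Sp S}

/-- Agreement of field-valued points in terms of their morphisms. -/
theorem rel_iff_toHom (p q : FieldPt F) :
    FieldPt.Rel p q ↔ ∃ (Ω : Type u) (_ : Field Ω) (w : Spec (CommRingCat.of Ω) ⟶ S)
      (a : Over.mk w ⟶ p.pt) (b : Over.mk w ⟶ q.pt),
      (yon S).map a ≫ p.toHom = (yon S).map b ≫ q.toHom := by
  constructor
  · rintro ⟨Ω, hΩ, w, a, b, h⟩
    refine ⟨Ω, hΩ, w, a, b, ?_⟩
    rw [FieldPt.toHom, FieldPt.toHom, GrothendieckTopology.uliftYonedaEquiv_symm_naturality_left,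
      GrothendieckTopology.uliftYonedaEquiv_symm_naturality_left]
    exact congrArg _ h
  · rintro ⟨Ω, hΩ, w, a, b, h⟩
    refine ⟨Ω, hΩ, w, a, b, ?_⟩
    rw [FieldPt.toHom, FieldPt.toHom, GrothendieckTopology.uliftYonedaEquiv_symm_naturality_left,
      GrothendieckTopology.uliftYonedaEquiv_symm_naturality_left] at h
    exact (J S).uliftYonedaEquiv.symm.injective h

/-- The point of a composite. -/
theorem ofPt_comp {T T' : Over S} (φ : T ⟶ T') (g : (yon S).obj T' ⟶ F) (t : ↥T.left) :
    Points.ofPt ((yon S).map φ ≫ g) t = Points.ofPt g (φ.left t) := by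
  have h := Points.map_yon_map_apply φ t
  change Points.map ((yon S).map φ) (Points.ofPt (𝟙 _) t) = Points.ofPt (𝟙 _) (φ.left t) at h
  rw [Points.map_ofPt, Category.id_comp] at h
  rw [← Points.map_ofPt, h, Points.map_ofPt, Category.id_comp]

/-- Every point comes from a scheme. -/
theorem exists_ofPt (x : Points F) :
    ∃ (p : FieldPt F), ∀ s, Points.ofPt p.toHom s = x := by
  obtain ⟨p, rfl⟩ := Points.mk_surjective x
  exact ⟨p, fun s => Points.ofPt_toHom p s⟩

/-- The point of a field-valued point as a section. -/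
noncomputable def ptOfHom {K : Type u} [Field K] {str : Spec (CommRingCat.of K) ⟶ S}
    (g : (yon S).obj (Over.mk str) ⟶ F) : FieldPt F :=
  ⟨K, str, (J S).uliftYonedaEquiv g⟩

theorem ptOfHom_toHom {K : Type u} [Field K] {str : Spec (CommRingCat.of K) ⟶ S}
    (g : (yon S).obj (Over.mk str) ⟶ F) : (ptOfHom g).toHom = g :=
  Equiv.symm_apply_apply _ g

/-- Points of a fibre product surject to compatible pairs of points. -/
theorem exists_point_of_isPullback {P : Sp S} {fst : P ⟶ F} {snd : P ⟶ G} {f : F ⟶ H} {g : G ⟶ H}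
    (sq : IsPullback fst snd f g) (x : Points F) (y : Points G) (e : Points.map f x = Points.map g y) :
    ∃ z : Points P, Points.map fst z = x ∧ Points.map snd z = y := by
  obtain ⟨p, rfl⟩ := Points.mk_surjective x
  obtain ⟨q, rfl⟩ := Points.mk_surjective y
  rw [Points.map_mk, Points.map_mk, Points.mk_eq_mk_iff, rel_iff_toHom] at e
  obtain ⟨Ω, hΩ, w, a, b, h⟩ := e
  rw [FieldPt.toHom_map, FieldPt.toHom_map] at h
  let a' : Over.mk w ⟶ p.pt := a
  let b' : Over.mk w ⟶ q.pt := b
  have h' : ((yon S).map a' ≫ p.toHom) ≫ f = ((yon S).map b' ≫ q.toHom) ≫ g := by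
    rw [Category.assoc, Category.assoc]; exact h
  let k := sq.lift _ _ h'
  refine ⟨Points.mk (ptOfHom k), ?_, ?_⟩
  · rw [Points.map_mk, Points.mk_eq_mk_iff, rel_iff_toHom]
    refine ⟨Ω, hΩ, w, 𝟙 _, a', ?_⟩
    rw [FieldPt.toHom_map, ptOfHom_toHom]
    exact ((yon S).map_id _ ▸ Category.id_comp _).trans (sq.lift_fst _ _ h')
  · rw [Points.map_mk, Points.mk_eq_mk_iff, rel_iff_toHom]
    refine ⟨Ω, hΩ, w, 𝟙 _, b', ?_⟩
    rw [FieldPt.toHom_map, ptOfHom_toHom]
    exact ((yon S).map_id _ ▸ Category.id_comp _).trans (sq.lift_snd _ _ h')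

/-- Every point of a representable sheaf is the class of a point of the scheme. -/
theorem exists_ofScheme {T : Over S} (x : Points ((yon S).obj T)) : ∃ t, Points.ofPt (𝟙 _) t = x :=
  (Points.schemeEquiv T).surjective x

theorem map_yon_apply {T : Over S} (g : (yon S).obj T ⟶ F) (x : Points ((yon S).obj T)) :
    ∃ t, Points.map g x = Points.ofPt g t ∧ Points.ofPt (𝟙 _) t = x := by
  obtain ⟨t, rfl⟩ := exists_ofScheme x
  exact ⟨t, by rw [Points.map_ofPt, Category.id_comp], rfl⟩

theorem range_map_yon {T : Over S} (g : (yon S).obj T ⟶ F) :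
    Set.range (Points.map g) = Set.range (Points.ofPt g) := by
  ext y
  constructor
  · rintro ⟨x, rfl⟩
    obtain ⟨t, h, -⟩ := map_yon_apply g x
    exact ⟨t, h.symm⟩
  · rintro ⟨t, rfl⟩
    exact ⟨Points.ofPt (𝟙 _) t, by rw [Points.map_ofPt, Category.id_comp]⟩

/-- Two points of schemes agree in `F` iff they come from a point of a represented fibre product. -/
theorem ofPt_eq_iff {U V W : Over S} {a : (yon S).obj U ⟶ F} {g : (yon S).obj V ⟶ F} {fst : W ⟶ U}
    {snd : W ⟶ V} (sq : IsPullback ((yon S).map fst) ((yon S).map snd) a g) (x : ↥U.left) (y : ↥V.left) :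
    Points.ofPt a x = Points.ofPt g y ↔ ∃ w : ↥W.left, fst.left w = x ∧ snd.left w = y := by
  constructor
  · intro e
    obtain ⟨z, h1, h2⟩ := exists_point_of_isPullback sq (Points.ofPt (𝟙 _) x) (Points.ofPt (𝟙 _) y)
      (by rw [Points.map_ofPt, Points.map_ofPt, Category.id_comp, Category.id_comp]; exact e)
    obtain ⟨w, rfl⟩ := exists_ofScheme z
    refine ⟨w, (Points.schemeEquiv U).injective ?_, (Points.schemeEquiv V).injective ?_⟩
    · refine Eq.trans ?_ h1
      change Points.ofPt (𝟙 _) (fst.left w) = _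
      rw [← ofPt_comp, Category.comp_id, Points.map_ofPt, Category.id_comp]
    · refine Eq.trans ?_ h2
      change Points.ofPt (𝟙 _) (snd.left w) = _
      rw [← ofPt_comp, Category.comp_id, Points.map_ofPt, Category.id_comp]
  · rintro ⟨w, rfl, rfl⟩
    rw [← ofPt_comp, ← ofPt_comp, sq.w]

/-- The preimage of an image. -/
theorem preimage_image_ofPt {U V W : Over S} {a : (yon S).obj U ⟶ F} {g : (yon S).obj V ⟶ F} {fst : W ⟶ U}
    {snd : W ⟶ V} (sq : IsPullback ((yon S).map fst) ((yon S).map snd) a g) (O : Set ↥U.left) :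
    Points.ofPt g ⁻¹' (Points.ofPt a '' O) = snd.left '' (fst.left ⁻¹' O) := by
  ext y
  constructor
  · rintro ⟨x, hx, e⟩
    obtain ⟨w, h1, h2⟩ := (ofPt_eq_iff sq x y).1 e
    exact ⟨w, by rw [Set.mem_preimage, h1]; exact hx, h2⟩
  · rintro ⟨w, hw, rfl⟩
    exact ⟨fst.left w, hw, (ofPt_eq_iff sq _ _).2 ⟨w, rfl, rfl⟩⟩

/-- Representably surjective morphisms are surjective on points. -/
theorem surjective_map_of_repWith {f : F ⟶ G} (hf : RepWith @Surjective f) :
    Function.Surjective (Points.map f) := by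
  intro y
  obtain ⟨q, hq⟩ := exists_ofPt y
  obtain ⟨V, snd, fst, sq⟩ := hf.1 q.toHom
  have hs : Surjective snd.left := hf.2 q.toHom fst snd sq
  obtain ⟨v, hv⟩ := snd.left.surjective (IsLocalRing.closedPoint q.K)
  refine ⟨Points.ofPt fst v, ?_⟩
  rw [Points.map_ofPt, sq.w, ofPt_comp]
  exact hq _

/-- A representable morphism surjective on points is representably surjective. -/
theorem repWith_surjective_of_map {f : F ⟶ G} (hf : Representable f)
    (hs : Function.Surjective (Points.map f)) : RepWith @Surjective f := by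
  refine repWith_of_rep hf (fun U V g fst snd sq => ?_)
  refine ⟨fun u => ?_⟩
  obtain ⟨x, hx⟩ := hs (Points.ofPt g u)
  obtain ⟨z, -, hz⟩ := exists_point_of_isPullback sq x (Points.ofPt (𝟙 _) u)
    (by rw [hx, Points.map_ofPt, Category.id_comp])
  obtain ⟨v, rfl⟩ := exists_ofScheme z
  refine ⟨v, (Points.schemeEquiv U).injective ?_⟩
  refine Eq.trans ?_ hz
  change Points.ofPt (𝟙 _) (snd.left v) = _
  rw [← ofPt_comp, Category.comp_id, Points.map_ofPt, Category.id_comp]

theorem surjective_ofPt {U : Over S} {a : (yon S).obj U ⟶ F} (ha : RepWith @Surjective a) :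
    Function.Surjective (Points.ofPt a) := by
  intro x
  obtain ⟨z, rfl⟩ := surjective_map_of_repWith ha x
  obtain ⟨t, h, -⟩ := map_yon_apply a z
  exact ⟨t, h.symm⟩

theorem repWith_surjective_of_ofPt {U : Over S} {a : (yon S).obj U ⟶ F} (ha : Representable a)
    (hs : Function.Surjective (Points.ofPt a)) : RepWith @Surjective a :=
  repWith_surjective_of_map ha fun x => by
    obtain ⟨t, rfl⟩ := hs x
    exact ⟨Points.ofPt (𝟙 _) t, by rw [Points.map_ofPt, Category.id_comp]⟩

/-- Surjectivity on points is stable under base change. -/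
theorem surjective_snd {P : Sp S} {fst : P ⟶ F} {snd : P ⟶ G} {f : F ⟶ H} {g : G ⟶ H}
    (sq : IsPullback fst snd f g) (hf : Function.Surjective (Points.map f)) :
    Function.Surjective (Points.map snd) := by
  intro y
  obtain ⟨x, hx⟩ := hf (Points.map g y)
  obtain ⟨z, -, hz⟩ := exists_point_of_isPullback sq x y hx
  exact ⟨z, hz⟩

/-- Charts are open on points. -/
theorem isOpenMap_ofPt {U : Over S} {a : (yon S).obj U ⟶ F} (ha : RepWith @UniversallyOpen a) :
    IsOpenMap (Points.ofPt a) := by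
  intro O hO
  refine Points.isOpen_iff.2 fun T g => ?_
  obtain ⟨W, fst, snd, sq⟩ := exists_isPullback ha.1 g
  rw [preimage_image_ofPt sq O]
  have : UniversallyOpen snd.left := prop_snd sq ha
  exact snd.left.isOpenMap _ (hO.preimage fst.left.continuous)

theorem repWith_universallyOpen_of_etale {f : F ⟶ G} (hf : RepWith @Etale f) :
    RepWith @UniversallyOpen f :=
  repWith_mono (fun _ _ k hk => by have : Etale k := hk; infer_instance) hf

theorem isOpenMap_ofPt_of_etale {U : Over S} {a : (yon S).obj U ⟶ F} (ha : RepWith @Etale a) :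
    IsOpenMap (Points.ofPt a) :=
  isOpenMap_ofPt (repWith_universallyOpen_of_etale ha)

theorem isQuotientMap_ofPt {U : Over S} {a : (yon S).obj U ⟶ F} (ha : RepWith @Etale a)
    (has : RepWith @Surjective a) : IsQuotientMap (Points.ofPt a) :=
  (isOpenMap_ofPt_of_etale ha).isQuotientMap (Points.continuous_ofPt a) (surjective_ofPt has)

/-- Etale morphisms are open on points. -/
theorem isOpenMap_map_of_isEtaleMor (hF : IsAlgSpace F) {f : F ⟶ G} (hf : IsEtaleMor f) :
    IsOpenMap (Points.map f) := by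
  intro O hO
  obtain ⟨U, p, hp, hps⟩ := hF.atlas
  have h : Points.map f '' O = Points.ofPt (p ≫ f) '' (Points.ofPt p ⁻¹' O) := by
    ext y
    constructor
    · rintro ⟨x, hx, rfl⟩
      obtain ⟨t, rfl⟩ := surjective_ofPt hps x
      exact ⟨t, hx, (Points.map_ofPt p f t).symm⟩
    · rintro ⟨t, ht, rfl⟩
      exact ⟨_, ht, Points.map_ofPt p f t⟩
  rw [h]
  exact isOpenMap_ofPt_of_etale (hf p hp) _ (hO.preimage (Points.continuous_ofPt p))

end Groth.Agent.AlgSpLib
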