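import Groth.Agent.AlgSpLib.FibreProduct
import Groth.Agent.AlgSpLib.Compact
import Groth.Prelude.Def_AlgSpCov

/-!
Testing a morphism into the base of an fpqc covering on affine schemes lifting to the covering.
-/

set_option autoImplicit false
set_option backward.isDefEq.respectTransparency.types false

universe u

open CategoryTheory CategoryTheory.Limits AlgebraicGeometry Opposite AlgSp Topology

namespace Groth.Agent.AlgSpLib

variable {S : Scheme.{u}} {ι : Type u} {Y : Sp S} {Yi : ι → Sp S} {g : ∀ i, Yi i ⟶ Y}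

/-- An affine test for `k : Z ⟶ Y` : an affine scheme over `Z` whose map to `Y` lifts to the covering. -/
def IsTest (g : ∀ i, Yi i ⟶ Y) {Z : Sp S} (k : Z ⟶ Y) (W : Over S) (ψ : (yon S).obj W ⟶ Z) : Prop :=
  IsAffine W.left ∧ ∃ (i : ι) (l : (yon S).obj W ⟶ Yi i), l ≫ g i = ψ ≫ k

theorem exists_tests_affine (hg : IsFpqcCover Yi g) {Z : Sp S} (k : Z ⟶ Y) {V : Over S} (hV : IsAffine V.left)
    (φ : (yon S).obj V ⟶ Z) :
    ∃ (m : ℕ) (W : Fin m → Over S) (c : ∀ j, W j ⟶ V),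
      (∀ j, Flat (c j).left) ∧ (∀ v : ↥V.left, ∃ j, v ∈ Set.range (c j).left) ∧
      ∀ j, IsTest g k (W j) ((yon S).map (c j) ≫ φ) := by
  obtain ⟨m, W, c, hW, hf, hs, hl⟩ := hg.2 V hV (φ ≫ k)
  exact ⟨m, W, c, hf, hs, fun j => ⟨hW j, by simpa only [Category.assoc] using hl j⟩⟩

theorem map_ofPt_id {Z : Sp S} {W : Over S} (ψ : (yon S).obj W ⟶ Z) (w : ↥W.left) :
    Points.map ψ (Points.ofPt (𝟙 _) w) = Points.ofPt ψ w := by
  rw [Points.map_ofPt, Category.id_comp]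

theorem exists_test_point (hg : IsFpqcCover Yi g) {Z : Sp S} (hZ : IsAlgSpace Z) (k : Z ⟶ Y) (z : Points Z) :
    ∃ (W : Over S) (ψ : (yon S).obj W ⟶ Z), IsTest g k W ψ ∧ z ∈ Set.range (Points.map ψ) := by
  obtain ⟨U, a, -, has⟩ := hZ.atlas
  obtain ⟨t, rfl⟩ := surjective_ofPt has z
  obtain ⟨V, hV, ht, -⟩ := exists_isAffineOpen_mem_and_subset (X := U.left) (x := t) (U := ⊤) trivial
  let V' : Over S := Over.mk (V.ι ≫ U.hom)
  let e : V' ⟶ U := Over.homMk V.ι rfl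
  obtain ⟨m, W, c, -, hs, hT⟩ := exists_tests_affine hg k (V := V') hV ((yon S).map e ≫ a)
  obtain ⟨j, w, hw⟩ := hs ⟨t, ht⟩
  refine ⟨W j, _, hT j, Points.ofPt (𝟙 _) w, ?_⟩
  rw [map_ofPt_id, ofPt_comp, ofPt_comp, hw]
  rfl

/-- Openness is tested by the affine tests. -/
theorem isOpen_of_tests (hg : IsFpqcCover Yi g) {Z : Sp S} (hZ : IsAlgSpace Z) (k : Z ⟶ Y) (O : Set (Points Z))
    (H : ∀ (W : Over S) (ψ : (yon S).obj W ⟶ Z), IsTest g k W ψ → IsOpen (Points.map ψ ⁻¹' O)) : IsOpen O := by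
  obtain ⟨U, a, ha, has⟩ := hZ.atlas
  rw [← (isQuotientMap_ofPt ha has).isOpen_preimage]
  refine isOpen_iff_forall_mem_open.2 fun t ht => ?_
  obtain ⟨V, hV, htV, -⟩ := exists_isAffineOpen_mem_and_subset (X := U.left) (x := t) (U := ⊤) trivial
  refine ⟨V ∩ Points.ofPt a ⁻¹' O, Set.inter_subset_right, ?_, htV, ht⟩
  let V' : Over S := Over.mk (V.ι ≫ U.hom)
  let e : V' ⟶ U := Over.homMk V.ι rfl
  obtain ⟨m, W, c, hf, hs, hT⟩ := exists_tests_affine hg k (V := V') hV ((yon S).map e ≫ a)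
  have : ∀ j, IsAffine (W j).left := fun j => (hT j).1
  have hjc : ∀ j, IsOpen ((fun w => V.ι ((c j).left w)) ⁻¹' (Points.ofPt a ⁻¹' O)) := fun j => by
    have h := (H _ _ (hT j)).preimage (Points.continuous_ofPt (𝟙 ((yon S).obj (W j))))
    convert h using 1
    ext w
    simp only [Set.mem_preimage, map_ofPt_id, ofPt_comp]
    rfl
  let p : ∐ (fun j => (W j).left) ⟶ V.toScheme := Sigma.desc fun j => (c j).left
  have hp : ∀ j, Sigma.ι (fun j => (W j).left) j ≫ p = (c j).left := fun j => Sigma.ι_desc _ _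
  have : Flat p := IsZariskiLocalAtSource.sigmaDesc hf
  have : Surjective p := ⟨fun v => by
    obtain ⟨j, w, hw⟩ := hs v
    exact ⟨Sigma.ι (fun j => (W j).left) j w, by rw [← Scheme.Hom.comp_apply, hp]; exact hw⟩⟩
  have : IsAffine V.toScheme := hV
  have : QuasiCompact p := inferInstance
  have hO : IsOpen (p ⁻¹' (V.ι ⁻¹' (Points.ofPt a ⁻¹' O))) := by
    refine (sigmaOpenCover _).isOpenCover_opensRange.isOpen_iff_inter.2 fun j => ?_
    change IsOpen (_ ∩ Set.range (Sigma.ι (fun j => (W j).left) j))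
    rw [← Set.image_preimage_eq_inter_range]
    refine (Scheme.Hom.isOpenEmbedding _).isOpenMap _ ?_
    convert hjc j using 1
    ext w
    simp only [Set.mem_preimage, ← Scheme.Hom.comp_apply, hp]
  rw [(Flat.isQuotientMap_of_surjective p).isOpen_preimage] at hO
  have := V.ι.isOpenEmbedding.isOpenMap _ hO
  rwa [Set.image_preimage_eq_inter_range, Scheme.Opens.range_ι, Set.inter_comm] at this

/-- Closedness is tested by the affine tests. -/
theorem isClosed_of_tests (hg : IsFpqcCover Yi g) {Z : Sp S} (hZ : IsAlgSpace Z) (k : Z ⟶ Y) (C : Set (Points Z))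
    (H : ∀ (W : Over S) (ψ : (yon S).obj W ⟶ Z), IsTest g k W ψ → IsClosed (Points.map ψ ⁻¹' C)) :
    IsClosed C :=
  ⟨isOpen_of_tests hg hZ k Cᶜ fun W ψ hT => (H W ψ hT).isOpen_compl⟩

/-- A quasi-compact space is covered by finitely many tests. -/
theorem exists_finite_tests (hg : IsFpqcCover Yi g) {Z : Sp S} (hZ : IsAlgSpace Z) (hqc : IsQuasiCompactSp Z)
    (k : Z ⟶ Y) :
    ∃ (m : ℕ) (W : Fin m → Over S) (ψ : ∀ j, (yon S).obj (W j) ⟶ Z),
      (∀ j, IsTest g k (W j) (ψ j)) ∧ ∀ z, ∃ j, z ∈ Set.range (Points.map (ψ j)) := by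
  obtain ⟨U, a, hU, -, has⟩ := (isQuasiCompactSp_iff_affine hZ).1 hqc
  obtain ⟨m, W, c, -, hs, hT⟩ := exists_tests_affine hg k hU a
  refine ⟨m, W, _, hT, fun z => ?_⟩
  obtain ⟨t, rfl⟩ := surjective_ofPt has z
  obtain ⟨j, w, hw⟩ := hs t
  exact ⟨j, Points.ofPt (𝟙 _) w, by rw [map_ofPt_id, ofPt_comp, hw]⟩

end Groth.Agent.AlgSpLib
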