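import Groth.Agent.AlgSpLib.FpqcLocalRep
import Mathlib

/-!
Finite disjoint unions of schemes are coproducts in fppf sheaves, and fpqc locality from a criterion on affines.
-/

set_option autoImplicit false
set_option backward.isDefEq.respectTransparency.types false

universe u

open CategoryTheory CategoryTheory.Limits AlgebraicGeometry Opposite AlgSp

namespace Groth.Agent.AlgSpLib

variable {S : Scheme.{u}} {m : ℕ}

/-- The disjoint union over `S`. -/
noncomputable abbrev sigmaOver (W : Fin m → Over S) : Over S :=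
  Over.mk (Sigma.desc (f := fun j => (W j).left) fun j => (W j).hom)

noncomputable abbrev sigmaOverι (W : Fin m → Over S) (j : Fin m) : W j ⟶ sigmaOver W :=
  Over.homMk (Sigma.ι (fun j => (W j).left) j) (Sigma.ι_desc _ _)

theorem bot_mem_of_isEmpty {Z : Over S} (hZ : IsEmpty Z.left) : ⊥ ∈ (J S) Z := by
  rw [GrothendieckTopology.mem_over_iff]
  exact GrothendieckTopology.superset_covering _ bot_le (Scheme.bot_mem_grothendieckTopology Z.left)

theorem isSheafFor_sigmaOver (W : Fin m → Over S) (F : Sp S) :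
    Presieve.IsSheafFor F.obj (Presieve.ofArrows W (sigmaOverι W)) := by
  rw [Presieve.isSheafFor_iff_generate]
  refine (isSheaf_iff_isSheaf_of_type _ _).1 F.property _ ?_
  rw [GrothendieckTopology.mem_over_iff]
  have : Sieve.generate (Presieve.ofArrows (fun j => (W j).left) fun j => Sigma.ι (fun j => (W j).left) j) ∈
      Scheme.fppfTopology (sigmaOver W).left := by
    refine Precoverage.generate_mem_toGrothendieck ((Scheme.ofArrows_mem_precoverage_iff _).2 ⟨fun x => ?_, fun j =>
      ⟨inferInstanceAs (Flat (Sigma.ι (fun j => (W j).left) j)),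
        inferInstanceAs (LocallyOfFinitePresentation (Sigma.ι (fun j => (W j).left) j))⟩⟩)
    exact (sigmaOpenCover fun j => (W j).left).exists_eq x
  change Sieve.overEquiv _ (Sieve.ofArrows W (sigmaOverι W)) ∈ _
  rwa [Sieve.overEquiv_ofArrows]

theorem section_ext_of_isEmpty {F : Sp S} {Z : Over S} (hZ : IsEmpty Z.left) (a b : F.obj.obj (op Z)) : a = b :=
  (((isSheaf_iff_isSheaf_of_type _ _).1 F.property) ⊥ (bot_mem_of_isEmpty hZ)).isSeparatedFor.ext
    fun _ _ h => (h : False).elim

/-- Maps out of the pieces glue to a unique map out of the disjoint union. -/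
theorem existsUnique_sigmaOver_desc (W : Fin m → Over S) {F : Sp S} (t : ∀ j, (yon S).obj (W j) ⟶ F) :
    ∃! d : (yon S).obj (sigmaOver W) ⟶ F, ∀ j, (yon S).map (sigmaOverι W j) ≫ d = t j := by
  obtain ⟨x, hx, hu⟩ := (Presieve.isSheafFor_arrows_iff _ _).1 (isSheafFor_sigmaOver W F)
    (fun j => (J S).uliftYonedaEquiv.{u + 1} (t j)) fun i j Z gi gj e => by
      by_cases h : i = j
      · subst h
        have : Mono ((Over.forget S).map (sigmaOverι W i)) :=
          show Mono (Sigma.ι (fun j => (W j).left) i) from inferInstance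
        have : Mono (sigmaOverι W i) := (Over.forget S).mono_of_mono_map this
        rw [(cancel_mono _).1 e]
      · exact section_ext_of_isEmpty (isEmpty_of_commSq_sigmaι_of_ne ⟨congrArg CommaMorphism.left e⟩ h) _ _
  refine ⟨(J S).uliftYonedaEquiv.{u + 1}.symm x, fun j => ?_, fun d hd => ?_⟩
  · apply (J S).uliftYonedaEquiv.{u + 1}.injective
    rw [← GrothendieckTopology.uliftYonedaEquiv_naturality, Equiv.apply_symm_apply]
    exact hx j
  · apply (J S).uliftYonedaEquiv.{u + 1}.injective
    rw [Equiv.apply_symm_apply]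
    refine hu _ fun j => ?_
    rw [← hd j, ← GrothendieckTopology.uliftYonedaEquiv_naturality]

noncomputable def isColimitSigmaOver (W : Fin m → Over S) :
    IsColimit (Cofan.mk ((yon S).obj (sigmaOver W)) fun j => (yon S).map (sigmaOverι W j)) :=
  Cofan.IsColimit.mk _ (fun s => (existsUnique_sigmaOver_desc W s.inj).exists.choose)
    (fun s => (existsUnique_sigmaOver_desc W s.inj).exists.choose_spec)
    (fun s d hd => (existsUnique_sigmaOver_desc W s.inj).unique hd
      (existsUnique_sigmaOver_desc W s.inj).exists.choose_spec)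

/-- fpqc locality of a property determined on affines, descending along affine surjective flat maps. -/
theorem isLocalOnBase_of_affine_criterion (P : MorphismProperty (Sp S))
    (h1 : ∀ ⦃ι : Type u⦄ [Finite ι] (Xi Yi : ι → Sp S) (fi : ∀ i, Xi i ⟶ Yi i)
      (cX : Cofan Xi) (cY : Cofan Yi) (_ : IsColimit cX) (_ : IsColimit cY) (m : cX.pt ⟶ cY.pt),
      (∀ i, IsAlgSpace (Xi i)) → (∀ i, IsAlgSpace (Yi i)) →
      IsAlgSpace cX.pt → IsAlgSpace cY.pt →
      (∀ i, cX.inj i ≫ m = fi i ≫ cY.inj i) → (∀ i, P (fi i)) → P m)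
    (h2 : ∀ ⦃X Y : Sp S⦄, IsAlgSpace X → IsAlgSpace Y → ∀ (f : X ⟶ Y),
      P f ↔ ∀ (Z : Over S), IsAffine Z.left → ∀ (g : (yon S).obj Z ⟶ Y) (W : Sp S)
        (fst : W ⟶ X) (snd : W ⟶ (yon S).obj Z), IsAlgSpace W → IsPullback fst snd f g → P snd)
    (h3 : ∀ ⦃Z Z' : Over S⦄ (c : Z' ⟶ Z), IsAffine Z.left → IsAffine Z'.left → Surjective c.left → Flat c.left →
      ∀ ⦃X X' : Sp S⦄ (f : X ⟶ (yon S).obj Z) (fst : X' ⟶ X) (f' : X' ⟶ (yon S).obj Z'),
        IsAlgSpace X → IsAlgSpace X' → IsPullback fst f' f ((yon S).map c) → P f' → P f) :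
    IsLocalOnBase (IsFpqcCover (S := S)) P := by
  intro ι Y Yi g hY hYi hg X f hX Xi p q hXi sq
  refine ⟨fun h i => (h2 (hXi i) (hYi i) (p i)).2 fun Z hZ k T a b hT sT =>
    (h2 hX hY f).1 h Z hZ (k ≫ g i) T (a ≫ q i) b hT (sT.paste_horiz (sq i)), fun h => ?_⟩
  refine (h2 hX hY f).2 fun Z hZ k T a b hT sT => ?_
  obtain ⟨m, W, c, hW, hf, hs, hl⟩ := hg.2 Z hZ k
  let V := sigmaOver W
  have : ∀ j, IsAffine (W j).left := hW
  have hV : IsAffine V.left := inferInstanceAs (IsAffine (∐ fun j => (W j).left))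
  let e : V ⟶ Z := Over.homMk (Sigma.desc fun j => (c j).left) (Sigma.hom_ext _ _ fun j => by simp [V])
  have he : ∀ j, sigmaOverι W j ≫ e = c j := fun j => by
    ext1
    exact Sigma.ι_desc _ _
  have sV := IsPullback.of_hasPullback b ((yon S).map e)
  have hV' := IsAlgSpace.yon_obj (S := S) V
  have hTV := isAlgSpace_of_isPullback sV hT hV' (IsAlgSpace.yon_obj Z)
  refine h3 e hZ hV ⟨fun z => ?_⟩ (IsZariskiLocalAtSource.sigmaDesc (P := @Flat) hf) b _ _ hT hTV sV ?_
  · obtain ⟨j, w, hw⟩ := hs z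
    exact ⟨(sigmaOverι W j).left w, by rw [← Scheme.Hom.comp_apply, ← Over.comp_left, he]; exact hw⟩
  · let f' := pullback.snd b ((yon S).map e)
    let Wi : ULift.{u} (Fin m) → Sp S := fun j => (yon S).obj (W j.down)
    let inj : ∀ j, Wi j ⟶ (yon S).obj V := fun j => (yon S).map (sigmaOverι W j.down)
    have hc : IsColimit (Cofan.mk _ inj) :=
      Cofan.IsColimit.mk _ (fun s => Cofan.IsColimit.desc (isColimitSigmaOver W) fun j => s.inj ⟨j⟩)
        (fun s j => Cofan.IsColimit.fac (isColimitSigmaOver W) _ j.down)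
        (fun s d hd => Cofan.IsColimit.hom_ext (isColimitSigmaOver W) _ _ fun j =>
          (hd ⟨j⟩).trans (Cofan.IsColimit.fac (isColimitSigmaOver W) (fun j => s.inj ⟨j⟩) j).symm)
    have sj := fun j => IsPullback.of_hasPullback f' (inj j)
    obtain ⟨hd⟩ := (FinitaryPreExtensive.isUniversal_finiteCoproducts hc)
      (Cofan.mk _ fun j => pullback.fst f' (inj j)) (Discrete.natTrans fun j => pullback.snd f' (inj j.as)) f'
      (NatTrans.ext (funext fun j => (sj j.as).w.symm)) (NatTrans.equifibered_of_discrete _) (fun j => sj j.as)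
    refine h1 _ _ (fun j => pullback.snd f' (inj j)) _ _ hd hc f'
      (fun j => isAlgSpace_of_isPullback (sj j) hTV (IsAlgSpace.yon_obj _) hV')
      (fun j => IsAlgSpace.yon_obj _) hTV hV' (fun j => (sj j).w) fun j => ?_
    obtain ⟨i, l, hli⟩ := hl j.down
    have sP := ((sj j).paste_horiz sV).paste_horiz sT
    rw [show (inj j ≫ (yon S).map e) ≫ k = l ≫ g i by
      rw [hli, show inj j ≫ (yon S).map e = (yon S).map (c j.down) from by
        simp only [inj, ← Functor.map_comp, he]]] at sP
    obtain ⟨r, sr⟩ : ∃ r, IsPullback r (pullback.snd f' (inj j)) (p i) l := by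
      refine ⟨(sq i).lift ((pullback.fst f' (inj j) ≫ pullback.fst b ((yon S).map e)) ≫ a)
        (pullback.snd f' (inj j) ≫ l) (by rw [sP.w, Category.assoc]),
        IsPullback.of_right ?_ ((sq i).lift_snd _ _ _) (sq i)⟩
      rw [(sq i).lift_fst]
      exact sP
    exact (h2 (hXi i) (hYi i) (p i)).1 (h i) (W j.down) (hW j.down) l _ r _
      (isAlgSpace_of_isPullback (sj j) hTV (IsAlgSpace.yon_obj _) hV') sr

end Groth.Agent.AlgSpLib
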