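import Groth.Agent.AlgSpLib.EtaleMono
import Groth.Agent.AlgSpLib.SpCoprod
import Groth.Agent.S9885
import Mathlib

/-!
fpqc descent of affineness for algebraic spaces over an affine scheme.
-/

set_option autoImplicit false
set_option backward.isDefEq.respectTransparency.types false

universe u

open CategoryTheory CategoryTheory.Limits AlgebraicGeometry Opposite AlgSp TensorProduct

namespace Groth.Agent.AlgSpLib

variable {S : Scheme.{u}}

/-- A surjective etale chart is an effective epimorphism of sheaves. -/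
theorem effectiveEpi_chart {U : Over S} {X : Sp S} {a : (yon S).obj U ⟶ X} (ha : RepWith @Etale a)
    (has : RepWith @Surjective a) : EffectiveEpi a := by
  have : Sheaf.IsLocallySurjective a := S9885.result S _ _ a
    (repWith_mono (fun _ _ k hk => by have : Etale k := hk; infer_instance) ha)
    (repWith_mono (fun _ _ k hk => by have : Etale k := hk; infer_instance) ha) has
  have : Epi a := inferInstance
  have := IsRegularEpiCategory.regularEpiOfEpi a
  infer_instance

/-- An affine flat surjection is an fpqc covering. -/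
theorem isFpqcCover_single {T T' : Over S} (k : T' ⟶ T) (h : IsAffineHom k.left) (hf : Flat k.left)
    (hs : Surjective k.left) :
    IsFpqcCover (fun _ : PUnit.{u + 1} => (yon S).obj T') (fun _ => (yon S).map k) := by
  refine ⟨fun _ => (locP_yon_map_iff k).2 hf, fun Z hZ h => ?_⟩
  obtain ⟨g, rfl⟩ := (yon S).map_surjective h
  obtain ⟨P, p₁, p₂, sP⟩ : ∃ (P : Over S) (p₁ : P ⟶ T') (p₂ : P ⟶ Z), IsPullback p₁ p₂ k g :=
    ⟨_, _, _, IsPullback.of_hasPullback k g⟩
  have hl := left_isPullback sP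
  have : IsAffineHom p₂.left := MorphismProperty.of_isPullback hl h
  refine ⟨1, fun _ => P, fun _ => p₂, fun _ => isAffine_of_isAffineHom p₂.left,
    fun _ => MorphismProperty.of_isPullback hl hf, fun z => ?_, fun _ => ⟨⟨⟩, (yon S).map p₁, ?_⟩⟩
  · have : Surjective p₂.left := MorphismProperty.of_isPullback hl hs
    exact ⟨0, p₂.left.surjective z⟩
  · rw [← Functor.map_comp, sP.w, Functor.map_comp]

/-- The universal property of the equalizer after a flat base change. -/
theorem exists_factor_equalizer {A B O T C : Type u} [CommRing A] [CommRing B] [CommRing O] [CommRing T]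
    [CommRing C] [Algebra A B] [Algebra A O] [Algebra A T] [Module.Flat A B] (f g : O →ₐ[A] T)
    (α : C →+* B ⊗[A] O)
    (h : (Algebra.TensorProduct.map (AlgHom.id B B) f).toRingHom.comp α =
      (Algebra.TensorProduct.map (AlgHom.id B B) g).toRingHom.comp α) :
    ∃ β : C →+* B ⊗[A] (AlgHom.equalizer f g),
      (Algebra.TensorProduct.map (AlgHom.id B B) (AlgHom.equalizer f g).val).toRingHom.comp β = α := by
  let e := AlgHom.tensorEqualizerEquiv B B f g
  let α₀ := α.codRestrict _ fun c => (show α c ∈ AlgHom.equalizer (Algebra.TensorProduct.map (AlgHom.id B B) f)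
    (Algebra.TensorProduct.map (AlgHom.id B B) g) from RingHom.congr_fun h c)
  refine ⟨(e.symm : _ →+* _).comp α₀, RingHom.ext fun c => ?_⟩
  have h₁ : e (e.symm (α₀ c)) = α₀ c := e.apply_symm_apply _
  rw [AlgHom.tensorEqualizerEquiv_apply] at h₁
  have h₂ := congrArg Subtype.val h₁
  rw [AlgHom.coe_tensorEqualizer] at h₂
  exact h₂

theorem injective_tensor_equalizer {A B O T : Type u} [CommRing A] [CommRing B] [CommRing O] [CommRing T]
    [Algebra A B] [Algebra A O] [Algebra A T] [Module.Flat A B] (f g : O →ₐ[A] T) :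
    Function.Injective (Algebra.TensorProduct.map (AlgHom.id B B) (AlgHom.equalizer f g).val) := by
  intro x y hxy
  apply (AlgHom.tensorEqualizerEquiv B B f g).injective
  ext
  simpa [AlgHom.coe_tensorEqualizer] using hxy

/-- The affine model of an algebraic space which becomes quasi-affine after an affine flat surjective base change. -/
theorem exists_spec_model {A B : CommRingCat.{u}} (φ : A ⟶ B) [Flat (Spec.map φ)]
    [Surjective (Spec.map φ)] (str : Spec A ⟶ S) {X : Sp S} (hX : IsAlgSpace X)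
    (π : X ⟶ (yon S).obj (Over.mk str)) [CompactSpace (Points X)]
    (hsep : RepWith @IsClosedImmersion (pullback.diagonal π)) {W : Over S} (hW : W.left.IsQuasiAffine)
    (w : W ⟶ Over.mk (Spec.map φ ≫ str)) (fst : (yon S).obj W ⟶ X)
    (sq : IsPullback fst ((yon S).map w) π
      ((yon S).map (Over.homMk (Spec.map φ) rfl : Over.mk (Spec.map φ ≫ str) ⟶ Over.mk str))) :
    ∃ (Y YV : Over S) (y : Y ⟶ Over.mk str) (yu : YV ⟶ Y) (φX : X ⟶ (yon S).obj Y) (γ : W ⟶ YV),
      IsAffine Y.left ∧ φX ≫ (yon S).map y = π ∧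
      IsAffineHom yu.left ∧ Flat yu.left ∧ Surjective yu.left ∧
      IsPullback fst ((yon S).map γ) φX ((yon S).map yu) ∧
      IsOpenImmersion γ.left ∧ (IsAffine W.left → IsIso γ.left) := by
  let Z : Over S := Over.mk str
  let V : Over S := Over.mk (Spec.map φ ≫ str)
  let e : V ⟶ Z := Over.homMk (Spec.map φ) rfl
  -- an affine atlas
  obtain ⟨U₀, a₀, hU₀, ha₀, has₀⟩ := exists_affine_chart_of_compactSpace hX
  obtain ⟨O, ⟨iO⟩⟩ : ∃ O : CommRingCat.{u}, Nonempty (Spec O ≅ U₀.left) := ⟨_, ⟨U₀.left.isoSpec.symm⟩⟩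
  let U : Over S := Over.mk (iO.hom ≫ U₀.hom)
  let iU : U ≅ U₀ := Over.isoMk iO rfl
  obtain ⟨a, ha, has⟩ : ∃ a : (yon S).obj U ⟶ X, RepWith @Etale a ∧ RepWith @Surjective a :=
    ⟨(yon S).map iU.hom ≫ a₀, repWith_yon_comp iU.hom (inferInstanceAs (Etale iO.hom)) ha₀,
      repWith_yon_comp iU.hom (inferInstanceAs (Surjective iO.hom)) has₀⟩
  have : IsAffine U.left := inferInstanceAs (IsAffine (Spec O))
  have : IsAffine (Over.mk str).left := inferInstanceAs (IsAffine (Spec A))
  obtain ⟨p, hp⟩ := (yon S).map_surjective (a ≫ π)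
  obtain ⟨pO, hpO⟩ := Spec.map_surjective p.left
  -- the relation is affine
  obtain ⟨R₀, s₁, s₂, sR₀⟩ := exists_isPullback ha.1 a
  obtain ⟨Q, q₁, q₂, sQ⟩ : ∃ (Q : Over S) (q₁ : Q ⟶ U) (q₂ : Q ⟶ U), IsPullback q₁ q₂ p p :=
    ⟨_, _, _, IsPullback.of_hasPullback p p⟩
  have sQ' : IsPullback ((yon S).map q₁) ((yon S).map q₂) (a ≫ π) (a ≫ π) := hp ▸ yon_isPullback sQ
  let k : R₀ ⟶ Q := sQ.lift s₁ s₂ ((yon S).map_injective (by
    rw [Functor.map_comp, Functor.map_comp, hp, ← Category.assoc, ← Category.assoc, sR₀.w]))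
  have hk : IsClosedImmersion k.left := by
    rw [← repWith_yon_map_iff @IsClosedImmersion k]
    have h₁ := repWith_baseChange (pullback_map_diagonal_isPullback a a π) hsep
    have hid : ∀ {F G : Sp S} (f : F ⟶ G) [IsIso f], RepWith @IsClosedImmersion f := fun f => repWith_iso f
    have h₂ := repWith_comp (repWith_comp (hid sR₀.isoPullback.hom) h₁) (hid sQ'.isoPullback.inv)
    convert h₂ using 1
    have hk₁ : (yon S).map k ≫ (yon S).map q₁ = (yon S).map s₁ := by rw [← Functor.map_comp, sQ.lift_fst]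
    have hk₂ : (yon S).map k ≫ (yon S).map q₂ = (yon S).map s₂ := by rw [← Functor.map_comp, sQ.lift_snd]
    apply sQ'.hom_ext
    · rw [hk₁, Category.assoc, Category.assoc, sQ'.isoPullback_inv_fst]
      simp only [pullback.map, Category.comp_id]
      exact sR₀.isoPullback_hom_fst.symm.trans (congrArg (sR₀.isoPullback.hom ≫ ·) (pullback.lift_fst _ _ _).symm)
    · rw [hk₂, Category.assoc, Category.assoc, sQ'.isoPullback_inv_snd]
      simp only [pullback.map, Category.comp_id]
      exact sR₀.isoPullback_hom_snd.symm.trans (congrArg (sR₀.isoPullback.hom ≫ ·) (pullback.lift_snd _ _ _).symm)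
  have : IsClosedImmersion k.left := hk
  have hQa : IsAffine Q.left :=
    .of_isIso (left_isPullback sQ).isoPullback.hom
  have : IsAffine R₀.left := isAffine_of_isAffineHom k.left
  obtain ⟨T, ⟨iT⟩⟩ : ∃ T : CommRingCat.{u}, Nonempty (Spec T ≅ R₀.left) := ⟨_, ⟨R₀.left.isoSpec.symm⟩⟩
  let R : Over S := Over.mk (iT.hom ≫ R₀.hom)
  let iR : R ≅ R₀ := Over.isoMk iT rfl
  obtain ⟨r₁, r₂, sR⟩ : ∃ r₁ r₂ : R ⟶ U, IsPullback ((yon S).map r₁) ((yon S).map r₂) a a :=
    ⟨iR.hom ≫ s₁, iR.hom ≫ s₂, sR₀.of_iso ((yon S).mapIso iR).symm (Iso.refl _) (Iso.refl _) (Iso.refl _)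
      (by simp [← Functor.map_comp]) (by simp [← Functor.map_comp]) (by simp) (by simp)⟩
  have hrp : r₁ ≫ p = r₂ ≫ p := (yon S).map_injective (by
    rw [Functor.map_comp, Functor.map_comp, hp, ← Category.assoc, ← Category.assoc, sR.w])
  obtain ⟨ρ₁, hρ₁⟩ := Spec.map_surjective r₁.left
  obtain ⟨ρ₂, hρ₂⟩ := Spec.map_surjective r₂.left
  have hρ : pO ≫ ρ₁ = pO ≫ ρ₂ := Spec.map_injective (by
    rw [Spec.map_comp, Spec.map_comp, hρ₁, hρ₂, hpO, ← Over.comp_left, hrp, Over.comp_left])
  letI : Algebra A B := φ.hom.toAlgebra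
  letI : Algebra A O := pO.hom.toAlgebra
  letI : Algebra A T := (pO ≫ ρ₁).hom.toAlgebra
  let f₁ : O →ₐ[A] T := { toRingHom := ρ₁.hom, commutes' := fun _ => rfl }
  let f₂ : O →ₐ[A] T := { toRingHom := ρ₂.hom, commutes' := fun x => (RingHom.congr_fun (congrArg CommRingCat.Hom.hom hρ) x).symm }
  have : Module.Flat A B := (HasRingHomProperty.Spec_iff (P := @Flat)).1 ‹Flat (Spec.map φ)›
  -- the affine candidate
  let D : CommRingCat.{u} := .of (AlgHom.equalizer f₁ f₂)
  let ι : D ⟶ O := CommRingCat.ofHom (AlgHom.equalizer f₁ f₂).val.toRingHom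
  let sD : A ⟶ D := CommRingCat.ofHom (algebraMap A (AlgHom.equalizer f₁ f₂))
  have hι : sD ≫ ι = pO := rfl
  let Y : Over S := Over.mk (Spec.map sD ≫ str)
  let y : Y ⟶ Z := Over.homMk (Spec.map sD) rfl
  let u : U ⟶ Y := Over.homMk (Spec.map ι) (by
    show Spec.map ι ≫ Spec.map sD ≫ str = iO.hom ≫ U₀.hom
    rw [← Category.assoc, ← Spec.map_comp, hι, hpO]
    exact Over.w p)
  have hu : u ≫ y = p := by
    ext1
    show Spec.map ι ≫ Spec.map sD = p.left
    rw [← Spec.map_comp, hι, hpO]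
  have hru : r₁ ≫ u = r₂ ≫ u := by
    ext1
    show r₁.left ≫ Spec.map ι = r₂.left ≫ Spec.map ι
    rw [← hρ₁, ← hρ₂, ← Spec.map_comp, ← Spec.map_comp]
    congr 1
    ext x
    exact x.2
  have := effectiveEpi_chart ha has
  have hdesc : ∀ {T : Sp S} (g₁ g₂ : T ⟶ (yon S).obj U), g₁ ≫ a = g₂ ≫ a →
      g₁ ≫ (yon S).map u = g₂ ≫ (yon S).map u := fun g₁ g₂ h => by
    have := congrArg (fun z => sR.lift g₁ g₂ h ≫ (yon S).map z) hru
    simp only [Functor.map_comp, ← Category.assoc, sR.lift_fst, sR.lift_snd] at this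
    exact this
  let φX : X ⟶ (yon S).obj Y := EffectiveEpi.desc a ((yon S).map u) hdesc
  have hφX : a ≫ φX = (yon S).map u := EffectiveEpi.fac _ _ _
  have hφy : φX ≫ (yon S).map y = π := by
    rw [← cancel_epi a, ← Category.assoc, hφX, ← Functor.map_comp, hu, hp]
  -- the base changes
  let OB : CommRingCat.{u} := .of (B ⊗[A] O)
  let UV : Over S := Over.mk (Spec.map (CommRingCat.ofHom (S := B ⊗[A] O)
    Algebra.TensorProduct.includeRight.toRingHom) ≫ U.hom)
  let uu : UV ⟶ U := Over.homMk (Spec.map _) rfl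
  have tUV := (isPullback_SpecMap_of_isPushout _ _ _ _ (CommRingCat.isPushout_tensorProduct A B O)).flip
  let vv : UV ⟶ V := Over.homMk (Spec.map (CommRingCat.ofHom (S := B ⊗[A] O)
    Algebra.TensorProduct.includeLeftRingHom)) (by
      show _ ≫ Spec.map φ ≫ str = _ ≫ U.hom
      rw [← Category.assoc, ← Over.w p, ← Category.assoc]
      exact congrArg (· ≫ str) (tUV.w.symm.trans (congrArg (_ ≫ ·) hpO)))
  have sUV : IsPullback uu vv p e := IsPullback.of_map_of_faithful (Over.forget S) (by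
    show IsPullback uu.left vv.left p.left e.left
    rw [← hpO]
    exact tUV)
  let YV : Over S := Over.mk (Spec.map (CommRingCat.ofHom (S := B ⊗[A] D)
    Algebra.TensorProduct.includeRight.toRingHom) ≫ Y.hom)
  let yu : YV ⟶ Y := Over.homMk (Spec.map _) rfl
  have tYV := (isPullback_SpecMap_of_isPushout _ _ _ _ (CommRingCat.isPushout_tensorProduct A B D)).flip
  let yv : YV ⟶ V := Over.homMk (Spec.map (CommRingCat.ofHom (S := B ⊗[A] D)
    Algebra.TensorProduct.includeLeftRingHom)) (by
      show _ ≫ Spec.map φ ≫ str = _ ≫ Spec.map sD ≫ str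
      rw [← Category.assoc, ← Category.assoc]
      exact congrArg (· ≫ str) tYV.w.symm)
  have sYV : IsPullback yu yv y e := IsPullback.of_map_of_faithful (Over.forget S) tYV
  have sUV' : IsPullback ((yon S).map uu) ((yon S).map vv) (a ≫ π) ((yon S).map e) :=
    hp ▸ yon_isPullback sUV
  let aV : (yon S).obj UV ⟶ (yon S).obj W :=
    sq.lift ((yon S).map uu ≫ a) ((yon S).map vv) (by rw [Category.assoc]; exact sUV'.w)
  have sa : IsPullback ((yon S).map uu) aV a fst :=
    IsPullback.of_bot (by rw [sq.lift_snd]; exact sUV') (sq.lift_fst _ _ _).symm sq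
  obtain ⟨α, hα⟩ := (yon S).map_surjective aV
  have hα₁ : Etale α.left :=
    (repWith_yon_map_iff @Etale α).1 (hα ▸ repWith_baseChange sa ha)
  have hα₂ : Surjective α.left :=
    (repWith_yon_map_iff @Surjective α).1 (hα ▸ repWith_baseChange sa has)
  -- the map on the base change
  let ψ : (yon S).obj W ⟶ (yon S).obj YV := (yon_isPullback sYV).lift (fst ≫ φX) ((yon S).map w)
    (by rw [Category.assoc, hφy]; exact sq.w)
  have sψ : IsPullback fst ψ φX ((yon S).map yu) :=
    IsPullback.of_bot (by rw [(yon_isPullback sYV).lift_snd, hφy]; exact sq)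
      ((yon_isPullback sYV).lift_fst _ _ _).symm (yon_isPullback sYV)
  obtain ⟨γ, hγ⟩ := (yon S).map_surjective ψ
  let ιB : (B ⊗[A] D : Type u) →+* (B ⊗[A] O : Type u) :=
    (Algebra.TensorProduct.map (AlgHom.id B B) (AlgHom.equalizer f₁ f₂).val).toRingHom
  have hαγ : α.left ≫ γ.left = Spec.map (CommRingCat.ofHom ιB) := by
    have h₁ : α ≫ γ ≫ yu = uu ≫ u := (yon S).map_injective (by
      rw [Functor.map_comp, Functor.map_comp, Functor.map_comp, hα, hγ, (yon_isPullback sYV).lift_fst,
        ← Category.assoc, sq.lift_fst, Category.assoc, hφX])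
    have h₂ : α ≫ γ ≫ yv = vv := (yon S).map_injective (by
      rw [Functor.map_comp, Functor.map_comp, hα, hγ, (yon_isPullback sYV).lift_snd, sq.lift_snd])
    apply tYV.hom_ext
    · show (α.left ≫ γ.left) ≫ yu.left = _
      rw [Category.assoc, ← Over.comp_left, ← Over.comp_left, h₁, ← Spec.map_comp]
      show Spec.map _ ≫ Spec.map ι = _
      rw [← Spec.map_comp]
      congr 1
    · show (α.left ≫ γ.left) ≫ yv.left = _
      rw [Category.assoc, ← Over.comp_left, ← Over.comp_left, h₂, ← Spec.map_comp]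
      congr 1
  -- the inverse
  obtain ⟨α', hα'⟩ := Spec.map_surjective (α.left ≫ W.left.toSpecΓ)
  have hcond : (Algebra.TensorProduct.map (AlgHom.id B B) f₁).toRingHom.comp α'.hom =
      (Algebra.TensorProduct.map (AlgHom.id B B) f₂).toRingHom.comp α'.hom := by
    let RV : Over S := Over.mk (Spec.map (CommRingCat.ofHom (S := B ⊗[A] T)
      Algebra.TensorProduct.includeRight.toRingHom) ≫ R.hom)
    let rr : RV ⟶ R := Over.homMk (Spec.map _) rfl
    have key : ∀ (f : O →ₐ[A] T) (r : R ⟶ U), Spec.map (CommRingCat.ofHom f.toRingHom) = r.left →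
        ∃ m : RV ⟶ UV, m.left = Spec.map (CommRingCat.ofHom (R := B ⊗[A] O) (S := B ⊗[A] T)
          (Algebra.TensorProduct.map (AlgHom.id B B) f).toRingHom) ∧ m ≫ uu = rr ≫ r ∧
          (m ≫ vv).left = Spec.map (CommRingCat.ofHom (S := B ⊗[A] T) Algebra.TensorProduct.includeLeftRingHom) := by
      intro f r hr
      have h₁ : Spec.map (CommRingCat.ofHom (R := B ⊗[A] O) (S := B ⊗[A] T)
          (Algebra.TensorProduct.map (AlgHom.id B B) f).toRingHom) ≫ uu.left = rr.left ≫ r.left := by
        rw [← hr]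
        show Spec.map _ ≫ Spec.map _ = Spec.map _ ≫ Spec.map _
        rw [← Spec.map_comp, ← Spec.map_comp]
        congr 1
      refine ⟨Over.homMk (Spec.map (CommRingCat.ofHom (R := B ⊗[A] O) (S := B ⊗[A] T)
        (Algebra.TensorProduct.map (AlgHom.id B B) f).toRingHom)) ?_, rfl, by ext1; exact h₁, ?_⟩
      · show _ ≫ uu.left ≫ U.hom = rr.left ≫ R.hom
        rw [← Category.assoc, h₁, Category.assoc, Over.w r]
      · show Spec.map _ ≫ Spec.map _ = _
        rw [← Spec.map_comp]
        congr 1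
        ext x
        simp
    obtain ⟨m₁, hm₁, hu₁, hv₁⟩ := key f₁ r₁ hρ₁
    obtain ⟨m₂, hm₂, hu₂, hv₂⟩ := key f₂ r₂ hρ₂
    have hm : m₁ ≫ α = m₂ ≫ α := (yon S).map_injective (by
      rw [Functor.map_comp, Functor.map_comp, hα]
      apply sq.hom_ext
      · rw [Category.assoc, Category.assoc, sq.lift_fst, ← Category.assoc, ← Category.assoc,
          ← Functor.map_comp, ← Functor.map_comp, hu₁, hu₂, Functor.map_comp, Functor.map_comp,
          Category.assoc, Category.assoc, sR.w]
      · rw [Category.assoc, Category.assoc, sq.lift_snd, ← Functor.map_comp, ← Functor.map_comp]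
        congr 1
        ext1
        rw [hv₁, hv₂])
    have := congrArg (fun t => t.left ≫ W.left.toSpecΓ) hm
    simp only [Over.comp_left, Category.assoc, hm₁, hm₂, ← hα', ← Spec.map_comp] at this
    exact congrArg CommRingCat.Hom.hom (Spec.map_injective this)
  obtain ⟨β, hβ⟩ := exists_factor_equalizer f₁ f₂ α'.hom hcond
  obtain ⟨c, hc⟩ : ∃ c : CommRingCat.of (B ⊗[A] D) ⟶ Γ(W.left, ⊤), W.left.toSpecΓ ≫ Spec.map c = γ.left :=
    ⟨(Scheme.ΓSpecIso _).inv ≫ γ.left.appTop, by
      rw [Spec.map_comp, ← Scheme.toSpecΓ_naturality_assoc]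
      exact (congrArg (γ.left ≫ ·) (toSpecΓ_SpecMap_ΓSpecIso_inv _)).trans (Category.comp_id _)⟩
  have hinj : ∀ {R : CommRingCat.{u}} (u v : R ⟶ Γ(W.left, ⊤)),
      W.left.toSpecΓ ≫ Spec.map u = W.left.toSpecΓ ≫ Spec.map v → u = v := fun u v h =>
    by simpa [Scheme.Hom.comp_appTop, Scheme.toSpecΓ_appTop, Scheme.ΓSpecIso_naturality] using
      congrArg Scheme.Hom.appTop h
  have hδ : Spec.map (CommRingCat.ofHom ιB) ≫ Spec.map (CommRingCat.ofHom β) = α.left ≫ W.left.toSpecΓ := by
    rw [← Spec.map_comp, ← CommRingCat.ofHom_comp, hβ, CommRingCat.ofHom_hom, hα']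
  have : Flat α.left := inferInstance
  have : IsAffine UV.left := inferInstanceAs (IsAffine (Spec (CommRingCat.of (B ⊗[A] O))))
  have : QuasiCompact α.left := inferInstance
  have h₁ : CommRingCat.ofHom β ≫ c = 𝟙 _ := hinj _ _ (Eq.trans (by
      rw [Spec.map_comp, ← Category.assoc, hc, ← cancel_epi α.left, ← Category.assoc, hαγ, hδ])
    ((congrArg (W.left.toSpecΓ ≫ ·) (Spec.map_id _)).trans (Category.comp_id _)).symm)
  have h₂ : c ≫ CommRingCat.ofHom β = 𝟙 _ := by
    have e : Spec.map ((c ≫ CommRingCat.ofHom β) ≫ CommRingCat.ofHom ιB) = Spec.map (CommRingCat.ofHom ιB) := by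
      rw [Spec.map_comp, Spec.map_comp, ← Category.assoc, hδ, Category.assoc, hc, hαγ]
    refine CommRingCat.hom_ext (RingHom.ext fun x => ?_)
    exact injective_tensor_equalizer f₁ f₂ (RingHom.congr_fun (congrArg CommRingCat.Hom.hom (Spec.map_injective e)) x)
  have : IsIso c := ⟨CommRingCat.ofHom β, h₂, h₁⟩
  refine ⟨Y, YV, y, yu, φX, γ, inferInstanceAs (IsAffine (Spec D)), hφy, inferInstanceAs (IsAffineHom (Spec.map _)),
    MorphismProperty.of_isPullback (left_isPullback sYV).flip (inferInstanceAs (Flat (Spec.map φ))),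
    MorphismProperty.of_isPullback (left_isPullback sYV).flip (inferInstanceAs (Surjective (Spec.map φ))),
    hγ ▸ sψ, ?_, fun hWa => ?_⟩
  · rw [← hc]
    infer_instance
  · have : IsAffine W.left := hWa
    rw [← hc]
    infer_instance

/-- An algebraic space over an affine scheme is affine if it is affine after an affine flat surjective base
change, provided that it is quasi-compact with separated structure map. -/
theorem exists_affine_of_fpqc_spec {A B : CommRingCat.{u}} (φ : A ⟶ B) [Flat (Spec.map φ)]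
    [Surjective (Spec.map φ)] (str : Spec A ⟶ S) {X : Sp S} (hX : IsAlgSpace X)
    (π : X ⟶ (yon S).obj (Over.mk str)) [CompactSpace (Points X)]
    (hsep : RepWith @IsClosedImmersion (pullback.diagonal π)) {W : Over S} (hW : IsAffine W.left)
    (w : W ⟶ Over.mk (Spec.map φ ≫ str)) (fst : (yon S).obj W ⟶ X)
    (sq : IsPullback fst ((yon S).map w) π
      ((yon S).map (Over.homMk (Spec.map φ) rfl : Over.mk (Spec.map φ ≫ str) ⟶ Over.mk str))) :
    ∃ X₀ : Over S, IsAffine X₀.left ∧ Nonempty ((yon S).obj X₀ ≅ X) := by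
  obtain ⟨Y, YV, y, yu, φX, γ, hY, -, hy, hyf, hys, sψ, -, hγ⟩ :=
    exists_spec_model φ str hX π hsep inferInstance w fst sq
  have : IsIso ((Over.forget S).map γ) := hγ hW
  have : IsIso γ := isIso_of_reflects_iso γ (Over.forget S)
  have hiso : IsIso φX := (isLocalOnBase_isomorphisms S _ _ (IsAlgSpace.yon_obj Y) (fun _ => IsAlgSpace.yon_obj YV)
    (isFpqcCover_single yu hy hyf hys) φX hX (fun _ => (yon S).obj W) (fun _ => (yon S).map γ) (fun _ => fst)
    (fun _ => IsAlgSpace.yon_obj W) (fun _ => sψ)).2 fun _ => inferInstanceAs (IsIso ((yon S).map γ))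
  exact ⟨Y, hY, ⟨(asIso φX).symm⟩⟩

end Groth.Agent.AlgSpLib
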