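import Groth.Prelude.Def_AlgSp

/-!
Representable morphisms of fppf sheaves over a base scheme: basic calculus.
-/

set_option autoImplicit false
set_option backward.isDefEq.respectTransparency.types false

universe u

open CategoryTheory CategoryTheory.Limits AlgebraicGeometry Opposite AlgSp

namespace Groth.Agent.AlgSpLib

variable {S : Scheme.{u}}

/-- `yon` maps pullback squares to pullback squares. -/
theorem yon_isPullback {W U V T : Over S} {fst : W ⟶ U} {snd : W ⟶ V} {f : U ⟶ T} {g : V ⟶ T}
    (h : IsPullback fst snd f g) :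
    IsPullback ((yon S).map fst) ((yon S).map snd) ((yon S).map f) ((yon S).map g) :=
  h.map (yon S)

/-- A pullback square in `Over S` gives one of schemes. -/
theorem left_isPullback {W U V T : Over S} {fst : W ⟶ U} {snd : W ⟶ V} {f : U ⟶ T} {g : V ⟶ T}
    (h : IsPullback fst snd f g) : IsPullback fst.left snd.left f.left g.left :=
  h.map (Over.forget S)

/-- Reflection of pullback squares. -/
theorem isPullback_of_yon {W U V T : Over S} {fst : W ⟶ U} {snd : W ⟶ V} {f : U ⟶ T} {g : V ⟶ T}
    (h : IsPullback ((yon S).map fst) ((yon S).map snd) ((yon S).map f) ((yon S).map g)) :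
    IsPullback fst snd f g :=
  IsPullback.of_map (yon S) ((yon S).map_injective (by simpa using h.w)) h

/-- Pullback of a representable map from a scheme along a map from a scheme, with both projections from schemes. -/
theorem exists_isPullback {F : Sp S} {U V : Over S} {a : (yon S).obj U ⟶ F} (ha : Representable a)
    (g : (yon S).obj V ⟶ F) :
    ∃ (W : Over S) (fst : W ⟶ U) (snd : W ⟶ V), IsPullback ((yon S).map fst) ((yon S).map snd) a g :=
  ⟨ha.pullback g, ha.fst' g, ha.snd g, ha.isPullback' g⟩

/-- Maps from a scheme into a represented fibre product. -/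
theorem exists_lift {F G : Sp S} {U V T : Over S} {f : F ⟶ G} {g : (yon S).obj U ⟶ G}
    {fst : (yon S).obj V ⟶ F} {snd : V ⟶ U} (h : IsPullback fst ((yon S).map snd) f g)
    (i : (yon S).obj T ⟶ F) (j : T ⟶ U) (w : i ≫ f = (yon S).map j ≫ g) :
    ∃ k : T ⟶ V, (yon S).map k ≫ fst = i ∧ k ≫ snd = j := by
  refine ⟨(yon S).preimage (h.lift i ((yon S).map j) w), by simp, (yon S).map_injective ?_⟩
  simp

/-- Some square with the property is enough. -/
theorem repWith_of_exists {P : MorphismProperty Scheme.{u}} [P.IsStableUnderBaseChange] {F G : Sp S}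
    {f : F ⟶ G}
    (h : ∀ ⦃U : Over S⦄ (g : (yon S).obj U ⟶ G), ∃ (V : Over S) (fst : (yon S).obj V ⟶ F) (snd : V ⟶ U),
      IsPullback fst ((yon S).map snd) f g ∧ P snd.left) :
    RepWith P f :=
  MorphismProperty.relative.of_exists fun U g => by
    obtain ⟨V, fst, snd, h1, h2⟩ := h g
    exact ⟨V, fst, snd, h1, h2⟩

/-- A representable morphism has the property as soon as some pullback to each scheme has it. -/
theorem repWith_of_rep {P : MorphismProperty Scheme.{u}} [P.IsStableUnderBaseChange] {F G : Sp S}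
    {f : F ⟶ G} (hf : Representable f)
    (h : ∀ ⦃U V : Over S⦄ (g : (yon S).obj U ⟶ G) (fst : (yon S).obj V ⟶ F) (snd : V ⟶ U),
      IsPullback fst ((yon S).map snd) f g → P snd.left) :
    RepWith P f :=
  ⟨hf, fun _ _ g fst snd sq => h g fst snd sq⟩

theorem repWith_mono {P Q : MorphismProperty Scheme.{u}}
    (h : ∀ ⦃A B : Scheme.{u}⦄ (k : A ⟶ B), P k → Q k) {F G : Sp S} {f : F ⟶ G} (hf : RepWith P f) :
    RepWith Q f :=
  ⟨hf.1, fun _ _ g fst snd sq => h _ (hf.2 g fst snd sq)⟩

theorem repWith_inf {P Q : MorphismProperty Scheme.{u}} {F G : Sp S} {f : F ⟶ G}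
    (hP : RepWith P f) (hQ : RepWith Q f) : RepWith (P ⊓ Q) f :=
  ⟨hP.1, fun _ _ g fst snd sq => ⟨hP.2 g fst snd sq, hQ.2 g fst snd sq⟩⟩

/-- Composition. -/
theorem repWith_comp {P : MorphismProperty Scheme.{u}} [P.IsStableUnderComposition] {F G H : Sp S}
    {f : F ⟶ G} {g : G ⟶ H} (hf : RepWith P f) (hg : RepWith P g) : RepWith P (f ≫ g) :=
  MorphismProperty.comp_mem (RepWith (S := S) P) f g hf hg

/-- Base change. -/
theorem repWith_baseChange {P : MorphismProperty Scheme.{u}} {F G F' G' : Sp S} {f : F ⟶ G} {g : G' ⟶ G}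
    {fst : F' ⟶ F} {snd : F' ⟶ G'} (sq : IsPullback fst snd f g) (hf : RepWith P f) : RepWith P snd :=
  MorphismProperty.of_isPullback (P := RepWith (S := S) P) sq hf

/-- The property of a projection of a fibre product over an algebraic space. -/
theorem prop_snd {P : MorphismProperty Scheme.{u}} {F : Sp S} {U V W : Over S} {a : (yon S).obj U ⟶ F}
    {g : (yon S).obj V ⟶ F} {fst : W ⟶ U} {snd : W ⟶ V}
    (h : IsPullback ((yon S).map fst) ((yon S).map snd) a g) (ha : RepWith P a) : P snd.left :=
  ha.2 g _ snd h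

/-- Charts compose with representable maps. -/
theorem repWith_yon_comp {P : MorphismProperty Scheme.{u}} [P.IsStableUnderBaseChange]
    [P.IsStableUnderComposition] {F : Sp S} {U V : Over S} (k : U ⟶ V) (hk : P k.left)
    {a : (yon S).obj V ⟶ F} (ha : RepWith P a) : RepWith P ((yon S).map k ≫ a) :=
  repWith_comp ((repWith_yon_map_iff P k).2 hk) ha

end Groth.Agent.AlgSpLib
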