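import Groth.Agent.AlgSpLib.ChartMor

/-!
Properties local on source and target.
-/

set_option autoImplicit false
set_option backward.isDefEq.respectTransparency.types false

universe u

open CategoryTheory CategoryTheory.Limits AlgebraicGeometry Opposite AlgSp

namespace Groth.Agent.AlgSpLib

variable {S : Scheme.{u}} {P : MorphismProperty (Sp S)}

theorem isSmoothLocalST_of_local (h1 : IsLocalOnSource (IsSmCover (S := S)) P)
    (h2 : IsLocalOnBase (IsSmCover (S := S)) P)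
    (h3 : ∀ ⦃X Y Z : Space S⦄ (f : X ⟶ Y) (g : Y ⟶ Z), P f.hom → LocP @Smooth g.hom → P (f ≫ g).hom) :
    IsSmoothLocalST P where
  precomp X Y Z hX hY hZ f g hf hg :=
    precomp_of_isLocalOnSource (Q := LocP @Smooth) locP_smooth_id h1 hX hY hZ f g hf hg
  baseChange X Y X' Y' hX hY hX' hY' f g f' g' sq hg hf :=
    baseChange_of_isLocalOnBase (Q := LocP @Smooth) locP_smooth_id h2 hX hY hX' hY' f g f' g' sq hg hf
  locality X Y hX hY f := by
    constructor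
    · intro hf x
      exact ⟨X, Y, 𝟙 X, 𝟙 Y, f, x, hX, hY, locP_smooth_id X, locP_smooth_id Y, by simp,
        Points.map_id x, hf⟩
    · intro H
      obtain ⟨ι, φ, hφ⟩ := exists_small_family hX
      choose U V a b h v hU hV ha hb w hv hh using fun i => H (φ i)
      have hcov : IsSmCover U a := ⟨ha, fun x => by
        obtain ⟨i, rfl⟩ := hφ x
        exact ⟨i, v i, hv i⟩⟩
      refine (h1 U a hX hU hcov f hY).2 fun i => ?_
      rw [w i]
      exact h3 (X := ⟨U i, hU i⟩) (Y := ⟨V i, hV i⟩) (Z := ⟨Y, hY⟩) (ObjectProperty.homMk (h i))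
        (ObjectProperty.homMk (b i)) (hh i) (hb i)

theorem etaleSmooth_iff_conditions (hP : IsEtaleSmoothLocalST P) {X Y : Space S} (f : X ⟶ Y) :
    (P f.hom ↔ ∃ (U V W : Space S) (b : V ⟶ Y) (p : W ⟶ X) (q : W ⟶ V) (e : U ⟶ W),
      LocP @Smooth b.hom ∧ IsPullback p.hom q.hom f.hom b.hom ∧ IsEtaleMor e.hom ∧
      IsSurjectiveMor (e ≫ p).hom ∧ P (e ≫ q).hom) ∧
    (P f.hom ↔ ∀ (U V W : Space S) (b : V ⟶ Y) (p : W ⟶ X) (q : W ⟶ V) (e : U ⟶ W),
      LocP @Smooth b.hom → IsPullback p.hom q.hom f.hom b.hom → IsEtaleMor e.hom → P (e ≫ q).hom) ∧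
    (P f.hom ↔ ∃ (ι : Type u) (Yi Xi : ι → Space S) (g : ∀ i, Yi i ⟶ Y) (p : ∀ i, Xi i ⟶ Yi i)
      (q : ∀ i, Xi i ⟶ X), IsSmCover (fun i => (Yi i).obj) (fun i => (g i).hom) ∧
      (∀ i, IsPullback (q i).hom (p i).hom f.hom (g i).hom) ∧ ∀ i, P (p i).hom) ∧
    (P f.hom ↔ ∃ (ι : Type u) (Xi : ι → Space S) (g : ∀ i, Xi i ⟶ X),
      IsEtCover (fun i => (Xi i).obj) (fun i => (g i).hom) ∧ ∀ i, P (g i ≫ f).hom) := by
  refine ⟨⟨fun hf => ?_, ?_⟩, ⟨fun hf U V W b p q e hb sq he => ?_, fun h => ?_⟩, ⟨fun hf => ?_, ?_⟩,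
    ⟨fun hf => ?_, ?_⟩⟩
  · refine ⟨X, Y, X, 𝟙 Y, 𝟙 X, f, 𝟙 X, locP_smooth_id _, isPullback_id f.hom, isEtaleMor_id _, ?_, ?_⟩
    · intro x
      refine ⟨x, ?_⟩
      show Points.map (𝟙 X.obj ≫ 𝟙 X.obj) x = x
      rw [Category.comp_id, Points.map_id]
    · show P (𝟙 X.obj ≫ f.hom)
      rw [Category.id_comp]; exact hf
  · rintro ⟨U, V, W, b, p, q, e, hb, sq, he, hs, hh⟩
    refine (hP.locality X.property Y.property f.hom).2 fun x => ?_
    obtain ⟨v, hv⟩ := hs x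
    exact ⟨V.obj, W.obj, U.obj, b.hom, p.hom, q.hom, e.hom, v, V.property, W.property, U.property, hb, sq,
      he, hv, hh⟩
  · exact hP.precomp U.property W.property V.property e.hom q.hom he
      (hP.baseChange X.property Y.property W.property V.property f.hom b.hom q.hom p.hom sq hb hf)
  · have := h X Y X (𝟙 Y) (𝟙 X) f (𝟙 X) (locP_smooth_id _) (isPullback_id f.hom) (isEtaleMor_id _)
    rwa [show (𝟙 X ≫ f).hom = f.hom from Category.id_comp f.hom] at this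
  · exact ⟨PUnit, fun _ => Y, fun _ => X, fun _ => 𝟙 Y, fun _ => f, fun _ => 𝟙 X,
      ⟨fun _ => locP_smooth_id _, fun y => ⟨⟨⟩, y, Points.map_id y⟩⟩,
      fun _ => isPullback_id f.hom, fun _ => hf⟩
  · rintro ⟨ι, Yi, Xi, g, p, q, ⟨hg, hcov⟩, sq, hp⟩
    refine (hP.locality X.property Y.property f.hom).2 fun x => ?_
    obtain ⟨i, y, hy⟩ := hcov (Points.map f.hom x)
    obtain ⟨z, hz, -⟩ := exists_point_of_isPullback (sq i) x y hy.symm
    refine ⟨(Yi i).obj, (Xi i).obj, (Xi i).obj, (g i).hom, (q i).hom, (p i).hom, 𝟙 _, z, (Yi i).property,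
      (Xi i).property, (Xi i).property, hg i, sq i, isEtaleMor_id _, ?_, ?_⟩
    · rw [Category.id_comp]; exact hz
    · rw [Category.id_comp]; exact hp i
  · refine ⟨PUnit, fun _ => X, fun _ => 𝟙 X, ⟨fun _ => isEtaleMor_id _, fun x => ⟨⟨⟩, x, Points.map_id x⟩⟩,
      fun _ => ?_⟩
    show P (𝟙 X.obj ≫ f.hom)
    rw [Category.id_comp]; exact hf
  · rintro ⟨ι, Xi, g, ⟨hg, hcov⟩, hh⟩
    refine (hP.locality X.property Y.property f.hom).2 fun x => ?_
    obtain ⟨i, v, hv⟩ := hcov x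
    refine ⟨Y.obj, X.obj, (Xi i).obj, 𝟙 _, 𝟙 _, f.hom, (g i).hom, v, Y.property, X.property,
      (Xi i).property, locP_smooth_id _, isPullback_id _, hg i, ?_, hh i⟩
    rw [Category.comp_id]; exact hv

theorem etaleSmooth_isLocalOnSource (hP : IsEtaleSmoothLocalST P) :
    IsLocalOnSource (IsEtCover (S := S)) P := by
  intro ι X Xi g hX hXi hg Y f hY
  refine ⟨fun hf i => hP.precomp (hXi i) hX hY (g i) f (hg.1 i) hf, fun h => ?_⟩
  refine (hP.locality hX hY f).2 fun x => ?_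
  obtain ⟨i, v, hv⟩ := hg.2 x
  refine ⟨Y, X, Xi i, 𝟙 _, 𝟙 _, f, g i, v, hY, hX, hXi i, locP_smooth_id _, isPullback_id _, hg.1 i, ?_, h i⟩
  rw [Category.comp_id]; exact hv

theorem etaleSmooth_isLocalOnBase (hP : IsEtaleSmoothLocalST P) :
    IsLocalOnBase (IsSmCover (S := S)) P := by
  intro ι Y Yi g hY hYi hg X f hX Xi p q hXi sq
  refine ⟨fun hf i => hP.baseChange hX hY (hXi i) (hYi i) f (g i) (p i) (q i) (sq i) (hg.1 i) hf, fun h => ?_⟩
  refine (hP.locality hX hY f).2 fun x => ?_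
  obtain ⟨i, y, hy⟩ := hg.2 (Points.map f x)
  obtain ⟨z, hz, -⟩ := exists_point_of_isPullback (sq i) x y hy.symm
  refine ⟨Yi i, Xi i, Xi i, g i, q i, p i, 𝟙 _, z, hYi i, hXi i, hXi i, hg.1 i, sq i, isEtaleMor_id _, ?_, ?_⟩
  · rw [Category.id_comp]; exact hz
  · rw [Category.id_comp]; exact h i

end Groth.Agent.AlgSpLib
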