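import Mathlib

/-!
Lifting along surjective closed immersions, etale locally: standard etale algebras and smooth algebras.
-/

set_option autoImplicit false

universe u

open Polynomial TensorProduct CategoryTheory CategoryTheory.Limits AlgebraicGeometry

namespace Groth.Agent.AlgSpLib.NilLift

/-- A finitely presented formally smooth algebra lifts along nil ideals. -/
theorem exists_algHom_lift {R C B Bb : Type u} [CommRing R] [CommRing C] [CommRing B] [CommRing Bb]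
    [Algebra R C] [Algebra R B] [Algebra R Bb] [Algebra.FinitePresentation R C] [Algebra.FormallySmooth R C]
    (q : B →ₐ[R] Bb) (hq : Function.Surjective q) (hnil : RingHom.ker q ≤ nilradical B) (f : C →ₐ[R] Bb) :
    ∃ g : C →ₐ[R] B, q.comp g = f := by
  obtain ⟨n, π, hπ, hK⟩ := Algebra.FinitePresentation.out (R := R) (A := C)
  choose x hx using fun i => hq (f (π (MvPolynomial.X i)))
  let h₀ : MvPolynomial (Fin n) R →ₐ[R] B := MvPolynomial.aeval x
  have hc : q.comp h₀ = f.comp π := MvPolynomial.algHom_ext fun i => by simp [h₀, hx]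
  let J : Ideal B := (RingHom.ker π).map h₀
  have hJ : J ≤ RingHom.ker q := Ideal.map_le_iff_le_comap.2 fun z hz => by
    have := DFunLike.congr_fun hc z
    simp only [AlgHom.comp_apply, RingHom.mem_ker.1 hz, map_zero] at this
    exact this
  have hJn : IsNilpotent J :=
    (Ideal.FG.isNilpotent_iff_le_nilradical (Ideal.FG.map hK _)).2 (hJ.trans hnil)
  let f₁ : C →ₐ[R] B ⧸ J := AlgHom.liftOfSurjective π hπ ((Ideal.Quotient.mkₐ R J).comp h₀) fun z hz =>
    RingHom.mem_ker.2 (Ideal.Quotient.eq_zero_iff_mem.2 (Ideal.mem_map_of_mem _ hz))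
  let g := Algebra.FormallySmooth.lift J hJn f₁
  refine ⟨g, AlgHom.ext fun c => ?_⟩
  obtain ⟨z, rfl⟩ := hπ c
  have h₁ : (Ideal.Quotient.mkₐ R J) (g (π z)) = Ideal.Quotient.mkₐ R J (h₀ z) :=
    (Algebra.FormallySmooth.mk_lift J hJn f₁ _).trans (AlgHom.liftOfSurjective_apply ..)
  have h₂ := RingHom.mem_ker.1 (hJ (Ideal.Quotient.eq.1 h₁))
  rw [map_sub, sub_eq_zero] at h₂
  exact h₂.trans (DFunLike.congr_fun hc z)

/-- Lifting a standard etale pair along a surjection. -/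
theorem exists_pair_lift {R S : Type u} [CommRing R] [CommRing S] (φ : R →+* S) (hφ : Function.Surjective φ)
    (P₀ : StandardEtalePair S) :
    ∃ (P : StandardEtalePair R) (m : ℕ), P.f.map φ = P₀.f ∧ P.g.map φ = P₀.g ^ (m + 1) := by
  obtain ⟨f, hf, -, hfm⟩ := lifts_and_natDegree_eq_and_monic (f := φ) (p := P₀.f)
    (map_surjective φ hφ P₀.f) P₀.monic_f
  obtain ⟨p₁, p₂, m, e⟩ := P₀.cond
  obtain ⟨q₁, rfl⟩ := map_surjective φ hφ p₁
  obtain ⟨q₂, rfl⟩ := map_surjective φ hφ p₂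
  obtain ⟨g₀, hg₀⟩ := map_surjective φ hφ P₀.g
  refine ⟨⟨f, hfm, (derivative f * q₁ + f * q₂) * g₀, q₁ * g₀, q₂ * g₀, 1, by ring⟩, m, hf, ?_⟩
  simp [← derivative_map, hf, hg₀, pow_succ, ← e]

/-- An etale algebra over a quotient extends, locally, to an etale algebra over the ring. -/
theorem exists_etale_extension {R S E : Type u} [CommRing R] [CommRing S] [CommRing E] [Algebra R S]
    [Algebra S E] [Algebra.Etale S E] (hRS : Function.Surjective (algebraMap R S)) (q : PrimeSpectrum E) :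
    ∃ (E' : Type u) (_ : CommRing E') (_ : Algebra R E') (_ : Algebra.Etale R E')
      (η : E →ₐ[S] S ⊗[R] E'), q ∈ Set.range (PrimeSpectrum.comap η.toRingHom) := by
  obtain ⟨s, hs, h⟩ := Algebra.IsEtaleAt.exists_isStandardEtale (R := S) q.asIdeal
  obtain ⟨P₀⟩ := h.nonempty_standardEtalePresentation
  obtain ⟨P, m, hf, hg⟩ := exists_pair_lift (algebraMap R S) hRS P₀.P
  letI : Algebra R (Localization.Away s) := ((algebraMap S (Localization.Away s)).comp (algebraMap R S)).toAlgebra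
  have : IsScalarTower R S (Localization.Away s) := .of_algebraMap_eq' rfl
  have hX : P.HasMap ((1 : S) ⊗ₜ[R] P.X) :=
    P.hasMap_X.map (Algebra.TensorProduct.includeRight (R := R) (A := S))
  have hx₀ : P₀.P.HasMap ((1 : S) ⊗ₜ[R] P.X) := by
    refine ⟨?_, (isUnit_pow_iff m.succ_ne_zero).1 ?_⟩
    · rw [← hf, aeval_map_algebraMap]; exact hX.1
    · rw [← map_pow, Nat.succ_eq_add_one, ← hg, aeval_map_algebraMap]; exact hX.2
  have hy : P.HasMap P₀.x := by
    refine ⟨?_, ?_⟩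
    · rw [← aeval_map_algebraMap S, hf]; exact P₀.hasMap.1
    · rw [← aeval_map_algebraMap S, hg, map_pow]; exact P₀.hasMap.2.pow _
  let θ : Localization.Away s →ₐ[S] S ⊗[R] P.Ring := (P₀.P.lift _ hx₀).comp P₀.equivRing.toAlgHom
  let ψ : S ⊗[R] P.Ring →ₐ[S] Localization.Away s :=
    Algebra.TensorProduct.lift (Algebra.ofId _ _) (P.lift P₀.x hy) fun _ _ => .all _ _
  have hψ : ψ.comp θ = AlgHom.id S _ := P₀.hom_ext (by simp [ψ, θ])
  refine ⟨P.Ring, inferInstance, inferInstance, inferInstance,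
    θ.comp (IsScalarTower.toAlgHom S E (Localization.Away s)), ?_⟩
  obtain ⟨p, hp⟩ : q ∈ Set.range (PrimeSpectrum.comap (algebraMap E (Localization.Away s))) := by
    rw [PrimeSpectrum.localization_away_comap_range (Localization.Away s) s]; exact hs
  refine ⟨PrimeSpectrum.comap ψ.toRingHom p, ?_⟩
  rw [← hp]
  ext z
  have := DFunLike.congr_fun hψ (algebraMap E (Localization.Away s) z)
  simp only [AlgHom.comp_apply, AlgHom.id_apply] at this
  simp [this]

/-- Etale local lifting for smooth algebras. -/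
theorem exists_extension_lift {R C D S E : Type u} [CommRing R] [CommRing C] [CommRing D] [CommRing S]
    [CommRing E] (f : C →+* D) (hf : f.Smooth) (φ : R →+* S) (hφ : Function.Surjective φ)
    (hnil : RingHom.ker φ ≤ nilradical R) (g : S →+* E) (hg : g.Etale) (α : D →+* E) (β : C →+* R)
    (w : α.comp f = g.comp (φ.comp β)) (q : PrimeSpectrum E) :
    ∃ (E' P : CommRingCat.{u}) (ψ : R →+* E') (i₁ : S →+* P) (i₂ : E' →+* P) (η : E →+* P) (l : D →+* E'),
      ψ.Etale ∧ IsPushout (CommRingCat.ofHom φ) (CommRingCat.ofHom ψ) (CommRingCat.ofHom i₁) (CommRingCat.ofHom i₂) ∧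
      η.comp g = i₁ ∧ l.comp f = ψ.comp β ∧ i₂.comp l = η.comp α ∧ q ∈ Set.range (PrimeSpectrum.comap η) := by
  letI := φ.toAlgebra
  letI := g.toAlgebra
  have : Algebra.Etale S E := hg
  obtain ⟨E', _, _, hE', η, hq⟩ := exists_etale_extension (R := R) hφ q
  letI := f.toAlgebra
  have hs : Algebra.Smooth C D := hf
  letI : Algebra C E' := ((algebraMap R E').comp β).toAlgebra
  let i₂ : E' →ₐ[R] S ⊗[R] E' := Algebra.TensorProduct.includeRight
  letI : Algebra C (S ⊗[R] E') := (i₂.toRingHom.comp ((algebraMap R E').comp β)).toAlgebra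
  let π : E' →ₐ[C] S ⊗[R] E' := { i₂.toRingHom with commutes' := fun _ => rfl }
  have hπ : Function.Surjective π := Algebra.TensorProduct.includeRight_surjective E' hφ
  let a : D →ₐ[C] S ⊗[R] E' :=
    { η.toRingHom.comp α with
      commutes' := fun c => by
        have h₁ : α (f c) = g (φ (β c)) := RingHom.congr_fun w c
        change η (α (f c)) = i₂ (algebraMap R E' (β c))
        rw [h₁, show g (φ (β c)) = algebraMap S E (φ (β c)) from rfl, η.commutes, i₂.commutes,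
          IsScalarTower.algebraMap_apply R S (S ⊗[R] E')]
        rfl }
  have hker : RingHom.ker π ≤ nilradical E' := by
    intro x hx
    rw [mem_nilradical, nilpotent_iff_mem_prime]
    intro J hJ
    let m : R →+* E' ⧸ J := (Ideal.Quotient.mk J).comp (algebraMap R E')
    have hm : RingHom.ker φ ≤ RingHom.ker m := fun r hr => (IsNilpotent.map (mem_nilradical.1 (hnil hr)) m).eq_zero
    let mS : S →+* E' ⧸ J := RingHom.liftOfSurjective φ hφ ⟨m, hm⟩
    let χ : S ⊗[R] E' →ₐ[R] E' ⧸ J := Algebra.TensorProduct.lift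
      { mS with commutes' := fun r => RingHom.liftOfRightInverse_comp_apply φ _ _ ⟨m, hm⟩ r }
      (Ideal.Quotient.mkₐ R J) fun _ _ => .all _ _
    have := congrArg χ (show i₂ x = 0 from hx)
    simp [i₂, χ] at this
    exact Ideal.Quotient.eq_zero_iff_mem.1 this
  obtain ⟨l, hl⟩ := exists_algHom_lift π hπ hker a
  exact ⟨.of E', .of (S ⊗[R] E'), algebraMap R E', Algebra.TensorProduct.includeLeftRingHom, i₂.toRingHom,
    η.toRingHom, l.toRingHom, RingHom.etale_algebraMap.2 hE', CommRingCat.isPushout_tensorProduct R S E',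
    RingHom.ext η.commutes, l.comp_algebraMap, congrArg AlgHom.toRingHom hl, hq⟩

/-- Etale local lifting against a surjective closed immersion, for smooth morphisms of schemes. -/
theorem exists_etale_lift {W V U Y W' : Scheme.{u}} (i : W ⟶ V) [IsClosedImmersion i] [Surjective i]
    (h : U ⟶ Y) [Smooth h] (e : W' ⟶ W) [Etale e] (a : W' ⟶ U) (b : V ⟶ Y) (comm : a ≫ h = e ≫ i ≫ b)
    (w' : W') :
    ∃ (V' W₂ : Scheme.{u}) (v : V' ⟶ V) (p : W₂ ⟶ V') (r : W₂ ⟶ W) (m : V' ⟶ U) (l : W₂ ⟶ W'),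
      Etale v ∧ IsPullback p r v i ∧ l ≫ e = r ∧ m ≫ h = v ≫ b ∧ p ≫ m = l ≫ a ∧ w' ∈ Set.range l := by
  have hy : h (a w') = b (i (e w')) := by
    simp only [← Scheme.Hom.comp_apply, comm, Category.assoc]
  obtain ⟨Y₀, hY₀, hyY, -⟩ := exists_isAffineOpen_mem_and_subset (X := Y) (x := h (a w')) (U := ⊤) trivial
  obtain ⟨U₀, hU₀, huU, hUY'⟩ := exists_isAffineOpen_mem_and_subset (x := a w') (U := h ⁻¹ᵁ Y₀) hyY
  obtain ⟨V₀, hV₀, hvV, hVY'⟩ := exists_isAffineOpen_mem_and_subset (x := i (e w')) (U := b ⁻¹ᵁ Y₀)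
    (show b (i (e w')) ∈ Y₀ from hy ▸ hyY)
  have hUY : U₀ ≤ h ⁻¹ᵁ Y₀ := hUY'
  have hVY : V₀ ≤ b ⁻¹ᵁ Y₀ := hVY'
  have hW₀ : IsAffineOpen (i ⁻¹ᵁ V₀) := hV₀.preimage i
  obtain ⟨E₀, hE₀, hwE, hEsub⟩ := exists_isAffineOpen_mem_and_subset (x := w')
    (U := e ⁻¹ᵁ (i ⁻¹ᵁ V₀) ⊓ a ⁻¹ᵁ U₀) ⟨hvV, huU⟩
  have hEW : E₀ ≤ e ⁻¹ᵁ (i ⁻¹ᵁ V₀) := le_trans hEsub inf_le_left
  have hEU : E₀ ≤ a ⁻¹ᵁ U₀ := le_trans hEsub inf_le_right
  have sqi : IsPullback (Spec.map (i.app V₀)) hW₀.fromSpec hV₀.fromSpec i :=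
    IsOpenImmersion.isPullback _ _ _ _
      (by rw [Scheme.Hom.app_eq_appLE, IsAffineOpen.SpecMap_appLE_fromSpec])
      (by rw [hW₀.opensRange_fromSpec, hV₀.opensRange_fromSpec])
  have hsurj : Surjective (Spec.map (i.app V₀)) :=
    MorphismProperty.of_isPullback sqi.flip ‹Surjective i›
  have hnil : RingHom.ker (i.app V₀).hom ≤ nilradical Γ(V, V₀) := fun x hx => by
    rw [mem_nilradical, nilpotent_iff_mem_prime]
    intro J hJ
    obtain ⟨p, hp⟩ := (Spec.map (i.app V₀)).surjective ⟨J, hJ⟩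
    have : PrimeSpectrum.comap (i.app V₀).hom p = ⟨J, hJ⟩ := hp
    have hJeq : ((PrimeSpectrum.comap (i.app V₀).hom p).asIdeal : Ideal Γ(V, V₀)) = J :=
      congrArg PrimeSpectrum.asIdeal this
    rw [← hJeq]
    show (i.app V₀).hom x ∈ p.asIdeal
    exact (show (i.app V₀).hom x = 0 from hx) ▸ p.asIdeal.zero_mem
  have wring : (a.appLE U₀ E₀ hEU).hom.comp (h.appLE Y₀ U₀ hUY).hom =
      (e.appLE (i ⁻¹ᵁ V₀) E₀ hEW).hom.comp ((i.app V₀).hom.comp (b.appLE Y₀ V₀ hVY).hom) := by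
    have : h.appLE Y₀ U₀ hUY ≫ a.appLE U₀ E₀ hEU =
        b.appLE Y₀ V₀ hVY ≫ i.app V₀ ≫ e.appLE (i ⁻¹ᵁ V₀) E₀ hEW := by
      apply Spec.map_injective
      rw [← cancel_mono hY₀.fromSpec]
      simp only [Scheme.Hom.app_eq_appLE, Spec.map_comp, Category.assoc]
      rw [IsAffineOpen.SpecMap_appLE_fromSpec h hY₀ hU₀, IsAffineOpen.SpecMap_appLE_fromSpec_assoc a hU₀ hE₀,
        IsAffineOpen.SpecMap_appLE_fromSpec b hY₀ hV₀, IsAffineOpen.SpecMap_appLE_fromSpec_assoc i hV₀ hW₀,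
        IsAffineOpen.SpecMap_appLE_fromSpec_assoc e hW₀ hE₀, comm]
    exact congrArg CommRingCat.Hom.hom this
  obtain ⟨q, hq⟩ : w' ∈ Set.range hE₀.fromSpec := by rw [hE₀.range_fromSpec]; exact hwE
  obtain ⟨E', P, ψ, i₁, i₂, η, l, hψ, hpo, h₁, h₂, h₃, hq'⟩ := exists_extension_lift (h.appLE Y₀ U₀ hUY).hom
    (h.smooth_appLE hY₀ hU₀ hUY) (i.app V₀).hom (i.app_surjective V₀ hV₀) hnil
    (e.appLE (i ⁻¹ᵁ V₀) E₀ hEW).hom (e.etale_appLE hW₀ hE₀ hEW) (a.appLE U₀ E₀ hEU).hom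
    (b.appLE Y₀ V₀ hVY).hom wring q
  have : Etale (Spec.map (CommRingCat.ofHom ψ)) :=
    (HasRingHomProperty.Spec_iff (P := @Etale)).2 hψ
  refine ⟨Spec E', Spec P, Spec.map (CommRingCat.ofHom ψ) ≫ hV₀.fromSpec, Spec.map (CommRingCat.ofHom i₂),
    Spec.map (CommRingCat.ofHom i₁) ≫ hW₀.fromSpec, Spec.map (CommRingCat.ofHom l) ≫ hU₀.fromSpec,
    Spec.map (CommRingCat.ofHom η) ≫ hE₀.fromSpec, inferInstance,
    IsPullback.paste_vert (isPullback_SpecMap_of_isPushout _ _ _ _ hpo.flip) sqi, ?_, ?_, ?_, ?_⟩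
  · rw [Category.assoc, ← IsAffineOpen.SpecMap_appLE_fromSpec e hW₀ hE₀ hEW, ← Spec.map_comp_assoc, ← h₁]
    rfl
  · rw [Category.assoc, Category.assoc, ← IsAffineOpen.SpecMap_appLE_fromSpec h hY₀ hU₀ hUY,
      ← IsAffineOpen.SpecMap_appLE_fromSpec b hY₀ hV₀ hVY, ← Spec.map_comp_assoc, ← Spec.map_comp_assoc]
    exact congrArg (· ≫ hY₀.fromSpec) (congrArg Spec.map (CommRingCat.hom_ext h₂))
  · rw [Category.assoc, ← IsAffineOpen.SpecMap_appLE_fromSpec a hU₀ hE₀ hEU, ← Spec.map_comp_assoc, ← Spec.map_comp_assoc]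
    exact congrArg (· ≫ hU₀.fromSpec) (congrArg Spec.map (CommRingCat.hom_ext h₃))
  · obtain ⟨x, hx⟩ := hq'
    exact ⟨x, (congrArg hE₀.fromSpec hx).trans hq⟩

end Groth.Agent.AlgSpLib.NilLift
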