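import Groth.Agent.AlgSpLib.ImmersionDescent

/-!
fpqc locality on the base of quasi-affine morphisms.
-/

set_option autoImplicit false
set_option backward.isDefEq.respectTransparency.types false

universe u

open CategoryTheory CategoryTheory.Limits AlgebraicGeometry Opposite AlgSp TopologicalSpace

namespace Groth.Agent.AlgSpLib

variable {S : Scheme.{u}}

theorem isQuasiAffine_sigma {m : ℕ} (W : Fin m → Scheme.{u}) (h : ∀ j, (W j).IsQuasiAffine) :
    (∐ W).IsQuasiAffine := by
  let Y : Fin m → Scheme.{u} := fun j => Spec Γ(W j, ⊤)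
  let a : ∀ j, W j ⟶ ∐ Y := fun j => (W j).toSpecΓ ≫ Sigma.ι Y j
  have : ∀ j, IsOpenImmersion (a j) := fun j => inferInstanceAs (IsOpenImmersion ((W j).toSpecΓ ≫ Sigma.ι Y j))
  have : IsOpenImmersion (Sigma.desc a) := isOpenImmersion_sigmaDesc (g := W) a fun i j hij => Set.disjoint_iff.2 (by
    rintro z ⟨⟨x, rfl⟩, ⟨y, hy⟩⟩
    have : Disjoint (Sigma.ι Y i).opensRange (Sigma.ι Y j).opensRange := disjoint_opensRange_sigmaι Y i j hij
    have h₁ : a i x ∈ (Sigma.ι Y i).opensRange := ⟨(W i).toSpecΓ x, rfl⟩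
    have h₂ : a i x ∈ (Sigma.ι Y j).opensRange := hy ▸ ⟨(W j).toSpecΓ y, rfl⟩
    exact Set.disjoint_left.1 (Opens.coe_disjoint.2 this) h₁ h₂)
  have : CompactSpace ↥(∐ W) := by
    refine ⟨?_⟩
    convert isCompact_iUnion fun j => isCompact_range (Sigma.ι W j).continuous
    ext z
    simp only [Set.mem_univ, Set.mem_iUnion, true_iff]
    obtain ⟨j, y, hy⟩ := (sigmaOpenCover W).exists_eq z
    exact ⟨j, y, hy⟩
  have : IsAffine (∐ Y) := inferInstance
  exact Scheme.IsQuasiAffine.of_isImmersion (Sigma.desc a)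

theorem isLocalOnBase_isQuasiAffineMor : IsLocalOnBase (IsFpqcCover (S := S)) IsQuasiAffineMor := by
  intro ι Y Yi g hY hYi hg X f hX Xi p q hXi sq
  constructor
  · intro h i Z hZ k
    obtain ⟨W, j, fst, s, hW⟩ := h hZ (k ≫ g i)
    refine ⟨W, j, (sq i).lift fst ((yon S).map j ≫ k) (by rw [Category.assoc, s.w]), ?_, hW⟩
    refine IsPullback.of_right ?_ ((sq i).lift_snd _ _ _) (sq i)
    rw [(sq i).lift_fst]
    exact s
  intro h Z hZ k
  have sT := IsPullback.of_hasPullback f k
  let b := pullback.snd f k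
  have hT := isAlgSpace_of_isPullback sT hX (IsAlgSpace.yon_obj Z) hY
  obtain ⟨m, W, c, hW, hf, hs, hl⟩ := hg.2 Z hZ k
  have : ∀ j, IsAffine (W j).left := hW
  let V := sigmaOver W
  have hV : IsAffine V.left := inferInstanceAs (IsAffine (∐ fun j => (W j).left))
  let e : V ⟶ Z := Over.homMk (Sigma.desc fun j => (c j).left) (Sigma.hom_ext _ _ fun j => by simp [V])
  have he : ∀ j, sigmaOverι W j ≫ e = c j := fun j => by ext1; exact Sigma.ι_desc _ _
  have : Flat e.left := IsZariskiLocalAtSource.sigmaDesc (P := @Flat) hf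
  have : Surjective e.left := ⟨fun z => by
    obtain ⟨j, w, hw⟩ := hs z
    exact ⟨(sigmaOverι W j).left w, by rw [← Scheme.Hom.comp_apply, ← Over.comp_left, he]; exact hw⟩⟩
  have hj : ∀ j, ∃ (V' : Over S) (v : V' ⟶ W j) (a : (yon S).obj V' ⟶ pullback f k),
      IsPullback a ((yon S).map v) b ((yon S).map (sigmaOverι W j ≫ e)) ∧ V'.left.IsQuasiAffine := fun j => by
    obtain ⟨i, l, hli⟩ := hl j
    obtain ⟨V', v, a, sv, hV'⟩ := h i (hW j) l
    have s := sv.paste_horiz (sq i)
    rw [hli] at s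
    refine ⟨V', v, sT.lift (a ≫ q i) ((yon S).map v ≫ (yon S).map (c j)) (by rw [s.w, Category.assoc]), ?_, hV'⟩
    rw [he]
    refine IsPullback.of_right ?_ (sT.lift_snd _ _ _) sT
    rw [sT.lift_fst]
    exact s
  choose V' v a sa hV' using hj
  -- the source over `V`
  let W'' := sigmaOver V'
  have sV := IsPullback.of_hasPullback b ((yon S).map e)
  let fj : ∀ j, (yon S).obj (V' j) ⟶ pullback b ((yon S).map e) := fun j =>
    sV.lift (a j) ((yon S).map (v j ≫ sigmaOverι W j))
      (by rw [(sa j).w, ← Functor.map_comp, ← Functor.map_comp, Category.assoc])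
  have sj : ∀ j, IsPullback (fj j) ((yon S).map (v j)) (pullback.snd b ((yon S).map e))
      ((yon S).map (sigmaOverι W j)) := fun j => by
    refine IsPullback.of_right ?_ (by rw [sV.lift_snd, Functor.map_comp]) sV
    rw [sV.lift_fst, ← Functor.map_comp]
    exact sa j
  obtain ⟨hd⟩ := (FinitaryPreExtensive.isUniversal_finiteCoproducts (isColimitSigmaOver W))
    (Cofan.mk _ fj) (Discrete.natTrans fun j => (yon S).map (v j.as)) (pullback.snd b ((yon S).map e))
    (NatTrans.ext (funext fun j => (sj j.as).w.symm)) (NatTrans.Equifibered.of_discrete _) (fun j => sj j.as)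
  let θ : (yon S).obj W'' ≅ pullback b ((yon S).map e) := (isColimitSigmaOver V').coconePointUniqueUpToIso hd
  obtain ⟨w, hθw⟩ := (yon S).map_surjective (θ.hom ≫ pullback.snd b ((yon S).map e))
  have sW : IsPullback (θ.hom ≫ pullback.fst b ((yon S).map e)) ((yon S).map w) b ((yon S).map e) :=
    sV.of_iso θ.symm (Iso.refl _) (Iso.refl _) (Iso.refl _) (by simp) (by simp [hθw]) (by simp) (by simp)
  have hW'' : W''.left.IsQuasiAffine := isQuasiAffine_sigma _ hV'
  obtain ⟨Y₀, YV, y, yu, φX, γ, hY₀, hφ, hy, hyf, hys, sψ, hγ, -⟩ :=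
    exists_model_of_fpqc hZ hV e hT b hW'' w _ sW
  have : IsOpenImmersion γ.left := hγ
  have hY₀' : IsAffine Y₀.left := hY₀
  have hopen : RepWith @IsOpenImmersion φX :=
    ((isLocalOnBase_isOpenImmersion S) _ _ (IsAlgSpace.yon_obj Y₀) (fun _ => IsAlgSpace.yon_obj YV)
      (isFpqcCover_single yu hy hyf hys) φX hT (fun _ => (yon S).obj W'') (fun _ => (yon S).map γ) (fun _ => _)
      (fun _ => IsAlgSpace.yon_obj W'') (fun _ => sψ)).2 fun _ => (repWith_yon_map_iff @IsOpenImmersion γ).2 hγ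
  obtain ⟨X₀, i₀, a₀, s₀⟩ := hopen.1 (𝟙 _)
  have : IsOpenImmersion i₀.left := hopen.2 (𝟙 _) a₀ i₀ s₀
  have : IsIso a₀ := MorphismProperty.of_isPullback (P := MorphismProperty.isomorphisms (Sp S)) s₀.flip
    (inferInstanceAs (IsIso (𝟙 _)))
  refine ⟨X₀, i₀ ≫ y, a₀ ≫ pullback.fst f k,
    sT.of_iso (asIso a₀).symm (Iso.refl _) (Iso.refl _) (Iso.refl _) (by simp) ?_ (by simp) (by simp), ?_⟩
  · have h₀ := s₀.w
    rw [Category.comp_id] at h₀
    simp only [Iso.refl_hom, Category.comp_id, Iso.symm_hom, asIso_inv, Functor.map_comp]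
    rw [← h₀, Category.assoc, hφ, IsIso.inv_hom_id_assoc]
  · have : CompactSpace ↥W''.left := hW''.toCompactSpace
    have : CompactSpace (Points ((yon S).obj W'')) :=
      (surjective_ofPt (repWith_id @Surjective W'')).compactSpace (Points.continuous_ofPt _)
    have hpt : Function.Surjective (Points.map ((yon S).map e)) := fun x => by
      obtain ⟨t, rfl⟩ := exists_ofScheme x
      obtain ⟨z, hz⟩ := e.left.surjective t
      exact ⟨Points.ofPt (𝟙 _) z, by rw [Points.map_ofPt, Category.id_comp, ← hz, ← ofPt_comp, Category.comp_id]⟩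
    have : CompactSpace (Points (pullback f k)) :=
      (surjective_snd sW.flip hpt).compactSpace (Points.continuous_map _)
    have : CompactSpace (Points ((yon S).obj X₀)) := by
      have hsur : Function.Surjective (Points.map (inv a₀)) := fun x =>
        ⟨Points.map a₀ x, by rw [← Points.map_comp, IsIso.hom_inv_id, Points.map_id]⟩
      exact hsur.compactSpace (Points.continuous_map _)
    have : CompactSpace ↥X₀.left := (Points.schemeHomeo X₀).symm.compactSpace
    exact Scheme.IsQuasiAffine.of_isImmersion i₀.left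

end Groth.Agent.AlgSpLib
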