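import Mathlib

/-!
Rational points of schemes covered, after a field extension, by schemes locally of finite type.
-/

set_option autoImplicit false

universe u

open CategoryTheory CategoryTheory.Limits AlgebraicGeometry Polynomial

namespace Groth.Agent.AlgSpLib

/-- An element transcendental over `K` in a finitely generated domain takes a value from an infinite subfield
as a non-unit. -/
theorem exists_not_isUnit_sub {k K B : Type u} [Field k] [Infinite k] [Field K] [CommRing B] [IsDomain B]
    [Algebra K B] [Algebra.FiniteType K B] (i : k →+* K) {τ : B}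
    (hτ : ∀ p : K[X], Polynomial.aeval τ p = 0 → p = 0) :
    ∃ a : k, ¬ IsUnit (τ - algebraMap K B (i a)) := by
  classical
  let φ : K[X] →ₐ[K] B := Polynomial.aeval τ
  have hinj : Function.Injective φ := (injective_iff_map_eq_zero _).2 hτ
  algebraize [φ.toRingHom]
  have : IsScalarTower K K[X] B := IsScalarTower.of_algebraMap_eq fun x => (φ.commutes x).symm
  have : Algebra.FiniteType K[X] B := Algebra.FiniteType.of_restrictScalars_finiteType K K[X] B
  have : Algebra.FinitePresentation K[X] B := Algebra.FinitePresentation.of_finiteType.1 inferInstance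
  have : Module.IsTorsionFree K[X] B := Module.isTorsionFree_iff_algebraMap_injective.2 hinj
  have : Module.Flat K[X] B := inferInstance
  have ho := PrimeSpectrum.isOpenMap_comap_of_hasGoingDown_of_finitePresentation (R := K[X]) (S := B)
  have hopen := ho.isOpen_range
  let η : PrimeSpectrum K[X] := ⟨⊥, Ideal.isPrime_bot⟩
  have hη : η ∈ Set.range (PrimeSpectrum.comap (algebraMap K[X] B)) :=
    ⟨(⟨⊥, Ideal.isPrime_bot⟩ : PrimeSpectrum B), PrimeSpectrum.ext (Ideal.comap_bot_of_injective _ hinj)⟩
  obtain ⟨_, ⟨_, ⟨h, rfl⟩, rfl⟩, hh, hsub⟩ := PrimeSpectrum.isBasis_basic_opens.exists_subset_of_mem_open hη hopen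
  have h0 : h ≠ 0 := fun e => hh (by show h ∈ (⊥ : Ideal K[X]); simp [e])
  obtain ⟨a, ha⟩ : ∃ a : k, h.eval (i a) ≠ 0 := by
    by_contra! hc
    exact h0 (Polynomial.eq_zero_of_infinite_isRoot h
      ((Set.infinite_range_of_injective i.injective).mono (fun x hx => by
        obtain ⟨c, rfl⟩ := hx
        exact hc c)))
  refine ⟨a, fun hu => ?_⟩
  let P : PrimeSpectrum K[X] := ⟨RingHom.ker (Polynomial.evalRingHom (i a)), RingHom.ker_isPrime _⟩
  obtain ⟨q, hq⟩ := hsub (show P ∈ PrimeSpectrum.basicOpen h from fun hm => ha hm)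
  have hm : Polynomial.X - Polynomial.C (i a) ∈ P.asIdeal := by simp [P]
  rw [← hq] at hm
  have hm' : φ (Polynomial.X - Polynomial.C (i a)) ∈ q.asIdeal := hm
  simp [φ] at hm'
  exact q.isPrime.ne_top (Ideal.eq_top_of_isUnit_mem _ hm' hu)

/-- Two field extensions, the first with a chosen transcendental element, embed in one making it
transcendental over the second. -/
theorem exists_transcendental_amalgam {k K L : Type u} [Field k] [Field K] [Field L] [Algebra k K] [Algebra k L]
    {t : L} (ht : Transcendental k t) :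
    ∃ (Ω : Type u) (_ : Field Ω) (φ : L →+* Ω) (ψ : K →+* Ω),
      φ.comp (algebraMap k L) = ψ.comp (algebraMap k K) ∧ ∀ p : K[X], p.eval₂ ψ (φ t) = 0 → p = 0 := by
  classical
  let a : k[X] →+* L := (Polynomial.aeval t).toRingHom
  let b₀ : k[X] →+* K[X] := Polynomial.mapRingHom (algebraMap k K)
  let M := FractionRing K[X]
  let b : k[X] →+* M := (algebraMap K[X] M).comp b₀
  have hb : Function.Injective b :=
    (IsFractionRing.injective K[X] M).comp (Polynomial.map_injective _ (algebraMap k K).injective)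
  have ha : Function.Injective a := (transcendental_iff_injective.1 ht)
  let aF : FractionRing k[X] →+* L := IsFractionRing.lift ha
  let bF : FractionRing k[X] →+* M := IsFractionRing.lift hb
  algebraize [aF, bF]
  let R := TensorProduct (FractionRing k[X]) L M
  have : Nontrivial R := inferInstance
  obtain ⟨m, hm⟩ := Ideal.exists_maximal R
  let π := Ideal.Quotient.mk m
  let φ : L →+* R ⧸ m := π.comp Algebra.TensorProduct.includeLeftRingHom
  let χ : M →+* R ⧸ m := π.comp (Algebra.TensorProduct.includeRight (R := FractionRing k[X]) (A := L)).toRingHom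
  let ψ : K →+* R ⧸ m := (χ.comp (algebraMap K[X] M)).comp Polynomial.C
  have key : φ.comp aF = χ.comp bF := RingHom.ext fun x => congrArg π
    (Algebra.TensorProduct.tmul_one_eq_one_tmul (A := L) (B := M) x)
  have key' : φ.comp a = χ.comp b := by
    refine RingHom.ext fun x => ?_
    have h := RingHom.congr_fun key (algebraMap _ _ x)
    simpa [aF, bF] using h
  refine ⟨R ⧸ m, Ideal.Quotient.field m, φ, ψ, ?_, fun p hp => ?_⟩
  · refine RingHom.ext fun c => ?_
    have h := RingHom.congr_fun key' (Polynomial.C c)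
    simpa [a, b, b₀, ψ] using h
  · have hX : φ t = χ (algebraMap K[X] M Polynomial.X) := by
      have h := RingHom.congr_fun key' Polynomial.X
      simpa [a, b, b₀] using h
    rw [hX] at hp
    have : p.eval₂ ψ (χ (algebraMap K[X] M Polynomial.X)) = (χ.comp (algebraMap K[X] M)) p := by
      show Polynomial.eval₂RingHom ψ (χ (algebraMap K[X] M Polynomial.X)) p = _
      refine RingHom.congr_fun (Polynomial.ringHom_ext (fun c => ?_) ?_) p
      · simp [ψ]
      · simp
    rw [this] at hp
    exact (injective_iff_map_eq_zero (χ.comp (algebraMap K[X] M))).1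
      (χ.injective.comp (IsFractionRing.injective K[X] M)) p hp

open TensorProduct in
/-- A scheme over an algebraically closed field which becomes covered, over a field extension, by a scheme
locally of finite type has a rational point. -/
theorem exists_section_of_surjective {k K : Type u} [Field k] [IsAlgClosed k] [Field K] {W : Scheme.{u}}
    {A : CommRingCat.{u}} [Nontrivial A] (α : CommRingCat.of k ⟶ A) (β : CommRingCat.of k ⟶ CommRingCat.of K)
    (l : W ⟶ pullback (Spec.map α) (Spec.map β)) [Surjective l]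
    [LocallyOfFiniteType (l ≫ pullback.snd (Spec.map α) (Spec.map β))] :
    ∃ σ : Spec (CommRingCat.of k) ⟶ Spec A, σ ≫ Spec.map α = 𝟙 _ := by
  obtain ⟨m, hm⟩ := Ideal.exists_maximal A
  let L := A ⧸ m
  let : Field L := Ideal.Quotient.field m
  let e : k →+* L := (Ideal.Quotient.mk m).comp α.hom
  suffices hs : Function.Surjective e by
    let E := RingEquiv.ofBijective e ⟨e.injective, hs⟩
    let π : A ⟶ CommRingCat.of k := CommRingCat.ofHom (E.symm.toRingHom.comp (Ideal.Quotient.mk m))
    refine ⟨Spec.map π, ?_⟩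
    rw [← Spec.map_comp, ← Spec.map_id]
    congr 1
    ext x
    exact E.symm_apply_apply x
  by_contra hs
  obtain ⟨t, ht⟩ : ∃ t, t ∉ Set.range e := by simpa [Function.Surjective] using hs
  algebraize [e, β.hom]
  have htr : Transcendental k t := fun halg => by
    have hi : IsIntegral k t := halg.isIntegral
    obtain ⟨r, hr⟩ := minpoly.mem_range_of_degree_eq_one k t
      (IsAlgClosed.degree_eq_one_of_irreducible k (minpoly.irreducible hi))
    exact ht ⟨r, hr⟩
  obtain ⟨Ω, _, φ, ψ, hc, htrΩ⟩ := exists_transcendental_amalgam (K := K) htr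
  -- a point of the fibre product and a point of `W` over it
  let p₁ : A ⟶ CommRingCat.of Ω := CommRingCat.ofHom (φ.comp (Ideal.Quotient.mk m))
  let p₂ : CommRingCat.of K ⟶ CommRingCat.of Ω := CommRingCat.ofHom ψ
  let g : Spec (CommRingCat.of Ω) ⟶ pullback (Spec.map α) (Spec.map β) :=
    pullback.lift (Spec.map p₁) (Spec.map p₂) (by
      rw [← Spec.map_comp, ← Spec.map_comp]
      congr 1
      exact CommRingCat.hom_ext hc)
  let Q := pullback l g
  have : Nonempty Q := ⟨((pullback.snd l g).surjective (IsLocalRing.closedPoint Ω)).choose⟩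
  let z : Q := Classical.arbitrary _
  let Ω' := Q.residueField z
  let w₀ : Spec Ω' ⟶ W := Q.fromSpecResidueField z ≫ pullback.fst l g
  let χ₀ : CommRingCat.of Ω ⟶ Ω' := Spec.preimage (Q.fromSpecResidueField z ≫ pullback.snd l g)
  have hχ₀ : w₀ ≫ l = Spec.map χ₀ ≫ g := by
    simp only [w₀, χ₀, Spec.map_preimage, Category.assoc, pullback.condition]
  -- an affine neighbourhood
  obtain ⟨_, ⟨V₀, hV₀, rfl⟩, hzV, -⟩ := W.isBasis_affineOpens.exists_subset_of_mem_open
    (Set.mem_univ (w₀ (IsLocalRing.closedPoint Ω'))) isOpen_univ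
  let V : W.Opens := V₀
  have hV : IsAffineOpen V := hV₀
  have hr : Set.range w₀ ⊆ Set.range V.ι := by
    rintro _ ⟨x, rfl⟩
    rw [Subsingleton.elim x (IsLocalRing.closedPoint Ω'), Scheme.Opens.range_ι]
    exact hzV
  let w₁ := IsOpenImmersion.lift V.ι w₀ hr ≫ hV.isoSpec.hom
  let ι := hV.isoSpec.inv ≫ V.ι
  have hw₁ : w₁ ≫ ι = w₀ := by simp [w₁, ι]
  let χ : Γ(W, V) ⟶ Ω' := Spec.preimage w₁
  let a : A ⟶ Γ(W, V) := Spec.preimage (ι ≫ l ≫ pullback.fst _ _)
  let b : CommRingCat.of K ⟶ Γ(W, V) := Spec.preimage (ι ≫ l ≫ pullback.snd _ _)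
  have hft : b.hom.FiniteType := by
    have : LocallyOfFiniteType (Spec.map b) := by
      simp only [b, Spec.map_preimage]
      infer_instance
    exact (HasRingHomProperty.Spec_iff (P := @LocallyOfFiniteType)).1 this
  have hka : a ≫ χ = p₁ ≫ χ₀ := by
    apply Spec.map_injective
    simp only [Spec.map_comp, χ, a, Spec.map_preimage]
    rw [← Category.assoc w₁, hw₁, ← Category.assoc w₀, hχ₀]
    simp only [g, Category.assoc]
    exact Spec.map χ₀ ≫= pullback.lift_fst _ _ _
  have hkb : b ≫ χ = p₂ ≫ χ₀ := by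
    apply Spec.map_injective
    simp only [Spec.map_comp, χ, b, Spec.map_preimage]
    rw [← Category.assoc w₁, hw₁, ← Category.assoc w₀, hχ₀]
    simp only [g, Category.assoc]
    exact Spec.map χ₀ ≫= pullback.lift_snd _ _ _
  have hab : α ≫ a = β ≫ b := by
    apply Spec.map_injective
    simp [a, b, pullback.condition]
  let q := RingHom.ker χ.hom
  have : q.IsPrime := RingHom.ker_isPrime _
  let B := Γ(W, V) ⧸ q
  let πB : Γ(W, V) →+* B := Ideal.Quotient.mk q
  algebraize [πB.comp b.hom]
  have : Algebra.FiniteType K B := RingHom.FiniteType.comp_surjective hft Ideal.Quotient.mk_surjective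
  have hm0 : ∀ x ∈ m, (πB.comp a.hom) x = 0 := fun x hx => by
    refine Ideal.Quotient.eq_zero_iff_mem.2 ?_
    show χ.hom (a.hom x) = 0
    have := congrArg (fun f => f.hom x) hka
    simp [p₁] at this
    rw [this, Ideal.Quotient.eq_zero_iff_mem.2 hx, map_zero, map_zero]
  let lL : L →+* B := Ideal.Quotient.lift m (πB.comp a.hom) hm0
  obtain ⟨t₀, rfl⟩ := Ideal.Quotient.mk_surjective t
  have : Infinite k := inferInstance
  obtain ⟨c, hcu⟩ := exists_not_isUnit_sub (B := B) β.hom (τ := lL (Ideal.Quotient.mk m t₀)) fun p hp => by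
    refine htrΩ p (χ₀.hom.injective ?_)
    rw [map_zero, Polynomial.hom_eval₂]
    have h1 : χ₀.hom (φ (Ideal.Quotient.mk m t₀)) = χ.hom (a.hom t₀) :=
      (congrArg (fun f => f.hom t₀) hka).symm
    have h2 : χ₀.hom.comp ψ = χ.hom.comp b.hom := RingHom.ext fun x => (congrArg (fun f => f.hom x) hkb).symm
    rw [h1, h2, ← Polynomial.hom_eval₂]
    refine (RingHom.mem_ker).1 (?_ : p.eval₂ b.hom (a.hom t₀) ∈ q)
    rw [← Ideal.Quotient.eq_zero_iff_mem]
    rw [Polynomial.hom_eval₂]
    exact hp
  refine hcu (?_ : IsUnit _)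
  have hne : Ideal.Quotient.mk m t₀ - e c ≠ 0 := sub_ne_zero.2 fun h => ht ⟨c, h.symm⟩
  have := (isUnit_iff_ne_zero.2 hne).map lL
  convert this using 1
  rw [map_sub]
  congr 1
  exact congrArg (fun f => πB (f.hom c)) hab.symm

end Groth.Agent.AlgSpLib
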